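/-
Lemmas on a finite field extension `K/F` of prime degree.

Main results: `mulL`, `subalg_cases`, `closure_norm_one`, `exists_semilinear_fix`.
-/
import Mathlib.RingTheory.SimpleModule.Basic
import Mathlib.FieldTheory.Finite.GaloisField
import Mathlib.FieldTheory.IntermediateField.Adjoin.Basic
import Mathlib.RingTheory.Norm.Transitivity

set_option autoImplicit false

namespace Cfsg.Agent.FieldExtMax

open Module

variable {F K : Type*} [Field F] [Field K] [Algebra F K]

variable (F) in
/-- Multiplication by `k`. -/
abbrev mulL (k : K) : Module.End F K := LinearMap.mulLeft F k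

/-- A subalgebra of `End_F K` containing `K` is `K` or everything. -/
theorem subalg_cases [Finite K] (hr : (finrank F K).Prime) (S : Subalgebra F (Module.End F K))
    (hS : ∀ k : K, mulL F k ∈ S) :
    (∀ α ∈ S, ∃ k : K, α = mulL F k) ∨ S = ⊤ := by
  classical
  let C : Subalgebra F K :=
    { carrier := {k | ∀ α ∈ S, ∀ x, (α : Module.End F K) (k * x) = k * α x}
      mul_mem' := fun {a b} ha hb α hα x => by rw [mul_assoc, ha α hα, hb α hα, mul_assoc]
      add_mem' := fun {a b} ha hb α hα x => by rw [add_mul, map_add, ha α hα, hb α hα, add_mul]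
      algebraMap_mem' := fun c α _ x => by
        rw [← Algebra.smul_def, ← Algebra.smul_def, map_smul] }
  haveI := Subalgebra.isSimpleOrder_of_finrank_prime F K hr
  rcases eq_bot_or_eq_top C with hC | hC
  · right
    haveI : IsSimpleModule S K := by
      rw [isSimpleModule_iff_toSpanSingleton_surjective]
      refine ⟨inferInstance, fun x hx y => ⟨⟨mulL F (y * x⁻¹), hS _⟩, ?_⟩⟩
      show (y * x⁻¹) * x = y
      rw [mul_assoc, inv_mul_cancel₀ hx, mul_one]
    rw [eq_top_iff]
    intro f _
    have hlin : ∀ (φ : Module.End S K) (x : K), f (φ x) = φ (f x) := by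
      intro φ
      have hφ : ∀ x, φ x = x * φ 1 := fun x => by
        have := φ.map_smul (⟨mulL F x, hS x⟩ : S) 1
        simpa [Subalgebra.smul_def] using this
      have hmem : φ 1 ∈ C := by
        intro α hα x
        have := φ.map_smul (⟨α, hα⟩ : S) x
        simp only [Subalgebra.smul_def, Module.End.smul_def] at this
        rw [hφ x, hφ (α x)] at this
        rw [mul_comm (φ 1) x, mul_comm (φ 1) (α x)]
        exact this.symm
      rw [hC, Algebra.mem_bot] at hmem
      obtain ⟨c, hc⟩ := hmem
      intro x
      rw [hφ x, hφ (f x), ← hc, mul_comm, ← Algebra.smul_def, map_smul, Algebra.smul_def, mul_comm]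
    letI := Fintype.ofFinite K
    obtain ⟨r, hr⟩ := jacobson_density (R := S) (M := K)
      { toFun := f
        map_add' := f.map_add
        map_smul' := hlin } Finset.univ
    have : f = (r : Module.End F K) := LinearMap.ext fun x => hr x (Finset.mem_univ x)
    rw [this]
    exact r.2
  · left
    intro α hα
    refine ⟨α 1, LinearMap.ext fun x => ?_⟩
    have hx : x ∈ C := by rw [hC]; trivial
    have := hx α hα 1
    rw [mul_one] at this
    simp [this, mul_comm]

/-- The elements of norm one generate `K` as a ring. -/
theorem closure_norm_one [Finite F] [Finite K] (hr : 2 ≤ finrank F K) :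
    Subring.closure {e : K | Algebra.norm F e = 1} = ⊤ := by
  classical
  set R := Subring.closure {e : K | Algebra.norm F e = 1}
  haveI : Finite R := inferInstance
  letI : Field R := (Finite.isField_of_domain R).toField
  set q := Nat.card F
  set r := finrank F K
  have hq : 2 ≤ q := Finite.one_lt_card
  have hK : Nat.card K = q ^ r := Module.natCard_eq_pow_finrank (K := F)
  -- the kernel of the norm
  set φ : Kˣ →* Fˣ := Units.map (Algebra.norm F (S := K) : K →* F)
  have hle : φ.range = ⊤ := MonoidHom.range_eq_top.2 (FiniteField.unitsMap_norm_surjective F K)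
  have hker : Nat.card φ.ker * (q - 1) = q ^ r - 1 := by
    have h := φ.ker.card_mul_index
    rw [Subgroup.index_ker, hle, Nat.card_congr Subgroup.topEquiv.toEquiv, Nat.card_units,
      Nat.card_units, hK] at h
    exact h
  have hR : Nat.card φ.ker + 1 ≤ Nat.card R := by
    have : Nat.card (Option φ.ker) ≤ Nat.card R := by
      refine Nat.card_le_card_of_injective
        (fun o => o.elim (0 : R) fun u => ⟨((u : Kˣ) : K), Subring.subset_closure ?_⟩) ?_
      · have := u.2
        rw [MonoidHom.mem_ker, Units.ext_iff] at this
        simpa [φ] using this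
      · rintro (_ | a) (_ | b) h
        · rfl
        · exact absurd (congrArg Subtype.val h).symm (Units.ne_zero _)
        · exact absurd (congrArg Subtype.val h) (Units.ne_zero _)
        · exact congrArg some (Subtype.ext (Units.ext (congrArg Subtype.val h)))
    rwa [Finite.card_option] at this
  by_contra hne
  obtain ⟨x, hx⟩ : ∃ x, x ∉ R := by
    by_contra h
    push Not at h
    exact hne ((Subring.eq_top_iff' _).2 h)
  haveI : Module.Finite R K := Module.Finite.of_finite
  have hpow := Module.natCard_eq_pow_finrank (K := R) (V := K)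
  have ht : 2 ≤ finrank R K := by
    by_contra h
    push Not at h
    have h1 : Nat.card K ≤ Nat.card R := by
      rw [hpow]
      calc Nat.card R ^ finrank R K ≤ Nat.card R ^ 1 :=
            Nat.pow_le_pow_right Nat.card_pos (by omega)
        _ = Nat.card R := pow_one _
    have := (Nat.bijective_iff_injective_and_card (Subtype.val : R → K)).2
      ⟨Subtype.val_injective,
        le_antisymm (Nat.card_le_card_of_injective _ Subtype.val_injective) h1⟩
    obtain ⟨y, rfl⟩ := this.2 x
    exact hx y.2
  have h2 : Nat.card R ^ 2 ≤ q ^ r := by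
    rw [← hK, hpow]
    exact Nat.pow_le_pow_right Nat.card_pos ht
  have h3 : q ^ (r - 1) + 1 ≤ Nat.card φ.ker := by
    by_contra h
    push Not at h
    have h4 : Nat.card φ.ker * (q - 1) ≤ q ^ (r - 1) * (q - 1) :=
      Nat.mul_le_mul_right _ (by omega)
    rw [hker, Nat.mul_sub, mul_one, ← pow_succ, Nat.sub_add_cancel (by omega : 1 ≤ r)] at h4
    have : 2 ≤ q ^ (r - 1) := hq.trans (Nat.le_self_pow (by omega) q)
    have : q ^ (r - 1) ≤ q ^ r := Nat.pow_le_pow_right (by omega) (by omega)
    omega
  have h5 : (q ^ (r - 1)) ^ 2 < q ^ r := by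
    refine lt_of_lt_of_le (Nat.pow_lt_pow_left (by omega) two_ne_zero) h2
  rw [← pow_mul] at h5
  have := (Nat.pow_lt_pow_iff_right (by omega : 1 < q)).1 h5
  omega

open scoped Classical in
/-- A semilinear map `P` of the line `K` with `(P - 1) ^ 2 = 0` is the identity, unless the
characteristic and the degree are two. -/
theorem semilinear_fix (hr : (finrank F K).Prime) (P : Module.End F K)
    (hP : ∀ k : K, ∃ k' : K, ∀ l, P (k * l) = k' * P l)
    (hP2 : ∀ l, P (P l) - 2 * P l + l = 0) (h1 : P 1 ≠ 0) :
    P = 1 ∨ ((2 : K) = 0 ∧ finrank F K = 2 ∧ ∃ τ : K →ₐ[F] K, τ ≠ AlgHom.id F K ∧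
      (∀ k, τ (τ k) = k) ∧ ∀ k l, P (k * l) = τ k * P l) := by
  choose τ hτ using hP
  have hτ1 : ∀ k, P k = τ k * P 1 := fun k => by simpa using hτ k 1
  have hcan : ∀ {a b : K}, a * P 1 = b * P 1 → a = b := fun h => mul_right_cancel₀ h1 h
  have hadd : ∀ a b, τ (a + b) = τ a + τ b := fun a b => hcan (by
    rw [← hτ1, map_add, add_mul, ← hτ1, ← hτ1])
  have hmul : ∀ a b, τ (a * b) = τ a * τ b := fun a b => hcan (by
    rw [← hτ1, hτ a b, mul_assoc, ← hτ1])
  have hone : τ 1 = 1 := hcan (by rw [← hτ1, one_mul])
  have hzero : τ 0 = 0 := by simpa using hadd 0 0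
  let T : K →ₐ[F] K :=
    { toFun := τ, map_one' := hone, map_mul' := hmul, map_zero' := hzero, map_add' := hadd
      commutes' := fun c => hcan (by
        rw [← hτ1, Algebra.algebraMap_eq_smul_one, map_smul, smul_one_mul]) }
  have hT : ∀ k, T k = τ k := fun k => rfl
  set c := P 1
  set d := P c
  have hc : d - 2 * c + 1 = 0 := hP2 1
  have hform : ∀ k, τ (τ k) * d - 2 * (τ k * c) + k = 0 := fun k => by
    have := hP2 k
    rw [hτ1 k, hτ (τ k) c] at this
    exact this
  by_cases hid : ∀ k, τ k = k
  · left
    have hc1 : c = 1 := by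
      have h5 : (c - 1) * (c - 1) = 0 := by
        have : d = c * c := by
          have := hτ1 c
          rwa [hid] at this
        linear_combination hc - this
      simpa [sub_eq_zero] using h5
    refine LinearMap.ext fun k => ?_
    show P k = k
    rw [hτ1 k, hid, hc1, mul_one]
  · push Not at hid
    obtain ⟨θ, hθ⟩ := hid
    -- eliminate the middle character
    have hkey : ∀ k, (τ θ - τ (τ θ)) * (2 * (τ k * c)) = (θ - τ (τ θ)) * k := by
      intro k
      have h1' := hform (θ * k)
      rw [hmul, hmul] at h1'
      linear_combination τ (τ θ) * hform k - h1'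
    have hne : τ θ - τ (τ θ) ≠ 0 := fun h => hθ ((T.toRingHom.injective (sub_eq_zero.1 h)).symm)
    by_cases h2 : (2 : K) = 0
    · have hfix : ∀ x, τ (τ x) = x := by
        intro x
        have h6 : d = 1 := by linear_combination hc + (c - 1) * h2
        have := hform x
        rw [h6] at this
        linear_combination this + (τ x * c - x) * h2
      refine Or.inr ⟨h2, ?_, T,
        fun h => hθ (AlgHom.congr_fun h θ), hfix, hτ⟩
      -- the fixed field is `F`, so there is a root of degree two
      let Fix := AlgHom.equalizer T (AlgHom.id F K)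
      haveI := Subalgebra.isSimpleOrder_of_finrank_prime F K hr
      have hbot : Fix = ⊥ := (eq_bot_or_eq_top Fix).resolve_right fun h => hθ (by
        have : θ ∈ Fix := by rw [h]; trivial
        exact this)
      obtain ⟨a, ha⟩ : ∃ a : F, algebraMap F K a = θ + τ θ := by
        have : θ + τ θ ∈ Fix := by
          show T (θ + τ θ) = θ + τ θ
          rw [hT, hadd, hfix, add_comm]
        rwa [hbot, Algebra.mem_bot] at this
      obtain ⟨b, hb⟩ : ∃ b : F, algebraMap F K b = θ * τ θ := by
        have : θ * τ θ ∈ Fix := by
          show T (θ * τ θ) = θ * τ θ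
          rw [hT, hmul, hfix, mul_comm]
        rwa [hbot, Algebra.mem_bot] at this
      have hquad : θ * θ = algebraMap F K a * θ - algebraMap F K b := by rw [ha, hb]; ring
      let S : Submodule F K := Submodule.span F {1, θ}
      have hθS : θ ∈ S := Submodule.subset_span (by simp)
      have h1S : (1 : K) ∈ S := Submodule.subset_span (by simp)
      let A : Subalgebra F K := S.toSubalgebra h1S (by
        intro x y hx hy
        obtain ⟨x1, x2, rfl⟩ := Submodule.mem_span_pair.1 hx
        obtain ⟨y1, y2, rfl⟩ := Submodule.mem_span_pair.1 hy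
        refine Submodule.mem_span_pair.2
          ⟨x1 * y1 - x2 * y2 * b, x1 * y2 + x2 * y1 + x2 * y2 * a, ?_⟩
        simp only [Algebra.smul_def, map_sub, map_add, map_mul]
        linear_combination -(algebraMap F K x2 * algebraMap F K y2) * hquad)
      have hA : A = ⊤ := (eq_bot_or_eq_top A).resolve_left fun h => hθ (by
        have : θ ∈ A := hθS
        rw [h, Algebra.mem_bot] at this
        obtain ⟨c', rfl⟩ := this
        exact T.commutes c')
      have hle : (⊤ : Submodule F K) ≤ S := fun x _ => by
        have : x ∈ A := by rw [hA]; trivial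
        exact this
      haveI : Module.Finite F K := Module.finite_of_finrank_pos hr.pos
      have h9 := Submodule.finrank_mono hle
      rw [finrank_top] at h9
      have h10 : finrank F S ≤ 2 :=
        le_trans (Submodule.finrank_mono (t := Submodule.span F (↑({1, θ} : Finset K) : Set K))
          (Submodule.span_mono (fun x hx => by simpa using hx)))
          ((finrank_span_finset_le_card (R := F) ({1, θ} : Finset K)).trans Finset.card_le_two)
      have := hr.two_le
      omega
    · exfalso
      have h2c : (2 : K) * c ≠ 0 := mul_ne_zero h2 h1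
      obtain ⟨e, he⟩ : ∃ e, ∀ k, τ k = e * k := by
        refine ⟨(θ - τ (τ θ)) * ((τ θ - τ (τ θ)) * (2 * c))⁻¹, fun k => ?_⟩
        have := hkey k
        field_simp
        linear_combination this
      have he1 : e = 1 := by simpa [hone] using (he 1).symm
      exact hθ (by rw [he θ, he1, one_mul])

end Cfsg.Agent.FieldExtMax
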