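/-
Overgroups of the normaliser of an extension field `K` of prime degree in a linear group over `F`:
the unipotent elements of a line stabiliser.

Main definitions: `Norms`, `Overgroup`, `Trans`, `Tset`.
Main results: `Overgroup.trans_of_full`, `Overgroup.semilinear`.
-/
import Cfsg.Agent.Lib.FieldExtMax.Basic
import Mathlib.LinearAlgebra.Transvection.Basic

set_option autoImplicit false
set_option linter.unusedSectionVars false

namespace Cfsg.Agent.FieldExtMax

open Module

variable {F K V : Type*} [Field F] [Finite F] [Field K] [Finite K] [Algebra F K]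
  [AddCommGroup V] [Module F V] [Module K V] [IsScalarTower F K V] [Finite V]

variable (K) in
/-- `g` is semilinear over `K`. -/
def Norms (g : V ≃ₗ[F] V) : Prop := ∀ k : K, ∃ k' : K, ∀ x, g (k • x) = k' • g x

variable (K) in
/-- `M` contains all elements of determinant one normalising `K`. -/
structure Overgroup (M : Subgroup (V ≃ₗ[F] V)) : Prop where
  deg : (finrank F K).Prime
  dim : 2 ≤ finrank K V
  semi : ∀ g : V ≃ₗ[F] V, Norms K g → LinearMap.det (g : V →ₗ[F] V) = 1 → g ∈ M

/-- All transvections lie in `M`. -/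
def Trans (M : Subgroup (V ≃ₗ[F] V)) : Prop :=
  ∀ (v : V) (φ : Dual F V), φ v = 0 → ∃ g ∈ M, ∀ x, g x = x + φ x • v

variable {M : Subgroup (V ≃ₗ[F] V)}

lemma smul_inj {k l : K} {a : V} (ha : a ≠ 0) (h : k • a = l • a) : k = l := by
  have h1 : (k - l) • a = 0 := by rw [sub_smul, h, sub_self]
  exact sub_eq_zero.1 ((smul_eq_zero.1 h1).resolve_right ha)

/-- A `K`-functional with given values at a vector off a subspace. -/
lemma exists_kfun {W : Submodule K V} {u : V} (hu : u ∉ W) :
    ∃ ψ : Dual K V, (∀ w ∈ W, ψ w = 0) ∧ ψ u = 1 := by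
  obtain ⟨φ, hφu, hφ⟩ := Submodule.exists_dual_map_eq_bot_of_notMem hu inferInstance
  refine ⟨(φ u)⁻¹ • φ, fun w hw => ?_, by simp [hφu]⟩
  have h0 : φ w = 0 := by
    have := Submodule.mem_map_of_mem (f := φ) hw
    rwa [hφ, Submodule.mem_bot] at this
  simp [h0]

lemma exists_coord {a : V} (ha : a ≠ 0) : ∃ ψ : Dual K V, ψ a = 1 := by
  obtain ⟨ψ, -, h⟩ := exists_kfun (W := (⊥ : Submodule K V)) (by simpa using ha)
  exact ⟨ψ, h⟩

lemma Overgroup.exists_off (hM : Overgroup K M) (a : V) : ∃ w : V, w ∉ K ∙ a := by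
  by_contra h
  push Not at h
  have h1 : finrank K (K ∙ a) ≤ 1 := by simpa using finrank_span_le_card (R := K) ({a} : Set V)
  rw [show (K ∙ a) = ⊤ from (Submodule.eq_top_iff').2 h, finrank_top] at h1
  have := hM.dim
  omega

lemma Overgroup.klin_mem (hM : Overgroup K M) (f : V →ₗ[K] V)
    (hd : Algebra.norm F (LinearMap.det f) = 1) : ∃ g ∈ M, ∀ x, g x = f x := by
  have hdet : LinearMap.det f ≠ 0 := fun h => by
    rw [h, Algebra.norm_zero] at hd
    exact zero_ne_one hd
  have hinj : Function.Injective f :=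
    ((Module.End.isUnit_iff f).1 ((LinearMap.isUnit_iff_isUnit_det f).2 hdet.isUnit)).1
  let e : V ≃ₗ[F] V := LinearEquiv.ofBijective (f.restrictScalars F)
    ⟨hinj, Finite.surjective_of_injective hinj⟩
  refine ⟨e, hM.semi e (fun k => ⟨k, fun x => f.map_smul k x⟩) ?_, fun x => rfl⟩
  show LinearMap.det (f.restrictScalars F) = 1
  rw [LinearMap.det_restrictScalars, hd]

lemma Overgroup.ktrans_mem (hM : Overgroup K M) (ψ : Dual K V) {b : V} (hb : ψ b = 0) :
    ∃ g ∈ M, ∀ x, g x = x + ψ x • b :=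
  hM.klin_mem (LinearMap.transvection ψ b)
    (by rw [LinearMap.transvection.det, hb, add_zero, map_one])

/-- `K`-linear elements of `M` are transitive on non-zero vectors. -/
lemma Overgroup.exists_move (hM : Overgroup K M) {a b : V} (ha : a ≠ 0) (hb : b ≠ 0) :
    ∃ g ∈ M, (∀ (k : K) x, g (k • x) = k • g x) ∧ g a = b := by
  have step : ∀ {a b : V}, a ≠ 0 → b ≠ 0 → b ∉ K ∙ a →
      ∃ g ∈ M, (∀ (k : K) x, g (k • x) = k • g x) ∧ g a = b := by
    intro a b ha hb hab
    have hab' : a ∉ K ∙ (b - a) := by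
      intro h
      obtain ⟨c, hc⟩ := Submodule.mem_span_singleton.1 h
      by_cases hc0 : c = 0
      · exact ha (by rw [← hc, hc0, zero_smul])
      · refine hab (Submodule.mem_span_singleton.2 ⟨c⁻¹ + 1, ?_⟩)
        rw [add_smul, one_smul]
        conv_lhs => enter [1, 2]; rw [← hc]
        rw [inv_smul_smul₀ hc0, sub_add_cancel]
    obtain ⟨ψ, hψ, hψa⟩ := exists_kfun hab'
    obtain ⟨g, hg, hgx⟩ := hM.ktrans_mem ψ (hψ _ (Submodule.mem_span_singleton_self _))
    refine ⟨g, hg, fun k x => ?_, by rw [hgx, hψa, one_smul, add_sub_cancel]⟩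
    rw [hgx, hgx, map_smul, smul_eq_mul, mul_smul, smul_add]
  by_cases hab : b ∈ K ∙ a
  · obtain ⟨w, hw⟩ := hM.exists_off a
    obtain ⟨c, hc⟩ := Submodule.mem_span_singleton.1 hab
    have hc0 : c ≠ 0 := fun h => hb (by rw [← hc, h, zero_smul])
    have hw0 : w ≠ 0 := fun h => hw (h ▸ Submodule.zero_mem _)
    have hbw : b ∉ K ∙ w := fun h => by
      obtain ⟨d, hd⟩ := Submodule.mem_span_singleton.1 h
      have hd0 : d ≠ 0 := fun h => hb (by rw [← hd, h, zero_smul])
      refine hw (Submodule.mem_span_singleton.2 ⟨d⁻¹ * c, ?_⟩)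
      rw [mul_smul, hc, ← hd, inv_smul_smul₀ hd0]
    obtain ⟨g1, hg1, hl1, h1⟩ := step ha hw0 hw
    obtain ⟨g2, hg2, hl2, h2⟩ := step hw0 hb hbw
    refine ⟨g2 * g1, mul_mem hg2 hg1, fun k x => ?_, ?_⟩
    · simp [hl1, hl2]
    · simp [h1, h2]
  · exact step ha hb hab

/-- The elements `x ↦ x + c x • a` of `M`. -/
def Tset (M : Subgroup (V ≃ₗ[F] V)) (a : V) : AddSubgroup (V →ₗ[F] K) where
  carrier := {c | (∀ k : K, c (k • a) = 0) ∧ ∃ g ∈ M, ∀ x, g x = x + c x • a}
  zero_mem' := ⟨fun k => rfl, 1, one_mem M, fun x => by simp⟩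
  add_mem' := by
    rintro c d ⟨hc, g, hg, hgx⟩ ⟨hd, h, hh, hhx⟩
    refine ⟨fun k => by simp [hc k, hd k], g * h, mul_mem hg hh, fun x => ?_⟩
    show g (h x) = _
    rw [hgx, hhx, map_add, hc, add_zero, LinearMap.add_apply, add_smul]
    abel
  neg_mem' := by
    rintro c ⟨hc, g, hg, hgx⟩
    refine ⟨fun k => by simp [hc k], g⁻¹, inv_mem hg, fun x => ?_⟩
    apply g.injective
    show g (g.symm x) = g _
    rw [LinearEquiv.apply_symm_apply, hgx, LinearMap.neg_apply, map_add, neg_smul, ← neg_smul,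
      hc, add_zero]
    simp

lemma mem_Tset {a : V} {c : V →ₗ[F] K} : c ∈ Tset M a ↔
    (∀ k : K, c (k • a) = 0) ∧ ∃ g ∈ M, ∀ x, g x = x + c x • a := Iff.rfl

/-- `g` maps the line of `a` into itself by `P`. -/
def MapsBy (g : V ≃ₗ[F] V) (a : V) (P : Module.End F K) : Prop :=
  ∀ l : K, g (l • a) = P l • a

lemma exists_mapsBy {g : V ≃ₗ[F] V} {a : V} (ha : a ≠ 0)
    (h : ∀ l : K, g (l • a) ∈ K ∙ a) : ∃ P : Module.End F K, MapsBy g a P := by
  obtain ⟨ψ, hψ⟩ := exists_coord (K := K) ha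
  refine ⟨(ψ.restrictScalars F) ∘ₗ (g : V →ₗ[F] V) ∘ₗ
    ((LinearMap.toSpanSingleton K V a).restrictScalars F), fun l => ?_⟩
  obtain ⟨k, hk⟩ := Submodule.mem_span_singleton.1 (h l)
  simp [LinearMap.toSpanSingleton_apply, ← hk, hψ]

lemma MapsBy.symm {g : V ≃ₗ[F] V} {a : V} (ha : a ≠ 0) {P : Module.End F K} (h : MapsBy g a P) :
    ∃ Q, MapsBy g⁻¹ a Q ∧ (∀ l, Q (P l) = l) ∧ ∀ l, P (Q l) = l := by
  have hinj : Function.Injective P := fun k l hkl => smul_inj ha (g.injective (by rw [h, h, hkl]))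
  have hsurj := Finite.surjective_of_injective hinj
  let e := LinearEquiv.ofBijective P ⟨hinj, hsurj⟩
  refine ⟨e.symm, fun l => ?_, fun l => e.symm_apply_apply l, fun l => e.apply_symm_apply l⟩
  apply g.injective
  show g (g.symm (l • a)) = _
  rw [LinearEquiv.apply_symm_apply, h]
  exact congrArg (· • a) (e.apply_symm_apply l).symm

/-- Conjugation by a stabiliser of the line. -/
lemma Tset_conj {g : V ≃ₗ[F] V} (hg : g ∈ M) {a : V} (ha : a ≠ 0) {P : Module.End F K}
    (hP : MapsBy g a P) {c : V →ₗ[F] K} (hc : c ∈ Tset M a) :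
    P ∘ₗ c ∘ₗ ((g⁻¹ : V ≃ₗ[F] V) : V →ₗ[F] V) ∈ Tset M a := by
  obtain ⟨Q, hQ, -, -⟩ := hP.symm ha
  obtain ⟨hc0, u, hu, hux⟩ := hc
  refine ⟨fun k => by
    show P (c (g⁻¹ (k • a))) = 0
    rw [hQ, hc0, map_zero], g * u * g⁻¹, mul_mem (mul_mem hg hu) (inv_mem hg),
    fun x => ?_⟩
  show g (u (g⁻¹ x)) = _
  rw [hux, map_add, hP]
  show g (g.symm x) + _ = _
  rw [LinearEquiv.apply_symm_apply]
  rfl

lemma Overgroup.ktrans_Tset (hM : Overgroup K M) {a : V} (ψ : Dual K V) (hψ : ψ a = 0) :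
    ψ.restrictScalars F ∈ Tset M a :=
  ⟨fun k => by simp [hψ], hM.ktrans_mem ψ hψ⟩

/-- `T` is stable under multiplication by `K` on the left. -/
lemma Overgroup.Tset_left (hM : Overgroup K M) {a : V} (ha : a ≠ 0) (k : K) {c : V →ₗ[F] K}
    (hc : c ∈ Tset M a) : (mulL F k) ∘ₗ c ∈ Tset M a := by
  revert c
  have hk : k ∈ Subring.closure {e : K | Algebra.norm F e = 1} := by
    rw [closure_norm_one hM.deg.two_le]; trivial
  induction hk using Subring.closure_induction with
  | mem e he =>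
    intro c hc
    obtain ⟨ψ, hψ⟩ := exists_coord (K := K) ha
    obtain ⟨d, hd, hdx⟩ := hM.klin_mem (LinearMap.transvection ψ ((e - 1) • a))
      (by rw [LinearMap.transvection.det, map_smul, hψ]; simpa using he)
    have hP : MapsBy d a (mulL F e) := fun l => by
      rw [hdx, LinearMap.transvection.apply, map_smul, hψ, smul_smul]
      simp [← add_smul, mul_sub, mul_comm l e]
    obtain ⟨hc0, -⟩ := id hc
    convert Tset_conj hd ha hP hc using 1
    refine LinearMap.ext fun x => ?_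
    show e * c x = e * c (d⁻¹ x)
    have hx : d (d⁻¹ x) = x := d.apply_symm_apply x
    rw [hdx, LinearMap.transvection.apply, smul_smul] at hx
    conv_lhs => rw [← hx]
    rw [map_add, hc0, add_zero]
  | zero => intro c _; simpa using (Tset M a).zero_mem
  | one => intro c hc; simpa using hc
  | add x y _ _ hx hy =>
    intro c hc
    convert (Tset M a).add_mem (hx hc) (hy hc) using 1
    refine LinearMap.ext fun z => ?_
    simp [add_mul]
  | neg x _ hx =>
    intro c hc
    convert (Tset M a).neg_mem (hx hc) using 1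
    refine LinearMap.ext fun z => ?_
    simp
  | mul x y _ _ hx hy =>
    intro c hc
    convert hx (hy hc) using 1
    refine LinearMap.ext fun z => ?_
    simp [mul_assoc]

/-- `T` contains all the maps killing the line. -/
def Full (M : Subgroup (V ≃ₗ[F] V)) (a : V) : Prop :=
  ∀ (φ : Dual F V), (∀ k : K, φ (k • a) = 0) → ∀ k : K, φ.smulRight k ∈ Tset M a

theorem Overgroup.trans_of_full (hM : Overgroup K M) {a : V} (ha : a ≠ 0)
    (hfull : Full (K := K) M a) : Trans M := by
  -- axes killing the line of the centre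
  have ax1 : ∀ (v : V) (φ : Dual F V), (∀ k : K, φ (k • v) = 0) →
      ∃ g ∈ M, ∀ x, g x = x + φ x • v := by
    intro v φ hφ
    by_cases hv : v = 0
    · exact ⟨1, one_mem M, fun x => by simp [hv]⟩
    obtain ⟨g, hg, hgl, hga⟩ := hM.exists_move ha hv
    obtain ⟨-, u, hu, hux⟩ := hfull (φ ∘ₗ (g : V →ₗ[F] V)) (fun k => by
      simp [hgl, hga, hφ]) 1
    refine ⟨g * u * g⁻¹, mul_mem (mul_mem hg hu) (inv_mem hg), fun x => ?_⟩
    show g (u (g⁻¹ x)) = _
    rw [hux, map_add, LinearMap.smulRight_apply, smul_assoc, map_smul, one_smul, hga]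
    show g (g.symm x) + φ (g (g.symm x)) • v = _
    rw [LinearEquiv.apply_symm_apply]
  intro v φ hφ
  by_cases hv : v = 0
  · exact ⟨1, one_mem M, fun x => by simp [hv]⟩
  obtain ⟨w, hw⟩ := hM.exists_off v
  obtain ⟨χ, hχv, hχw⟩ := exists_kfun hw
  have hw0 : w ≠ 0 := fun h => hw (h ▸ Submodule.zero_mem _)
  have hvw : v ∉ K ∙ w := fun h => by
    obtain ⟨c, hc⟩ := Submodule.mem_span_singleton.1 h
    have hc0 : c ≠ 0 := fun h => hv (by rw [← hc, h, zero_smul])
    exact hw (Submodule.mem_span_singleton.2 ⟨c⁻¹, by rw [← hc, inv_smul_smul₀ hc0]⟩)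
  obtain ⟨ψ, hψw, hψv⟩ := exists_kfun hvw
  let φ2 : Dual F V := φ ∘ₗ (ψ.smulRight v).restrictScalars F
  have hφ2 : ∀ x, φ2 x = φ (ψ x • v) := fun x => rfl
  have h2w : ∀ k : K, φ2 (k • w) = 0 := fun k => by
    rw [hφ2, hψw (k • w) (Submodule.smul_mem _ k (Submodule.mem_span_singleton_self w)), zero_smul,
      map_zero]
  have h2v : φ2 v = 0 := by rw [hφ2, hψv, one_smul, hφ]
  obtain ⟨g1, hg1, hg1x⟩ := ax1 v (φ - φ2) fun k => by
    simp [hφ2, hψv]
  -- an axis killing the line of `v` with value one at `w`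
  obtain ⟨α, hα, hαw⟩ : ∃ α : Dual F V, (∀ k : K, α (k • v) = 0) ∧ α w = 1 := by
    have hnm : w ∉ (K ∙ v).restrictScalars F := hw
    obtain ⟨φ', hφu, hφ'⟩ := Submodule.exists_dual_map_eq_bot_of_notMem hnm inferInstance
    refine ⟨(φ' w)⁻¹ • φ', fun k => ?_, by simp [hφu]⟩
    have h0 : φ' (k • v) = 0 := by
      have := Submodule.mem_map_of_mem (f := φ')
        (show k • v ∈ (K ∙ v).restrictScalars F from
          Submodule.smul_mem _ k (Submodule.mem_span_singleton_self v))
      rwa [hφ', Submodule.mem_bot] at this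
    simp [h0]
  obtain ⟨ga, hga, hgax⟩ := ax1 v α hα
  obtain ⟨gb, hgb, hgbx⟩ := ax1 w φ2 h2w
  have hαv : α v = 0 := by simpa using hα 1
  have h2w' : φ2 w = 0 := by simpa using h2w 1
  refine ⟨g1 * (ga * gb * ga⁻¹ * gb⁻¹),
    mul_mem hg1 (mul_mem (mul_mem (mul_mem hga hgb) (inv_mem hga)) (inv_mem hgb)), fun x => ?_⟩
  have hbi : gb⁻¹ x = x - φ2 x • w := by
    apply gb.injective
    show gb (gb.symm x) = _
    rw [LinearEquiv.apply_symm_apply, hgbx]
    simp [h2w']
  have hai : ∀ y, ga⁻¹ y = y - α y • v := fun y => by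
    apply ga.injective
    show ga (ga.symm y) = _
    rw [LinearEquiv.apply_symm_apply, hgax]
    simp [hαv]
  show g1 (ga (gb (ga⁻¹ (gb⁻¹ x)))) = _
  rw [hbi, hai, hgbx, hgax, hg1x]
  simp only [map_add, map_sub, map_smul, LinearMap.sub_apply, smul_eq_mul, hαv, hαw, h2v, h2w',
    hφ, mul_zero, mul_one, sub_zero, add_zero]
  module

/-- Elements of `M` fixing a line are semilinear on it, unless `T` is full. -/
theorem Overgroup.semilinear (hM : Overgroup K M) {a : V} (ha : a ≠ 0)
    (hnf : ¬ Full (K := K) M a) {g : V ≃ₗ[F] V} (hg : g ∈ M) {P : Module.End F K}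
    (hP : MapsBy g a P) : ∀ k : K, ∃ k' : K, ∀ l, P (k * l) = k' * P l := by
  let S : Subalgebra F (Module.End F K) :=
    { carrier := {α | ∀ c ∈ Tset M a, α ∘ₗ c ∈ Tset M a}
      mul_mem' := fun {α β} hα hβ c hc => by
        have := hα _ (hβ c hc)
        exact this
      one_mem' := fun c hc => hc
      add_mem' := fun {α β} hα hβ c hc => by
        rw [LinearMap.add_comp]
        exact (Tset M a).add_mem (hα c hc) (hβ c hc)
      zero_mem' := fun c hc => by
        rw [LinearMap.zero_comp]; exact zero_mem _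
      algebraMap_mem' := fun r c hc => by
        convert hM.Tset_left ha (algebraMap F K r) hc using 1
        refine LinearMap.ext fun x => ?_
        simp [Algebra.smul_def] }
  have hS : ∀ k : K, mulL F k ∈ S := fun k c hc => hM.Tset_left ha k hc
  rcases subalg_cases hM.deg S hS with h | h
  · intro k
    obtain ⟨Q, hQ, hQP, hPQ⟩ := hP.symm ha
    have hmem : P ∘ₗ mulL F k ∘ₗ Q ∈ S := by
      intro c hc
      have h1 := Tset_conj (inv_mem hg) ha hQ hc
      rw [inv_inv] at h1
      have h2 := Tset_conj hg ha hP (hM.Tset_left ha k h1)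
      convert h2 using 1
      refine LinearMap.ext fun x => ?_
      show P (k * Q (c x)) = P (k * Q (c (g (g⁻¹ x))))
      rw [show g (g⁻¹ x) = x from g.apply_symm_apply x]
    obtain ⟨k', hk'⟩ := h _ hmem
    refine ⟨k', fun l => ?_⟩
    have := LinearMap.congr_fun hk' (P l)
    simpa [hQP] using this
  · refine absurd ?_ hnf
    set L : Submodule F V := (K ∙ a).restrictScalars F
    let Y : Submodule F (Dual F V) :=
      { carrier := {φ | (∀ k : K, φ (k • a) = 0) ∧ ∀ k : K, φ.smulRight k ∈ Tset M a}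
        zero_mem' := ⟨fun k => rfl, fun k => by
          convert zero_mem (Tset (K := K) M a) using 1
          refine LinearMap.ext fun x => ?_
          simp⟩
        add_mem' := fun {φ φ'} h h' => ⟨fun k => by simp [h.1 k, h'.1 k], fun k => by
          convert (Tset M a).add_mem (h.2 k) (h'.2 k) using 1
          refine LinearMap.ext fun x => ?_
          simp [add_smul]⟩
        smul_mem' := fun r φ h => ⟨fun k => by simp [h.1 k], fun k => by
          convert h.2 (r • k) using 1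
          refine LinearMap.ext fun x => ?_
          simp [smul_smul, mul_comm]⟩ }
    have hY : ∀ (ψ : Dual K V), ψ a = 0 → ∀ χ : Dual F K, χ ∘ₗ ψ.restrictScalars F ∈ Y := by
      intro ψ hψ χ
      refine ⟨fun k => by simp [hψ], fun k => ?_⟩
      have hmem : χ.smulRight k ∈ S := h ▸ Algebra.mem_top
      convert hmem _ (hM.ktrans_Tset ψ hψ) using 1
      rfl
    have hco : Y.dualCoannihilator ≤ L := by
      intro x hx
      rw [Submodule.mem_dualCoannihilator] at hx
      by_contra hxL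
      obtain ⟨ψ, hψW, hψx⟩ := exists_kfun (show x ∉ K ∙ a from hxL)
      obtain ⟨χ, hχ⟩ : ∃ χ : Dual F K, χ 1 ≠ 0 := by
        by_contra hh
        push Not at hh
        exact one_ne_zero ((Module.forall_dual_apply_eq_zero_iff F (1 : K)).1 hh)
      apply hχ
      simpa [hψx] using hx _ (hY ψ (hψW a (Submodule.mem_span_singleton_self a)) χ)
    intro φ hφ
    have : φ ∈ L.dualAnnihilator := by
      rw [Submodule.mem_dualAnnihilator]
      intro w hw
      obtain ⟨k, rfl⟩ := Submodule.mem_span_singleton.1 (show w ∈ K ∙ a from hw)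
      exact hφ k
    have := Submodule.dualAnnihilator_anti hco this
    rw [Subspace.dualCoannihilator_dualAnnihilator_eq] at this
    exact this.2

end Cfsg.Agent.FieldExtMax
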