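/-
The images of a `K`-line under an overgroup without transvections meet trivially.

Main definitions: `line`, `img`.
Main results: `pencil_bound`, `Overgroup.disjoint_or`.
-/
import Cfsg.Agent.Lib.FieldExtMax.Setup
import Mathlib.FieldTheory.Fixed

set_option autoImplicit false
set_option linter.unusedSectionVars false

namespace Cfsg.Agent.FieldExtMax

open Module

variable {F K V : Type*} [Field F] [Finite F] [Field K] [Finite K] [Algebra F K]
  [AddCommGroup V] [Module F V] [Module K V] [IsScalarTower F K V] [Finite V]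

/-- Subspaces through `W` meeting pairwise in `W`. -/
theorem pencil_bound (W X : Submodule F V) (S : Finset (Submodule F V)) (r : ℕ)
    (hS : ∀ A ∈ S, W ≤ A ∧ A ≤ X ∧ finrank F A = r)
    (hp : ∀ A ∈ S, ∀ B ∈ S, A ≠ B → A ⊓ B = W) (hW : W ≤ X) :
    S.card * (Nat.card F ^ r - Nat.card F ^ finrank F W)
      ≤ Nat.card F ^ finrank F X - Nat.card F ^ finrank F W := by
  classical
  letI := Fintype.ofFinite V
  have hcard : ∀ A : Submodule F V, W ≤ A →
      (Finset.univ.filter fun x => x ∈ A ∧ x ∉ W).card
        = Nat.card F ^ finrank F A - Nat.card F ^ finrank F W := by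
    intro A hA
    have e : (Finset.univ.filter fun x => x ∈ A ∧ x ∉ W)
        = (Finset.univ.filter fun x => x ∈ A) \ (Finset.univ.filter fun x => x ∈ W) := by
      ext x; simp
    have hc : ∀ B : Submodule F V,
        (Finset.univ.filter fun x => x ∈ B).card = Nat.card F ^ finrank F B := fun B => by
      rw [← Module.natCard_eq_pow_finrank (K := F) (V := B), Nat.card_eq_fintype_card,
        ← Fintype.card_subtype]
    rw [e, Finset.card_sdiff_of_subset (fun x hx => by
      simp only [Finset.mem_filter] at hx ⊢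
      exact ⟨hx.1, hA hx.2⟩), hc, hc]
  have h1 : (S.biUnion fun A => Finset.univ.filter fun x => x ∈ A ∧ x ∉ W).card
      = S.card * (Nat.card F ^ r - Nat.card F ^ finrank F W) := by
    rw [Finset.card_biUnion, Finset.sum_congr rfl fun A hA => ?_, Finset.sum_const, smul_eq_mul]
    · rw [hcard A (hS A hA).1, (hS A hA).2.2]
    · intro A hA B hB hAB
      rw [Function.onFun, Finset.disjoint_left]
      intro x hx hy
      simp only [Finset.mem_filter] at hx hy
      exact hx.2.2 ((hp A hA B hB hAB).le ⟨hx.2.1, hy.2.1⟩)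
  rw [← h1, ← hcard X hW]
  refine Finset.card_le_card fun x hx => ?_
  simp only [Finset.mem_biUnion, Finset.mem_filter] at hx ⊢
  obtain ⟨A, hA, -, hxA, hxW⟩ := hx
  exact ⟨Finset.mem_univ _, (hS A hA).2.1 hxA, hxW⟩

variable (F K) in
/-- The `K`-line of `a` as an `F`-subspace. -/
noncomputable def line (a : V) : Submodule F V :=
  LinearMap.range ((LinearMap.toSpanSingleton K V a).restrictScalars F)

lemma mem_line {a x : V} : x ∈ line F K a ↔ ∃ k : K, k • a = x := by
  simp [line, LinearMap.mem_range, LinearMap.toSpanSingleton_apply]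

lemma mem_line_iff_span {a x : V} : x ∈ line F K a ↔ x ∈ K ∙ a := by
  rw [mem_line, Submodule.mem_span_singleton]

lemma finrank_line {a : V} (ha : a ≠ 0) : finrank F (line F K a) = finrank F K :=
  LinearMap.finrank_range_of_inj fun _ _ h => smul_inj ha h

variable (K) in
/-- The image of the line of `a` under `g`. -/
noncomputable def img (a : V) (g : V ≃ₗ[F] V) : Submodule F V :=
  (line F K a).map (g : V →ₗ[F] V)

lemma img_mul (a : V) (g h : V ≃ₗ[F] V) :
    img K a (g * h) = (img K a h).map (g : V →ₗ[F] V) := by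
  rw [img, img, ← Submodule.map_comp]
  rfl

lemma finrank_img {a : V} (ha : a ≠ 0) (g : V ≃ₗ[F] V) : finrank F (img K a g) = finrank F K := by
  rw [img, LinearEquiv.finrank_map_eq, finrank_line ha]

lemma finrank_img_inf (a : V) (g h : V ≃ₗ[F] V) :
    finrank F (img K a g ⊓ img K a h : Submodule F V)
      = finrank F (img K a (h⁻¹ * g) ⊓ line F K a : Submodule F V) := by
  rw [← LinearEquiv.finrank_map_eq h (img K a (h⁻¹ * g) ⊓ line F K a),
    Submodule.map_inf _ h.injective, ← img_mul, mul_inv_cancel_left]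
  rfl

variable {M : Subgroup (V ≃ₗ[F] V)}

/-- Two images of a line are equal or meet trivially, apart from one case. -/
theorem Overgroup.disjoint_or (hM : Overgroup K M) {a : V} (ha : a ≠ 0)
    (hnf : ¬ Full (K := K) M a) :
    (∀ g ∈ M, img K a g ≠ line F K a → img K a g ⊓ line F K a = ⊥) ∨
      (Nat.card F = 2 ∧ finrank F K = 2) := by
  classical
  refine or_iff_not_imp_left.2 fun hbad => ?_
  push Not at hbad
  obtain ⟨g₁, hg₁, hne₁, hbot₁⟩ := hbad
  set r := finrank F K with hr
  set q := Nat.card F with hq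
  -- a pair of largest intersection
  haveI : Finite (V ≃ₗ[F] V) := Finite.of_injective _ DFunLike.coe_injective
  letI := Fintype.ofFinite (V ≃ₗ[F] V)
  let bad := Finset.univ.filter fun g => g ∈ M ∧ img K a g ≠ line F K a
  obtain ⟨g, hg, hmax⟩ := Finset.exists_max_image bad
    (fun g => finrank F (img K a g ⊓ line F K a : Submodule F V)) ⟨g₁, by simp [bad, hg₁, hne₁]⟩
  obtain ⟨hgM, hgne⟩ := (Finset.mem_filter.1 hg).2
  set L' := img K a g with hL'
  set W := L' ⊓ line F K a with hW
  set w := finrank F W with hw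
  have hmax' : ∀ h ∈ M, img K a h ≠ line F K a →
      finrank F (img K a h ⊓ line F K a : Submodule F V) ≤ w := fun h hh hhne =>
    hmax h (Finset.mem_filter.2 ⟨Finset.mem_univ _, hh, hhne⟩)
  have hw1 : 1 ≤ w := by
    refine le_trans ?_ (hmax' g₁ hg₁ hne₁)
    exact Nat.one_le_iff_ne_zero.2 fun h => hbot₁ (Submodule.finrank_eq_zero.1 h)
  have hwr : w < r := by
    rcases lt_or_ge w r with h | h
    · exact h
    · exfalso
      have h1 : W = L' := Submodule.eq_of_le_of_finrank_le inf_le_left (by rw [finrank_img ha]; exact h)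
      have h2 : L' ≤ line F K a := h1 ▸ inf_le_right
      exact hgne (Submodule.eq_of_le_of_finrank_eq h2 (by rw [finrank_img ha, finrank_line ha]))
  -- translations
  obtain ⟨x₀, hx₀L, hx₀⟩ : ∃ x ∈ L', x ∉ line F K a := by
    by_contra h
    push Not at h
    exact hgne (Submodule.eq_of_le_of_finrank_eq h (by rw [finrank_img ha, finrank_line ha]))
  obtain ⟨ψ, hψW, hψx⟩ := exists_kfun (W := K ∙ a) (u := x₀)
    (fun h => hx₀ (mem_line_iff_span.2 h))
  have hψa : ψ a = 0 := hψW a (Submodule.mem_span_singleton_self a)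
  choose u huM hu using fun k : K => hM.ktrans_mem ψ (b := k • a) (by simp [hψa])
  have hufix : ∀ k x, x ∈ line F K a → u k x = x := by
    intro k x hx
    rw [hu, hψW x (mem_line_iff_span.1 hx), zero_smul, add_zero]
  have huline : ∀ k, img K a (u k) = line F K a := by
    intro k
    ext x
    constructor
    · rintro ⟨y, hy, rfl⟩
      show u k y ∈ _
      rw [hufix k y hy]; exact hy
    · intro hx; exact ⟨x, hx, hufix k x hx⟩
  have hucomp : ∀ k l, u k * u l = u (k + l) := fun k l => LinearEquiv.ext fun x => by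
    show u k (u l x) = _
    rw [hu, hu, hu, map_add, map_smul, map_smul, hψa, smul_zero, smul_zero, add_zero, add_smul,
      smul_add]
    abel
  -- the stabiliser of the second line
  let stab : K → Prop := fun k => img K a (u k * g) = L'
  have hsemi : ∀ k, stab k → k ≠ 0 → ∃ P : Module.End F K, MapsBy (g⁻¹ * u k * g) a P ∧
      (2 : K) = 0 ∧ r = 2 ∧ ∃ τ : K →ₐ[F] K, τ ≠ AlgHom.id F K ∧ ∀ k l, P (k * l) = τ k * P l := by
    intro k hk hk0
    have hmap : ∀ l : K, (g⁻¹ * u k * g) (l • a) ∈ K ∙ a := by
      intro l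
      have h1 : (u k * g) (l • a) ∈ L' := by
        rw [← hk]
        exact ⟨l • a, mem_line.2 ⟨l, rfl⟩, rfl⟩
      obtain ⟨y, hy, he⟩ := h1
      show g⁻¹ ((u k * g) (l • a)) ∈ _
      rw [← he]
      show g.symm (g y) ∈ _
      rw [LinearEquiv.symm_apply_apply]
      exact mem_line_iff_span.1 hy
    obtain ⟨P, hP⟩ := exists_mapsBy ha hmap
    refine ⟨P, hP, ?_⟩
    have hgi : ∀ x, g (g⁻¹ x) = x := fun x => g.apply_symm_apply x
    have hug : ∀ l, u k (g (l • a)) = g (P l • a) := fun l => by
      rw [← hP l]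
      exact (hgi _).symm
    have hsq : ∀ x, u k (u k x) + x = u k x + u k x := by
      intro x
      rw [hu, hu, map_add, map_smul, map_smul, hψa, smul_zero, smul_zero, add_zero]
      abel
    have hP2 : ∀ l, P (P l) - 2 * P l + l = 0 := by
      intro l
      have h1 := hsq (g (l • a))
      rw [hug, hug, ← map_add, ← map_add, ← add_smul, ← add_smul] at h1
      linear_combination smul_inj ha (g.injective h1)
    have hP1 : P 1 ≠ 0 := fun h => ha (by
      have := hP 1
      rw [h, zero_smul, one_smul] at this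
      exact (LinearEquiv.map_eq_zero_iff _).1 this)
    have hvM : g⁻¹ * u k * g ∈ M := mul_mem (mul_mem (inv_mem hgM) (huM k)) hgM
    rcases semilinear_fix hM.deg P (hM.semilinear ha hnf hvM hP) hP2 hP1 with h | ⟨h2, h3, τ, hτ, -, hτP⟩
    · exfalso
      obtain ⟨l, hl⟩ := hx₀L
      obtain ⟨c, rfl⟩ := mem_line.1 hl.1
      have hl2 : g (c • a) = x₀ := hl.2
      have h1 := hug c
      rw [h, Module.End.one_apply, hl2, hu, hψx, one_smul, add_eq_left] at h1
      exact hk0 ((smul_eq_zero.1 h1).resolve_right ha)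
    · exact ⟨h2, h3, τ, hτ, hτP⟩
  have hdiff : ∀ k l, img K a (u k * g) = img K a (u l * g) → stab (k - l) := by
    intro k l h
    show img K a (u (k - l) * g) = L'
    have e : u (k - l) * g = u (-l) * (u k * g) := by
      rw [← mul_assoc, hucomp, neg_add_eq_sub]
    rw [e, img_mul, h, ← img_mul, ← mul_assoc, hucomp, neg_add_cancel]
    have h0 : u 0 = 1 := LinearEquiv.ext fun x => by rw [hu]; simp
    rw [h0, one_mul]
  -- counting
  set X := line F K a ⊔ L' with hX
  letI := Fintype.ofFinite K
  let S' : Finset (Submodule F V) := Finset.univ.image fun k => img K a (u k * g)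
  have hnotL : ∀ A ∈ S', A ≠ line F K a := by
    intro A hA
    obtain ⟨k, -, rfl⟩ := Finset.mem_image.1 hA
    intro h
    apply hgne
    refine Submodule.map_injective_of_injective (f := (u k : V →ₗ[F] V)) (u k).injective ?_
    rw [← img_mul, h]
    exact (huline k).symm
  have hWimg : ∀ k, W ≤ img K a (u k * g) := fun k x hx => by
    rw [img_mul]
    exact ⟨x, hx.1, hufix k x hx.2⟩
  have hbound : S'.card ≤ q ^ (r - w) := by
    have hp := pencil_bound (F := F) W X (insert (line F K a) S') r ?_ ?_
      (inf_le_right.trans le_sup_left)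
    · rw [Finset.card_insert_of_notMem (fun h => hnotL _ h rfl)] at hp
      have hXdim : finrank F X = w + (r - w) + (r - w) := by
        have := Submodule.finrank_sup_add_finrank_inf_eq (line F K a) L'
        rw [inf_comm, ← hW, finrank_line ha, finrank_img ha, ← hX] at this
        omega
      rw [hXdim] at hp
      obtain ⟨d, hd⟩ : ∃ d, r = w + d := ⟨r - w, by omega⟩
      have hd0 : 0 < d := by omega
      rw [hd, Nat.add_sub_cancel_left] at hp ⊢
      have hq2 : 2 ≤ q := Finite.one_lt_card
      have hQ : 2 ≤ q ^ d := hq2.trans (Nat.le_self_pow (by omega) q)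
      rw [pow_add, pow_add, pow_add] at hp
      have hp' : (S'.card + 1) * (q ^ d - 1) ≤ q ^ d * q ^ d - 1 := by
        refine Nat.le_of_mul_le_mul_left ?_ (pow_pos (by omega : 0 < q) w)
        calc q ^ w * ((S'.card + 1) * (q ^ d - 1))
            = (S'.card + 1) * (q ^ w * q ^ d - q ^ w) := by rw [← Nat.mul_sub_one]; ring
          _ ≤ q ^ w * q ^ d * q ^ d - q ^ w := hp
          _ = q ^ w * (q ^ d * q ^ d - 1) := by rw [Nat.mul_sub_one, mul_assoc]
      obtain ⟨Q, hQ'⟩ : ∃ Q, q ^ d = Q + 1 := ⟨q ^ d - 1, by omega⟩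
      rw [hQ', Nat.add_sub_cancel] at hp'
      have e : (Q + 1) * (Q + 1) - 1 = (Q + 2) * Q := by
        rw [show (Q + 1) * (Q + 1) = (Q + 2) * Q + 1 by ring, Nat.add_sub_cancel]
      rw [e] at hp'
      have := Nat.le_of_mul_le_mul_right hp' (by omega)
      omega
    · intro A hA
      rcases Finset.mem_insert.1 hA with rfl | hA
      · exact ⟨inf_le_right, le_sup_left, finrank_line ha⟩
      · obtain ⟨k, -, rfl⟩ := Finset.mem_image.1 hA
        refine ⟨hWimg k, ?_, finrank_img ha _⟩
        rw [img_mul]
        rintro _ ⟨x, hx, rfl⟩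
        show u k x ∈ X
        rw [hu]
        refine Submodule.add_mem _ (Submodule.mem_sup_right hx) (Submodule.mem_sup_left ?_)
        exact mem_line.2 ⟨ψ x * k, mul_smul _ _ _⟩
    · have hone : img K a (1 : V ≃ₗ[F] V) = line F K a := by
        rw [img]; exact Submodule.map_id _
      have hmem : ∀ A ∈ insert (line F K a) S', ∃ h ∈ M, A = img K a h ∧ W ≤ A := by
        intro A hA
        rcases Finset.mem_insert.1 hA with rfl | hA
        · exact ⟨1, one_mem M, hone.symm, inf_le_right⟩
        · obtain ⟨k, -, rfl⟩ := Finset.mem_image.1 hA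
          exact ⟨u k * g, mul_mem (huM k) hgM, rfl, hWimg k⟩
      intro A hA B hB hAB
      obtain ⟨hA1, hA2, rfl, hA4⟩ := hmem A hA
      obtain ⟨hB1, hB2, rfl, hB4⟩ := hmem B hB
      refine (Submodule.eq_of_le_of_finrank_le (le_inf hA4 hB4) ?_).symm
      rw [finrank_img_inf]
      refine hmax' _ (mul_mem (inv_mem hB2) hA2) fun h => hAB ?_
      have := congrArg (Submodule.map (hB1 : V →ₗ[F] V)) h
      rw [← img_mul, mul_inv_cancel_left] at this
      exact this
  -- the stabiliser has at most two elements, and none unless the characteristic is two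
  have hK : Fintype.card K = q ^ r := by
    rw [← Nat.card_eq_fintype_card]; exact Module.natCard_eq_pow_finrank (K := F)
  have hlt : q ^ (r - w) < q ^ r := Nat.pow_lt_pow_right Finite.one_lt_card (by omega)
  by_cases hex : ∃ s, stab s ∧ s ≠ 0
  swap
  · exfalso
    push Not at hex
    have hinj : Function.Injective fun k => img K a (u k * g) := fun k l h =>
      sub_eq_zero.1 (hex _ (hdiff k l h))
    have : S'.card = Fintype.card K := by
      rw [Finset.card_image_of_injective _ hinj, Finset.card_univ]
    omega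
  obtain ⟨s, hs, hs0⟩ := hex
  obtain ⟨P, hP, h2, hr2, τ, hτ, hτP⟩ := hsemi s hs hs0
  refine ⟨?_, hr2⟩
  haveI : FiniteDimensional F K := Module.Finite.of_finite
  have huniq : ∀ k, stab k → k ≠ 0 → k = s := by
    intro k hk hk0
    by_contra hne
    have hks : stab (k - s) := hdiff k s (hk.trans hs.symm)
    have hks0 : k - s ≠ 0 := sub_ne_zero.2 hne
    obtain ⟨P', hP', -, -, τ', hτ', hτP'⟩ := hsemi k hk hk0
    obtain ⟨P'', hP'', -, -, τ'', hτ'', hτP''⟩ := hsemi _ hks hks0
    have htwo : ∀ σ : K →ₐ[F] K, σ ≠ AlgHom.id F K → σ = τ := by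
      intro σ hσ
      by_contra hne'
      have h3 : 3 ≤ Fintype.card (K →ₐ[F] K) := by
        refine le_trans ?_ (Finset.card_le_univ {AlgHom.id F K, τ, σ})
        rw [Finset.card_insert_of_notMem (by simp [Ne.symm hτ, Ne.symm hσ]),
          Finset.card_pair (Ne.symm hne')]
      have := AlgHom.card_le (F := F) (K := K)
      rw [← hr] at this
      omega
    -- the product of the two is linear
    have hcomp : ∀ l, P' (P l) = P'' l := fun l => by
      have e : (g⁻¹ * u k * g) * (g⁻¹ * u s * g) = g⁻¹ * u (k - s) * g := by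
        have e2 : k - s = k + s := by linear_combination -s * h2
        rw [e2, ← hucomp]
        group
      have h4 := LinearEquiv.congr_fun e (l • a)
      rw [LinearEquiv.mul_apply, hP l, hP', hP''] at h4
      exact smul_inj ha h4
    have hPs : ∀ c l, P (c * l) = τ c * P l := hτP
    have hτ2 : ∀ c, τ (τ c) = c := by
      intro c
      by_cases hh : τ.comp τ = AlgHom.id F K
      · exact AlgHom.congr_fun hh c
      · have := AlgHom.congr_fun (htwo _ hh) c
        have h5 : τ c = c := τ.toRingHom.injective this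
        rw [h5, h5]
    have hP1 : P'' 1 ≠ 0 := fun h => ha (by
      have := hP'' 1
      rw [h, zero_smul, one_smul] at this
      exact (LinearEquiv.map_eq_zero_iff _).1 this)
    apply hτ''
    refine AlgHom.ext fun c => ?_
    have h4 := hcomp (c * 1)
    rw [hPs, hτP', htwo τ' hτ', hτ2, hcomp, hτP''] at h4
    exact (mul_right_cancel₀ hP1 h4).symm
  have hfib : Fintype.card K ≤ 2 * S'.card := by
    rw [← Finset.card_univ]
    refine Finset.card_le_mul_card_image _ _ fun A _ => ?_
    by_contra hc
    push Not at hc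
    obtain ⟨x, y, z, hx, hy, hz, hxy, hxz, hyz⟩ := Finset.two_lt_card_iff.1 hc
    simp only [Finset.mem_filter, Finset.mem_univ, true_and] at hx hy hz
    have e1 := huniq _ (hdiff y x (hy.trans hx.symm)) (sub_ne_zero.2 (Ne.symm hxy))
    have e2 := huniq _ (hdiff z x (hz.trans hx.symm)) (sub_ne_zero.2 (Ne.symm hxz))
    exact hyz (sub_left_injective (e1.trans e2.symm))
  rw [hK, hr2] at hfib
  rw [hr2, show 2 - w = 1 by omega, pow_one] at hbound
  have hq2 : 2 ≤ q := Finite.one_lt_card
  nlinarith

end Cfsg.Agent.FieldExtMax
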