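/-
The quadratic extension of the field with two elements.

Main results: `Overgroup.linear_of_two`, `Overgroup.disjoint_of_three_le`,
`Overgroup.norms_of_four`.
-/
import Cfsg.Agent.Lib.FieldExtMax.Lines
import Mathlib.GroupTheory.PGroup
import Mathlib.LinearAlgebra.Projectivization.Cardinality

set_option autoImplicit false
set_option linter.unusedSectionVars false

namespace Cfsg.Agent.FieldExtMax

open Module

variable {F K V : Type*} [Field F] [Finite F] [Field K] [Finite K] [Algebra F K]
  [AddCommGroup V] [Module F V] [Module K V] [IsScalarTower F K V] [Finite V]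

/-- Facts about the field with four elements. -/
lemma four (hF : Nat.card F = 2) (hr : finrank F K = 2) :
    (2 : K) = 0 ∧ ∃ θ : K, θ * θ = θ + 1 ∧ ∀ k : K, k = 0 ∨ k = 1 ∨ k = θ ∨ k = θ + 1 := by
  classical
  letI := Fintype.ofFinite F
  letI := Fintype.ofFinite K
  have h2F : (2 : F) = 0 := by
    have := FiniteField.cast_card_eq_zero F
    rw [← Nat.card_eq_fintype_card, hF] at this
    simpa using this
  have h2 : (2 : K) = 0 := by
    have := congrArg (algebraMap F K) h2F
    rwa [map_ofNat, map_zero] at this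
  have hK : Fintype.card K = 4 := by
    rw [← Nat.card_eq_fintype_card, Module.natCard_eq_pow_finrank (K := F), hF, hr]
    rfl
  obtain ⟨θ, hθ⟩ : ∃ θ : K, θ ∉ ({0, 1} : Finset K) := by
    by_contra h
    push Not at h
    have := Finset.card_le_card (s := Finset.univ) (t := {0, 1}) fun x _ => h x
    rw [Finset.card_univ, hK] at this
    exact absurd (this.trans Finset.card_le_two) (by norm_num)
  simp only [Finset.mem_insert, Finset.mem_singleton, not_or] at hθ
  have h4 := FiniteField.pow_card θ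
  rw [hK] at h4
  have h5 : θ * (θ - 1) * (θ * θ + θ + 1) = 0 := by linear_combination h4
  have hθ2 : θ * θ = θ + 1 := by
    have := (mul_eq_zero.1 h5).resolve_left
      (mul_ne_zero hθ.1 (sub_ne_zero.2 hθ.2))
    linear_combination this - (θ + 1) * h2
  refine ⟨h2, θ, hθ2, ?_⟩
  have hne0 : θ + 1 ≠ 0 := fun h => hθ.2 (by linear_combination h - h2)
  have hne1 : θ + 1 ≠ 1 := fun h => hθ.1 (by linear_combination h)
  have hneθ : θ + 1 ≠ θ := fun h => one_ne_zero (α := K) (by linear_combination h)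
  have huniv : ({0, 1, θ, θ + 1} : Finset K) = Finset.univ := by
    refine Finset.eq_univ_of_card _ ?_
    rw [hK, Finset.card_insert_of_notMem (by simp [Ne.symm hθ.1, Ne.symm hne0]),
      Finset.card_insert_of_notMem (by simp [Ne.symm hθ.2, Ne.symm hne1]),
      Finset.card_pair (Ne.symm hneθ)]
  intro k
  have := huniv.symm ▸ Finset.mem_univ k
  simpa using this

lemma det_eq_one (hF : Nat.card F = 2) (g : V ≃ₗ[F] V) :
    LinearMap.det (g : V →ₗ[F] V) = 1 := by
  classical
  letI := Fintype.ofFinite F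
  have h := (g.isUnit_det').ne_zero
  have h' := Fintype.card_subtype_compl (fun x : F => x = 0)
  rw [Fintype.card_subtype_eq, ← Nat.card_eq_fintype_card (α := F), hF] at h'
  have hsub : Subsingleton {x : F // x ≠ 0} :=
    Fintype.card_le_one_iff_subsingleton.1 (by rw [h'])
  exact congrArg Subtype.val (Subsingleton.elim (⟨_, h⟩ : {x : F // x ≠ 0}) ⟨1, one_ne_zero⟩)

variable {M : Subgroup (V ≃ₗ[F] V)}

lemma Overgroup.klin_mem_two (hM : Overgroup K M) (hF : Nat.card F = 2) (f : V →ₗ[K] V)
    (hinj : Function.Injective f) : ∃ g ∈ M, ∀ x, g x = f x := by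
  let e : V ≃ₗ[F] V := LinearEquiv.ofBijective (f.restrictScalars F)
    ⟨hinj, Finite.surjective_of_injective hinj⟩
  exact ⟨e, hM.semi e (fun k => ⟨k, fun x => f.map_smul k x⟩) (det_eq_one hF e), fun x => rfl⟩

/-- Without full `T`, its members are linear. -/
theorem Overgroup.linear_of_two (hM : Overgroup K M) (hF : Nat.card F = 2) (hr : finrank F K = 2)
    {a : V} (ha : a ≠ 0) (hnf : ¬ Full (K := K) M a) {c : V →ₗ[F] K} (hc : c ∈ Tset M a) (k : K)
    (x : V) : c (k • x) = k * c x := by
  obtain ⟨h2, θ, hθ, hall⟩ := four hF hr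
  have hθ0 : θ ≠ 0 := fun h => by simp [h] at hθ
  suffices key : ∀ y, c (θ • y) = θ * c y by
    rcases hall k with rfl | rfl | rfl | rfl
    · simp
    · simp
    · exact key x
    · rw [add_smul, one_smul, map_add, key, add_mul, one_mul]
  by_contra hne
  push Not at hne
  obtain ⟨y₀, hy₀⟩ := hne
  -- scalars act on the right
  have hright : ∀ d ∈ Tset (K := K) M a, d ∘ₗ ((θ • LinearMap.id : V →ₗ[K] V).restrictScalars F)
      ∈ Tset M a := by
    intro d hd
    obtain ⟨h, hh, hhx⟩ := hM.klin_mem_two hF (θ⁻¹ • LinearMap.id : V →ₗ[K] V)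
      (fun u v huv => by simpa [hθ0] using huv)
    have hP : MapsBy h a (mulL F θ⁻¹) := fun l => by
      rw [hhx]; simp [smul_smul, mul_comm]
    have h1 := hM.Tset_left ha θ (Tset_conj hh ha hP hd)
    convert h1 using 1
    refine LinearMap.ext fun x => ?_
    show d (θ • x) = θ * (θ⁻¹ * d (h⁻¹ x))
    rw [← mul_assoc, mul_inv_cancel₀ hθ0, one_mul]
    congr 1
    apply h.injective
    show h (θ • x) = h (h.symm x)
    rw [LinearEquiv.apply_symm_apply, hhx]
    simp [smul_smul, hθ0]
  -- the semilinear part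
  set f : V →ₗ[F] K := c ∘ₗ ((θ • LinearMap.id : V →ₗ[K] V).restrictScalars F) + mulL F θ ∘ₗ c
    with hfdef
  have hfx : ∀ x, f x = c (θ • x) + θ * c x := fun x => rfl
  have hfT : f ∈ Tset M a := (Tset M a).add_mem (hright c hc) (hM.Tset_left ha θ hc)
  have hfθ : ∀ x, f (θ • x) = (θ * θ) * f x := by
    intro x
    rw [hfx, hfx, smul_smul, hθ, add_smul, one_smul, map_add]
    linear_combination -(c x) * hθ - θ * c x * h2
  have hfk : ∀ (k : K) x, f (k • x) = k * k * f x := by
    intro k x
    rcases hall k with rfl | rfl | rfl | rfl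
    · simp
    · simp
    · exact hfθ x
    · rw [add_smul, one_smul, map_add, hfθ]
      linear_combination -(θ * f x) * h2
  have hf0 : f ≠ 0 := fun h => hy₀ (by
    have := LinearMap.congr_fun h y₀
    rw [hfx, LinearMap.zero_apply] at this
    linear_combination this - θ * c y₀ * h2)
  have hfa : ∀ k : K, f (k • a) = 0 := hfT.1
  -- all semilinear maps killing the line
  have hsq : ∀ (ψ : Dual K V), ψ a = 0 → ∀ (l : K), ∀ d : V →ₗ[F] K,
      (∀ x, d x = l * (ψ x * ψ x)) → d ∈ Tset M a := by
    intro ψ hψ l d hd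
    by_cases hb : ∃ b, ψ b = 0 ∧ f b ≠ 0
    · obtain ⟨b, hb1, hb2⟩ := hb
      obtain ⟨h, hh, hhx⟩ := hM.ktrans_mem ψ (b := -b) (by simp [hb1])
      have hP : MapsBy h a (mulL F (1 : K)) := fun l => by rw [hhx]; simp [hψ]
      have h1 := hM.Tset_left ha (l * (f b)⁻¹)
        ((Tset M a).add_mem (Tset_conj hh ha hP hfT) ((Tset M a).neg_mem hfT))
      convert h1 using 1
      refine LinearMap.ext fun x => ?_
      show d x = l * (f b)⁻¹ * (1 * f (h⁻¹ x) + -f x)
      have hi : h⁻¹ x = x + ψ x • b := by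
        apply h.injective
        show h (h.symm x) = h _
        rw [LinearEquiv.apply_symm_apply, hhx]
        simp [hb1]
      rw [hi, map_add, hfk, hd]
      field_simp
      ring
    · push Not at hb
      by_cases hψ0 : ψ = 0
      · convert (Tset (K := K) M a).zero_mem using 1
        exact LinearMap.ext fun x => by simp [hd, hψ0]
      obtain ⟨x1, hx1⟩ : ∃ x, ψ x = 1 := LinearMap.surjective hψ0 1
      have hform : ∀ x, f x = ψ x * ψ x * f x1 := fun x => by
        have := hb (x - ψ x • x1) (by simp [hx1])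
        rw [map_sub, hfk, sub_eq_zero] at this
        exact this
      have hfx1 : f x1 ≠ 0 := fun h => hf0 (LinearMap.ext fun x => by
        rw [hform, h, mul_zero, LinearMap.zero_apply])
      convert hM.Tset_left ha (l * (f x1)⁻¹) hfT using 1
      refine LinearMap.ext fun x => ?_
      show d x = l * (f x1)⁻¹ * f x
      rw [hd, hform x]
      field_simp
  -- so everything
  refine hnf fun φ hφ k => ?_
  have hA : ∀ x, algebraMap F K (φ x) * algebraMap F K (φ x) = algebraMap F K (φ x) := fun x => by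
    rw [← map_mul]
    congr 1
    letI := Fintype.ofFinite F
    have := FiniteField.pow_card (φ x)
    rw [← Nat.card_eq_fintype_card, hF, pow_two] at this
    exact this
  let ψ : Dual K V :=
    { toFun := fun x => algebraMap F K (φ (θ • x)) + (θ + 1) * algebraMap F K (φ x)
      map_add' := fun x y => by simp only [smul_add, map_add]; ring
      map_smul' := fun l x => by
        simp only [RingHom.id_apply, smul_eq_mul]
        rcases hall l with h | h | h | h <;> rw [h]
        · simp
        · simp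
        · rw [smul_smul, hθ, add_smul, one_smul, map_add, map_add]
          linear_combination -(algebraMap F K (φ x)) * hθ
            + (algebraMap F K (φ (θ • x)) - θ * algebraMap F K (φ x)) * h2
        · rw [smul_smul, show θ * (θ + 1) = 1 by linear_combination hθ + θ * h2, one_smul,
            add_smul, one_smul, map_add, map_add]
          linear_combination -(algebraMap F K (φ x)) * hθ
            - θ * algebraMap F K (φ x) * h2 }
  have hψ : ∀ x, ψ x = algebraMap F K (φ (θ • x)) + (θ + 1) * algebraMap F K (φ x) := fun x => rfl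
  have hψa : ψ a = 0 := by
    have h1 : φ a = 0 := by simpa using hφ 1
    rw [hψ, hφ θ, h1]; simp
  let d : V →ₗ[F] K :=
    φ.smulRight k - mulL F k ∘ₗ ψ.restrictScalars F
  have hd : ∀ x, d x = k * (ψ x * ψ x) := fun x => by
    show φ x • k - k * ψ x = _
    rw [Algebra.smul_def, hψ]
    linear_combination -k * hA (θ • x) - k * (θ + 1) * (θ + 1) * hA x
      - k * (algebraMap F K (φ x)) * hθ
      - k * (algebraMap F K (φ (θ • x)) + algebraMap F K (φ (θ • x)) * algebraMap F K (φ x) * (θ + 1)
        + algebraMap F K (φ x) * (2 * θ + 1)) * h2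
  have h3 := (Tset M a).add_mem (hsq ψ hψa k d hd) (hM.Tset_left ha k (hM.ktrans_Tset ψ hψa))
  convert h3 using 1
  refine LinearMap.ext fun x => ?_
  show φ x • k = φ x • k - k * ψ x + k * ψ x
  ring

/-- In dimension at least three over `K` the lines still meet trivially. -/
theorem Overgroup.disjoint_of_three_le (hM : Overgroup K M) (hF : Nat.card F = 2)
    (hr : finrank F K = 2) (hm : 3 ≤ finrank K V) {a : V} (ha : a ≠ 0)
    (hnf : ¬ Full (K := K) M a) {g : V ≃ₗ[F] V} (hg : g ∈ M) (hne : img K a g ≠ line F K a) :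
    img K a g ⊓ line F K a = ⊥ := by
  by_contra hbot
  set L' := img K a g
  set W := L' ⊓ line F K a
  have hW2 : finrank F W = 1 := by
    have h1 : W < line F K a := lt_of_le_of_ne inf_le_right fun h => hne
      (Submodule.eq_of_le_of_finrank_eq (inf_eq_right.1 h)
        (by rw [finrank_line ha, finrank_img ha])).symm
    have h2 := Submodule.finrank_lt_finrank_of_lt h1
    rw [finrank_line ha, hr] at h2
    have h3 : finrank F W ≠ 0 := fun h => hbot (Submodule.finrank_eq_zero.1 h)
    omega
  obtain ⟨x₀, hx₀L, hx₀⟩ : ∃ x ∈ L', x ∉ line F K a := by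
    by_contra h
    push Not at h
    exact hne (Submodule.eq_of_le_of_finrank_eq h (by rw [finrank_img ha, finrank_line ha]))
  -- a functional killing both lines
  obtain ⟨z, hz⟩ : ∃ z, z ∉ Submodule.span K ({a, x₀} : Set V) := by
    by_contra h
    push Not at h
    classical
    have h1 : finrank K (Submodule.span K ({a, x₀} : Set V)) ≤ 2 := by
      refine le_trans (Submodule.finrank_mono (Submodule.span_mono (t := ↑({a, x₀} : Finset V))
        (fun x hx => by simpa using hx))) ?_
      exact (finrank_span_finset_le_card _).trans Finset.card_le_two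
    rw [Submodule.eq_top_iff'.2 h, finrank_top] at h1
    omega
  obtain ⟨ψ, hψW, hψz⟩ := exists_kfun hz
  have hψa : ψ a = 0 := hψW a (Submodule.subset_span (by simp))
  have hψL' : ∀ x ∈ L', ψ x = 0 := by
    have hsup : L' = W ⊔ Submodule.span F {x₀} := by
      refine (Submodule.eq_of_le_of_finrank_le (sup_le inf_le_left
        ((Submodule.span_singleton_le_iff_mem _ _).2 hx₀L)) ?_).symm
      rw [finrank_img ha, hr]
      have hlt : W < W ⊔ Submodule.span F {x₀} := lt_of_le_of_ne le_sup_left fun h => hx₀ (by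
        have h5 : x₀ ∈ W := h.symm ▸ Submodule.mem_sup_right (Submodule.mem_span_singleton_self x₀)
        exact h5.2)
      have := Submodule.finrank_lt_finrank_of_lt hlt
      omega
    intro x hx
    rw [hsup] at hx
    obtain ⟨y, hy, w, hw, rfl⟩ := Submodule.mem_sup.1 hx
    obtain ⟨l, hl⟩ := mem_line.1 hy.2
    obtain ⟨e, rfl⟩ := Submodule.mem_span_singleton.1 hw
    rw [map_add, ← hl, map_smul, hψa, smul_zero, ← algebraMap_smul K e x₀, map_smul,
      hψW x₀ (Submodule.subset_span (by simp)), smul_zero, add_zero]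
  choose u huM hu using fun k : K => hM.ktrans_mem ψ (b := k • a) (by simp [hψa])
  -- conjugate back
  set v := g⁻¹ * u 1 * g with hv
  have hvM : v ∈ M := mul_mem (mul_mem (inv_mem hg) (huM 1)) hg
  have hvx : ∀ x, v x = x + g⁻¹ (ψ (g x) • a) := fun x => by
    show g⁻¹ (u 1 (g x)) = _
    rw [hu, one_smul, map_add]
    congr 1
    exact g.symm_apply_apply x
  have hP : MapsBy v a (mulL F (1 : K)) := fun l => by
    rw [hvx, hψL' (g (l • a)) ⟨l • a, mem_line.2 ⟨l, rfl⟩, rfl⟩]
    simp
  obtain ⟨Q, hQ, hQP, -⟩ := hP.symm ha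
  have hQ1 : Q = mulL F (1 : K) := LinearMap.ext fun l => by simpa using hQP l
  -- `v` is linear modulo the line
  have hlin : ∀ (k : K) x, v (k • x) - k • v x ∈ K ∙ a := by
    intro k x
    by_contra hmem
    obtain ⟨χ, hχW, hχ⟩ := exists_kfun hmem
    have hχa := hχW a (Submodule.mem_span_singleton_self a)
    have h1 := Tset_conj (inv_mem hvM) ha hQ (hM.ktrans_Tset χ hχa)
    rw [inv_inv, hQ1] at h1
    have h2 := hM.linear_of_two hF hr ha hnf h1 k x
    change (1 : K) * χ (v (k • x)) = k * (1 * χ (v x)) at h2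
    rw [map_sub, LinearMap.map_smul χ, smul_eq_mul] at hχ
    rw [one_mul, one_mul] at h2
    rw [h2, sub_self] at hχ
    exact zero_ne_one hχ
  -- the image of `v - 1` gives a `K`-subspace of odd dimension
  let E : Submodule F V := (line F K a).map ((g⁻¹ : V ≃ₗ[F] V) : V →ₗ[F] V)
  have hE : ∀ y ∈ E, ∃ x, v x = x + y := by
    rintro _ ⟨y, hy, rfl⟩
    obtain ⟨l, rfl⟩ := mem_line.1 hy
    obtain ⟨z', hz'⟩ := LinearMap.surjective (f := ψ) (fun h => by simp [h] at hψz) l
    refine ⟨g⁻¹ z', ?_⟩
    rw [hvx, show g (g⁻¹ z') = z' from g.apply_symm_apply z', hz']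
    rfl
  have hE' : ∀ x, v x - x ∈ E := fun x => by
    rw [hvx, add_sub_cancel_left]
    exact ⟨_, mem_line.2 ⟨_, rfl⟩, rfl⟩
  let Y : Submodule K V :=
    { carrier := ↑(E ⊔ line F K a)
      zero_mem' := zero_mem _
      add_mem' := fun h h' => add_mem h h'
      smul_mem' := fun k x hx => by
        obtain ⟨y, hy, z', hz', rfl⟩ := Submodule.mem_sup.1 hx
        obtain ⟨x', hx'⟩ := hE y hy
        obtain ⟨l, rfl⟩ := mem_line.1 hz'
        rw [smul_add, smul_smul]
        refine add_mem ?_ (Submodule.mem_sup_right (mem_line.2 ⟨_, rfl⟩))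
        have e : k • y = (v (k • x') - k • x') - (v (k • x') - k • v x') := by
          rw [hx', smul_add]; abel
        rw [e]
        exact sub_mem (Submodule.mem_sup_left (hE' _))
          (Submodule.mem_sup_right (mem_line_iff_span.2 (hlin k x'))) }
  have hYdim : finrank F (E ⊔ line F K a : Submodule F V) = 3 := by
    have h1 := Submodule.finrank_sup_add_finrank_inf_eq E (line F K a)
    have h2 : finrank F (E ⊓ line F K a : Submodule F V) = 1 := by
      have h3 : finrank F (img K a (1 : V ≃ₗ[F] V) ⊓ img K a g : Submodule F V)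
          = finrank F (img K a (g⁻¹ * 1) ⊓ line F K a : Submodule F V) := finrank_img_inf a 1 g
      rw [mul_one, show img K a (1 : V ≃ₗ[F] V) = line F K a from Submodule.map_id _,
        inf_comm] at h3
      exact h3.symm.trans hW2
    rw [h2, finrank_line ha, show finrank F E = 2 by
      rw [LinearEquiv.finrank_map_eq, finrank_line ha, hr], hr] at h1
    omega
  have h4 : finrank F (Y.restrictScalars F) = 3 := hYdim
  have h5 : finrank F K * finrank K Y = finrank F Y := Module.finrank_mul_finrank F K Y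
  rw [hr, show finrank F Y = finrank F (Y.restrictScalars F) from rfl, h4] at h5
  omega

open MulAction in
/-- The case of `GL(4, 2)`. -/
theorem Overgroup.norms_of_four (hM : Overgroup K M) (hF : Nat.card F = 2) (hr : finrank F K = 2)
    (hm : finrank K V = 2) (hnf : ∀ a : V, a ≠ 0 → ¬ Full (K := K) M a)
    {a : V} (ha : a ≠ 0) {g₀ : V ≃ₗ[F] V} (hg₀ : g₀ ∈ M) (hne : img K a g₀ ≠ line F K a)
    (hbot : img K a g₀ ⊓ line F K a ≠ ⊥) : ∀ g ∈ M, Norms K g := by
  classical
  obtain ⟨h2, θ, hθ, hall⟩ := four hF hr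
  have hθ0 : θ ≠ 0 := fun h => by simp [h] at hθ
  haveI : Finite (V ≃ₗ[F] V) := Finite.of_injective _ DFunLike.coe_injective
  haveI : Module.Finite K V := Module.Finite.of_finite
  have hV : Nat.card V = 16 := by
    rw [Module.natCard_eq_pow_finrank (K := K), hm, Module.natCard_eq_pow_finrank (K := F), hF, hr]
    rfl
  obtain ⟨b, hb⟩ := hM.exists_off a
  have hab : a ∉ K ∙ b := fun h => by
    obtain ⟨c, hc⟩ := Submodule.mem_span_singleton.1 h
    have hc0 : c ≠ 0 := fun h => ha (by rw [← hc, h, zero_smul])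
    exact hb (Submodule.mem_span_singleton.2 ⟨c⁻¹, by rw [← hc, inv_smul_smul₀ hc0]⟩)
  -- coordinates
  have hbasis : ∀ {p₁ p₂ : V}, p₁ ∉ K ∙ p₂ → p₂ ∉ K ∙ p₁ → ∃ ψ₁ ψ₂ : Dual K V,
      ψ₁ p₁ = 1 ∧ ψ₁ p₂ = 0 ∧ ψ₂ p₁ = 0 ∧ ψ₂ p₂ = 1 ∧ ∀ x, x = ψ₁ x • p₁ + ψ₂ x • p₂ := by
    intro p₁ p₂ h12 h21
    obtain ⟨ψ₁, hψ₁, h11⟩ := exists_kfun h12
    obtain ⟨ψ₂, hψ₂, h22⟩ := exists_kfun h21
    have h1' := hψ₁ _ (Submodule.mem_span_singleton_self p₂)
    have h2' := hψ₂ _ (Submodule.mem_span_singleton_self p₁)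
    refine ⟨ψ₁, ψ₂, h11, h1', h2', h22, fun x => ?_⟩
    have hsurj : Function.Surjective (ψ₁.prod ψ₂) := fun z =>
      ⟨z.1 • p₁ + z.2 • p₂, by simp [h11, h1', h2', h22]⟩
    have hinj : Function.Injective (ψ₁.prod ψ₂) :=
      (LinearMap.injective_iff_surjective_of_finrank_eq_finrank (by simp [hm])).2 hsurj
    exact hinj (by simp [h11, h1', h2', h22])
  obtain ⟨ψ₁, ψ₂, hψ1a, hψ1b, hψ2a, hψ2b, hdec⟩ := hbasis hab hb
  let H : Subgroup M :=
    { carrier := {g | Norms K (g : V ≃ₗ[F] V)}
      one_mem' := fun k => ⟨k, fun x => rfl⟩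
      mul_mem' := fun {g h} hg hh k => by
        obtain ⟨k1, hk1⟩ := hh k
        obtain ⟨k2, hk2⟩ := hg k1
        exact ⟨k2, fun x => by
          show (g : V ≃ₗ[F] V) ((h : V ≃ₗ[F] V) (k • x)) = _
          rw [hk1, hk2]; rfl⟩
      inv_mem' := fun {g} hg k => by
        choose f hf using hg
        have hinj : Function.Injective f := fun k l h => by
          have e := hf k a
          rw [h, ← hf l a] at e
          exact smul_inj ha ((g : V ≃ₗ[F] V).injective e)
        obtain ⟨k', rfl⟩ := Finite.surjective_of_injective hinj k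
        refine ⟨k', fun x => ?_⟩
        show (g : V ≃ₗ[F] V).symm (f k' • x) = k' • (g : V ≃ₗ[F] V).symm x
        apply (g : V ≃ₗ[F] V).injective
        rw [LinearEquiv.apply_symm_apply, hf, LinearEquiv.apply_symm_apply] }
  letI : MulAction M (Submodule F V) :=
    { smul := fun g A => A.map ((g : V ≃ₗ[F] V) : V →ₗ[F] V)
      one_smul := fun A => Submodule.map_id A
      mul_smul := fun g h A => by
        show A.map _ = (A.map _).map _
        rw [← Submodule.map_comp]
        rfl }
  set L := line F K a with hL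
  -- the stabiliser of the line is semilinear
  have hstab : stabilizer M L ≤ H := by
    intro g hg
    have hmaps : ∀ l : K, (g : V ≃ₗ[F] V) (l • a) ∈ K ∙ a := fun l => by
      rw [← mem_line_iff_span (F := F)]
      have h1 : (g : V ≃ₗ[F] V) (l • a) ∈ L.map ((g : V ≃ₗ[F] V) : V →ₗ[F] V) :=
        ⟨_, mem_line.2 ⟨l, rfl⟩, rfl⟩
      rwa [show L.map ((g : V ≃ₗ[F] V) : V →ₗ[F] V) = L from mem_stabilizer_iff.1 hg] at h1
    obtain ⟨P, hP⟩ := exists_mapsBy ha hmaps
    have hsemi := hM.semilinear ha (hnf a ha) g.2 hP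
    obtain ⟨Q, hQ, hQP, hPQ⟩ := hP.symm ha
    have hP1 : P 1 ≠ 0 := fun h => ha (by
      have := hP 1
      rw [h, zero_smul, one_smul] at this
      exact (LinearEquiv.map_eq_zero_iff _).1 this)
    choose τ hτ using hsemi
    have hτadd : ∀ k l, τ (k + l) = τ k + τ l := fun k l => mul_right_cancel₀ hP1 (by
      rw [add_mul, ← hτ, ← hτ, ← hτ, mul_one, mul_one, mul_one, map_add])
    have hτ' : ∀ k l, τ (k * l) = τ k * τ l := fun k l => mul_right_cancel₀ hP1 (by
      rw [← hτ, mul_one, mul_assoc, ← hτ, mul_one, ← hτ])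
    have hτc : ∀ c : F, τ (algebraMap F K c) = algebraMap F K c := fun c => mul_right_cancel₀ hP1 (by
      rw [← hτ, mul_one, Algebra.algebraMap_eq_smul_one, map_smul, smul_one_mul])
    -- the semilinear map with the same action modulo the line
    set y := (g : V ≃ₗ[F] V) b
    have hy : y ∉ K ∙ a := fun h => by
      obtain ⟨l, hl⟩ := Submodule.mem_span_singleton.1 h
      have := hP (Q l)
      rw [hPQ, hl] at this
      exact hb (Submodule.mem_span_singleton.2 ⟨Q l, (g : V ≃ₗ[F] V).injective this⟩)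
    let s₀ : V →ₗ[F] V :=
      { toFun := fun x => P (ψ₁ x) • a + τ (ψ₂ x) • y
        map_add' := fun x z => by
          simp only [map_add, hτadd, add_smul]; abel
        map_smul' := fun c x => by
          have e1 : ψ₁ (c • x) = c • ψ₁ x := LinearMap.map_smul_of_tower ψ₁ c x
          have e2 : ψ₂ (c • x) = c • ψ₂ x := LinearMap.map_smul_of_tower ψ₂ c x
          simp only [RingHom.id_apply, e1, e2, map_smul, smul_add]
          rw [smul_assoc, Algebra.smul_def c (ψ₂ x), hτ', hτc, mul_smul, algebraMap_smul] }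
    have hs₀ : ∀ x, s₀ x = P (ψ₁ x) • a + τ (ψ₂ x) • y := fun x => rfl
    have hs₀inj : Function.Injective s₀ := by
      rw [← LinearMap.ker_eq_bot, Submodule.eq_bot_iff]
      intro x hx
      rw [LinearMap.mem_ker, hs₀] at hx
      have hτ2 : τ (ψ₂ x) = 0 := by
        by_contra hne'
        refine hy (Submodule.mem_span_singleton.2 ⟨-((τ (ψ₂ x))⁻¹ * P (ψ₁ x)), ?_⟩)
        rw [neg_smul, mul_smul, eq_neg_of_add_eq_zero_left hx, smul_neg,
          inv_smul_smul₀ hne', neg_neg]
      rw [hτ2, zero_smul, add_zero, smul_eq_zero] at hx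
      have h3 : ψ₁ x = 0 := by
        rw [← hQP (ψ₁ x), hx.resolve_right ha, map_zero]
      have h4 : ψ₂ x = 0 := by
        have h5 := hτ (ψ₂ x) 1
        rw [hτ2, zero_mul, mul_one] at h5
        rw [← hQP (ψ₂ x), h5, map_zero]
      rw [hdec x, h3, h4, zero_smul, zero_smul, add_zero]
    let s : V ≃ₗ[F] V := LinearEquiv.ofBijective s₀ ⟨hs₀inj, Finite.surjective_of_injective hs₀inj⟩
    have hs : ∀ x, s x = P (ψ₁ x) • a + τ (ψ₂ x) • y := fun x => rfl
    have hsN : Norms K s := fun k => ⟨τ k, fun x => by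
      rw [hs, hs, LinearMap.map_smul ψ₁, LinearMap.map_smul ψ₂, smul_eq_mul, smul_eq_mul, hτ, hτ',
        mul_smul, mul_smul, smul_add]⟩
    have hsM : s ∈ M := hM.semi s hsN (det_eq_one hF s)
    -- `g` agrees with it modulo the line
    have hgmod : ∀ (k : K) x, (g : V ≃ₗ[F] V) (k • x) - τ k • (g : V ≃ₗ[F] V) x ∈ K ∙ a := by
      intro k x
      by_contra hmem
      obtain ⟨χ, hχW, hχ⟩ := exists_kfun hmem
      have h1 := Tset_conj (inv_mem g.2) ha hQ
        (hM.ktrans_Tset χ (hχW a (Submodule.mem_span_singleton_self a)))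
      rw [inv_inv] at h1
      have h3 := hM.linear_of_two hF hr ha (hnf a ha) h1 k x
      change Q (χ ((g : V ≃ₗ[F] V) (k • x))) = k * Q (χ ((g : V ≃ₗ[F] V) x)) at h3
      have h4 := congrArg P h3
      rw [hPQ, hτ, hPQ] at h4
      rw [map_sub, LinearMap.map_smul χ, smul_eq_mul, h4, sub_self] at hχ
      exact zero_ne_one hχ
    have hvM : s⁻¹ * (g : V ≃ₗ[F] V) ∈ M := mul_mem (inv_mem hsM) g.2
    have hdiff : ∀ x, (g : V ≃ₗ[F] V) x - s x ∈ K ∙ a := fun x => by
      have e : (g : V ≃ₗ[F] V) x - s x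
          = (g : V ≃ₗ[F] V) (ψ₂ x • b) - τ (ψ₂ x) • y := by
        conv_lhs => enter [1]; rw [hdec x, map_add, hP]
        rw [hs]; abel
      rw [e]
      exact hgmod _ _
    have hv : ∀ x, (s⁻¹ * (g : V ≃ₗ[F] V)) x - x ∈ K ∙ a := fun x => by
      obtain ⟨l, hl⟩ := Submodule.mem_span_singleton.1 (hdiff x)
      refine Submodule.mem_span_singleton.2 ⟨Q l, ?_⟩
      apply s.injective
      show s (Q l • a) = s (s.symm ((g : V ≃ₗ[F] V) x) - x)
      rw [map_sub, LinearEquiv.apply_symm_apply, hs, LinearMap.map_smul ψ₁, LinearMap.map_smul ψ₂, hψ1a, hψ2a, smul_eq_mul,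
        smul_eq_mul, mul_one, mul_zero, hPQ, ← hl]
      have h0 : τ 0 = 0 := by simpa using hτadd 0 0
      rw [h0, zero_smul, add_zero]
    let c : V →ₗ[F] K := (ψ₁.restrictScalars F) ∘ₗ
      (((s⁻¹ * (g : V ≃ₗ[F] V)) : V ≃ₗ[F] V).toLinearMap - LinearMap.id)
    have hc : ∀ x, (s⁻¹ * (g : V ≃ₗ[F] V)) x = x + c x • a := fun x => by
      obtain ⟨l, hl⟩ := Submodule.mem_span_singleton.1 (hv x)
      show _ = x + ψ₁ ((s⁻¹ * (g : V ≃ₗ[F] V)) x - x) • a
      rw [← hl, map_smul, hψ1a, smul_eq_mul, mul_one, hl]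
      abel
    have hca : ∀ k : K, c (k • a) = 0 := fun k => by
      have e : (s⁻¹ * (g : V ≃ₗ[F] V)) (k • a) = k • a := by
        apply s.injective
        show s (s.symm ((g : V ≃ₗ[F] V) (k • a))) = _
        rw [LinearEquiv.apply_symm_apply, hP, hs, LinearMap.map_smul ψ₁, LinearMap.map_smul ψ₂, hψ1a, hψ2a, smul_eq_mul,
          smul_eq_mul, mul_one, mul_zero]
        have h0 : τ 0 = 0 := by simpa using hτadd 0 0
        rw [h0, zero_smul, add_zero]
      show ψ₁ ((s⁻¹ * (g : V ≃ₗ[F] V)) (k • a) - k • a) = 0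
      rw [e, sub_self, map_zero]
    have hcT : c ∈ Tset M a := ⟨hca, _, hvM, hc⟩
    intro k
    refine ⟨τ k, fun x => ?_⟩
    have h5 : ∀ z, (g : V ≃ₗ[F] V) z = s (z + c z • a) := fun z => by
      rw [← hc z]
      exact (s.apply_symm_apply _).symm
    obtain ⟨k', hk'⟩ := hsN k
    have hk : k' = τ k := by
      have h6 := hk' b
      rw [hs, hs, LinearMap.map_smul ψ₁, LinearMap.map_smul ψ₂, hψ1b, hψ2b, smul_eq_mul, smul_eq_mul, mul_zero, mul_one,
        map_zero, zero_smul, zero_add, zero_add, smul_smul] at h6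
      have h1' : τ 1 = 1 := mul_right_cancel₀ hP1 (by rw [← hτ, one_mul, one_mul])
      rw [h1', mul_one] at h6
      exact (smul_inj (fun h0 : y = 0 => hy (h0 ▸ Submodule.zero_mem _)) h6).symm
    rw [h5, h5, hM.linear_of_two hF hr ha (hnf a ha) hcT, mul_smul, ← smul_add, hk', hk]
  -- orbits
  have hlines : ∀ v : V, v ≠ 0 → line F K v ∈ orbit H L := by
    intro v hv
    obtain ⟨h, hh, hhl, hha⟩ := hM.exists_move ha hv
    refine ⟨⟨⟨h, hh⟩, fun k => ⟨k, hhl k⟩⟩, ?_⟩
    show L.map (h : V →ₗ[F] V) = line F K v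
    ext x
    constructor
    · rintro ⟨z, hz, rfl⟩
      obtain ⟨l, rfl⟩ := mem_line.1 hz
      exact mem_line.2 ⟨l, by rw [← hha]; exact (hhl l a).symm⟩
    · intro hx
      obtain ⟨l, rfl⟩ := mem_line.1 hx
      exact ⟨l • a, mem_line.2 ⟨l, rfl⟩, by rw [← hha]; exact hhl l a⟩
  have horbH : (orbit H L).ncard = 5 := by
    let Φ : Projectivization K V → orbit H L := fun x => ⟨_, hlines _ x.rep_nonzero⟩
    have hΦ : Function.Bijective Φ := by
      constructor
      · intro x z hxz
        have h1 : x.rep ∈ line F K z.rep := by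
          have e : line F K x.rep = line F K z.rep := congrArg Subtype.val hxz
          rw [← e]; exact mem_line.2 ⟨1, one_smul _ _⟩
        obtain ⟨k, hk⟩ := mem_line.1 h1
        rw [← x.mk_rep, ← z.mk_rep]
        exact (Projectivization.mk_eq_mk_iff' K _ _ _ _).2 ⟨k, hk⟩
      · rintro ⟨A, h, rfl⟩
        have hha : ((h : M) : V ≃ₗ[F] V) a ≠ 0 := fun h0 =>
          ha ((LinearEquiv.map_eq_zero_iff _).1 h0)
        refine ⟨Projectivization.mk K _ hha, Subtype.ext ?_⟩
        obtain ⟨c, hc⟩ := Projectivization.exists_smul_eq_mk_rep K _ hha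
        choose f hf using h.2
        show line F K _ = L.map ((((h : M) : V ≃ₗ[F] V)) : V →ₗ[F] V)
        rw [← hc]
        have hinj : Function.Injective f := fun k l hkl => by
          have e := hf k a
          rw [hkl, ← hf l a] at e
          exact smul_inj ha (((h : M) : V ≃ₗ[F] V).injective e)
        ext x
        constructor
        · intro hx
          obtain ⟨l, rfl⟩ := mem_line.1 hx
          obtain ⟨k, hk⟩ := Finite.surjective_of_injective hinj (l * c)
          refine ⟨k • a, mem_line.2 ⟨k, rfl⟩, ?_⟩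
          show ((h : M) : V ≃ₗ[F] V) (k • a) = _
          rw [hf, hk, mul_smul, Units.smul_def]
        · rintro ⟨z, hz, rfl⟩
          obtain ⟨k, rfl⟩ := mem_line.1 hz
          refine mem_line.2 ⟨f k * ((c : K))⁻¹, ?_⟩
          show _ = ((h : M) : V ≃ₗ[F] V) (k • a)
          rw [hf, mul_smul, Units.smul_def, inv_smul_smul₀ c.ne_zero]
    rw [← Nat.card_coe_set_eq, ← Nat.card_congr (Equiv.ofBijective Φ hΦ), Projectivization.card'',
      hV, Module.natCard_eq_pow_finrank (K := F), hF, hr]
    rfl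
  have horbM : orbit M L = {A : Submodule F V | finrank F A = 2} := by
    refine Set.Subset.antisymm ?_ fun A hA => ?_
    · rintro _ ⟨h, rfl⟩
      show finrank F (L.map ((h : V ≃ₗ[F] V) : V →ₗ[F] V)) = 2
      rw [LinearEquiv.finrank_map_eq, hL, finrank_line ha, hr]
    · obtain ⟨v, hv, hv0⟩ : ∃ v ∈ A, v ≠ 0 := by
        refine Submodule.exists_mem_ne_zero_of_ne_bot fun h => ?_
        rw [Set.mem_setOf_eq, h, finrank_bot] at hA
        omega
      by_cases hAl : A = line F K v
      · obtain ⟨h, hh⟩ := hlines v hv0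
        exact ⟨(h : M), hh.trans hAl.symm⟩
      obtain ⟨x, hx, hxv⟩ : ∃ x ∈ A, x ∉ line F K v := by
        by_contra h
        push Not at h
        exact hAl (Submodule.eq_of_le_of_finrank_eq h (by rw [finrank_line hv0, hr]; exact hA))
      obtain ⟨w, hw, hw0⟩ := Submodule.exists_mem_ne_zero_of_ne_bot hbot
      obtain ⟨x0, hx0, hx0a⟩ : ∃ x ∈ img K a g₀, x ∉ line F K a := by
        by_contra h
        push Not at h
        exact hne (Submodule.eq_of_le_of_finrank_eq h (by rw [finrank_img ha, finrank_line ha]))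
      obtain ⟨k, hk⟩ := mem_line.1 hw.2
      have hk0 : k ≠ 0 := fun h => hw0 (by rw [← hk, h, zero_smul])
      have hwx : x0 ∉ K ∙ w := fun h => hx0a (by
        obtain ⟨l, hl⟩ := Submodule.mem_span_singleton.1 h
        exact mem_line.2 ⟨l * k, by rw [mul_smul, hk, hl]⟩)
      have hxw : w ∉ K ∙ x0 := fun h => by
        obtain ⟨l, hl⟩ := Submodule.mem_span_singleton.1 h
        have hl0 : l ≠ 0 := fun h => hw0 (by rw [← hl, h, zero_smul])
        exact hwx (Submodule.mem_span_singleton.2 ⟨l⁻¹, by rw [← hl, inv_smul_smul₀ hl0]⟩)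
      obtain ⟨χ₁, χ₂, h11, h12, h21, h22, hdec'⟩ := hbasis hxw hwx
      let f : V →ₗ[K] V := χ₁.smulRight v + χ₂.smulRight x
      have hfw : f w = v := by simp [f, h11, h21]
      have hfx : f x0 = x := by simp [f, h12, h22]
      have hfi : Function.Injective f := by
        rw [← LinearMap.ker_eq_bot, Submodule.eq_bot_iff]
        intro z hz
        rw [LinearMap.mem_ker] at hz
        simp only [f, LinearMap.add_apply, LinearMap.smulRight_apply] at hz
        have h2' : χ₂ z = 0 := by
          by_contra hne'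
          refine hxv (mem_line.2 ⟨-((χ₂ z)⁻¹ * χ₁ z), ?_⟩)
          rw [neg_smul, mul_smul, eq_neg_of_add_eq_zero_left hz, smul_neg, inv_smul_smul₀ hne',
            neg_neg]
        rw [h2', zero_smul, add_zero, smul_eq_zero] at hz
        rw [hdec' z, h2', hz.resolve_right hv0, zero_smul, zero_smul, add_zero]
      obtain ⟨h, hh, hhx⟩ := hM.klin_mem_two hF f hfi
      refine ⟨⟨h, hh⟩ * ⟨g₀, hg₀⟩, ?_⟩
      show L.map ((h * g₀ : V ≃ₗ[F] V) : V →ₗ[F] V) = A
      have e : img K a (h * g₀) = (img K a g₀).map (h : V →ₗ[F] V) := img_mul a h g₀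
      rw [show L.map ((h * g₀ : V ≃ₗ[F] V) : V →ₗ[F] V) = img K a (h * g₀) from rfl, e]
      have hsub : Submodule.span F {v, x} ≤ (img K a g₀).map (h : V →ₗ[F] V) := by
        rw [Submodule.span_le]
        rintro z (rfl | rfl)
        · exact ⟨w, hw.1, by show h w = _; rw [hhx, hfw]⟩
        · exact ⟨x0, hx0, by show h x0 = _; rw [hhx, hfx]⟩
      have hle : Submodule.span F {v, x} ≤ A := by
        rw [Submodule.span_le]
        rintro z (rfl | rfl) <;> assumption
      have hd : 2 ≤ finrank F (Submodule.span F {v, x}) := by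
        have hlt : Submodule.span F ({v} : Set V) < Submodule.span F {v, x} := by
          refine lt_of_le_of_ne (Submodule.span_mono (by simp)) fun h => hxv ?_
          have h7 : x ∈ Submodule.span F ({v} : Set V) :=
            h ▸ Submodule.subset_span (Set.mem_insert_of_mem _ rfl)
          obtain ⟨e', rfl⟩ := Submodule.mem_span_singleton.1 h7
          exact (line F K v).smul_mem e' (mem_line.2 ⟨1, one_smul _ _⟩)
        have := Submodule.finrank_lt_finrank_of_lt hlt
        rw [finrank_span_singleton hv0] at this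
        omega
      rw [← Submodule.eq_of_le_of_finrank_le hsub (by
          rw [LinearEquiv.finrank_map_eq, finrank_img ha, hr]; exact hd),
        Submodule.eq_of_le_of_finrank_le hle (by rw [show finrank F A = 2 from hA]; exact hd)]
  have h35 : {A : Submodule F V | finrank F A = 2}.ncard = 35 := by
    letI := Fintype.ofFinite V
    haveI : Finite (Submodule F V) := Finite.of_injective _ SetLike.coe_injective
    letI := Fintype.ofFinite (Submodule F V)
    set P2 := Finset.univ.filter fun A : Submodule F V => finrank F A = 2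
    set pairs := ((Finset.univ : Finset V).erase 0).offDiag
    have hp : pairs.card = 210 := by
      rw [Finset.offDiag_card, Finset.card_erase_of_mem (Finset.mem_univ _), Finset.card_univ,
        ← Nat.card_eq_fintype_card, hV]
    have hF' : ∀ e : F, e = 0 ∨ e = 1 := by
      intro e
      letI := Fintype.ofFinite F
      by_contra he
      push Not at he
      have h8 : ({0, 1, e} : Finset F).card ≤ 2 := by
        refine (Finset.card_le_univ _).trans_eq ?_
        rw [← Nat.card_eq_fintype_card, hF]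
      rw [Finset.card_insert_of_notMem (by simp [Ne.symm he.1]),
        Finset.card_pair (Ne.symm he.2)] at h8
      omega
    have hspan : ∀ p ∈ pairs, finrank F (Submodule.span F {p.1, p.2}) = 2 := by
      rintro ⟨p₁, p₂⟩ hp'
      simp only [pairs, Finset.mem_offDiag, Finset.mem_erase, Finset.mem_univ, and_true] at hp'
      refine le_antisymm ?_ ?_
      · refine le_trans (Submodule.finrank_mono (Submodule.span_mono
          (t := ↑({p₁, p₂} : Finset V)) (fun x hx => by simpa using hx))) ?_
        exact (finrank_span_finset_le_card _).trans Finset.card_le_two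
      · have hlt : Submodule.span F ({p₁} : Set V) < Submodule.span F {p₁, p₂} := by
          refine lt_of_le_of_ne (Submodule.span_mono (by simp)) fun h => hp'.2.2 ?_
          have h7 : p₂ ∈ Submodule.span F ({p₁} : Set V) :=
            h ▸ Submodule.subset_span (Set.mem_insert_of_mem _ rfl)
          obtain ⟨e, he⟩ := Submodule.mem_span_singleton.1 h7
          rcases hF' e with rfl | rfl
          · rw [zero_smul] at he; exact absurd he.symm hp'.2.1
          · rw [one_smul] at he; exact he
        have := Submodule.finrank_lt_finrank_of_lt hlt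
        rw [finrank_span_singleton hp'.1] at this
        show 2 ≤ finrank F (Submodule.span F {p₁, p₂})
        omega
    have hfib : ∀ A ∈ P2, (pairs.filter fun p => Submodule.span F {p.1, p.2} = A).card = 6 := by
      intro A hA
      have hA2 : finrank F A = 2 := (Finset.mem_filter.1 hA).2
      have e : (pairs.filter fun p => Submodule.span F {p.1, p.2} = A)
          = (((Finset.univ : Finset V).filter fun x => x ∈ A).erase 0).offDiag := by
        ext ⟨p₁, p₂⟩
        simp only [pairs, Finset.mem_filter, Finset.mem_offDiag, Finset.mem_erase,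
          Finset.mem_univ, and_true, true_and]
        constructor
        · rintro ⟨⟨h1, h2', h3⟩, rfl⟩
          exact ⟨⟨h1, Submodule.subset_span (by simp)⟩, ⟨h2', Submodule.subset_span (by simp)⟩, h3⟩
        · rintro ⟨⟨h1, m1⟩, ⟨h2', m2⟩, h3⟩
          refine ⟨⟨h1, h2', h3⟩, Submodule.eq_of_le_of_finrank_eq ?_ ?_⟩
          · rw [Submodule.span_le]
            rintro z (rfl | rfl) <;> assumption
          · rw [hA2, hspan (p₁, p₂) (by simp [pairs, h1, h2', h3])]
      rw [e, Finset.offDiag_card, Finset.card_erase_of_mem (by simp), ← Fintype.card_subtype,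
        ← Nat.card_eq_fintype_card,
        show Nat.card {x // x ∈ A} = 2 ^ 2 by
          rw [Module.natCard_eq_pow_finrank (K := F) (V := A), hA2, hF]]
      norm_num
    have hsum := Finset.card_eq_sum_card_fiberwise
      (f := fun p : V × V => Submodule.span F {p.1, p.2}) (s := pairs) (t := P2)
      (fun p hp' => Finset.mem_filter.2 ⟨Finset.mem_univ _, hspan p hp'⟩)
    rw [hp, Finset.sum_congr rfl hfib, Finset.sum_const, smul_eq_mul] at hsum
    rw [Set.ncard_eq_toFinset_card']
    simp only [Set.toFinset_setOf]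
    show P2.card = 35
    omega
  have hindex : H.index = 7 := by
    have h1 : (stabilizer M L).index = 35 := by rw [MulAction.index_stabilizer, horbM, h35]
    have h2' : (stabilizer M L).relIndex H = 5 := by
      rw [Subgroup.relIndex, show (stabilizer M L).subgroupOf H = stabilizer H L from rfl,
        MulAction.index_stabilizer, horbH]
    have := Subgroup.relIndex_mul_index hstab
    rw [h1, h2'] at this
    omega
  -- an element of order five
  let s₀ : V →ₗ[K] V := ψ₂.smulRight a + (ψ₁ + θ • ψ₂).smulRight b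
  have hs₀ : ∀ x, s₀ x = ψ₂ x • a + (ψ₁ x + θ * ψ₂ x) • b := fun x => by simp [s₀]
  have hsq : ∀ x, s₀ (s₀ x) = θ • s₀ x + x := by
    intro x
    have e1 : ψ₁ (s₀ x) = ψ₂ x := by rw [hs₀]; simp [hψ1a, hψ1b]
    have e2 : ψ₂ (s₀ x) = ψ₁ x + θ * ψ₂ x := by rw [hs₀]; simp [hψ2a, hψ2b]
    conv_rhs => rw [hs₀ x]; arg 2; rw [hdec x]
    rw [hs₀ (s₀ x), e1, e2]
    simp only [smul_add, smul_smul]
    module
  have h2V : ∀ x : V, x + x = 0 := fun x => by rw [← two_smul K x, h2, zero_smul]
  have hpow : ∀ x, s₀ (s₀ (s₀ (s₀ (s₀ x)))) = x := by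
    intro x
    have e3 : s₀ (s₀ (s₀ x)) = θ • s₀ x + θ • x := by
      rw [hsq x, map_add, map_smul, hsq x, smul_add, smul_smul, hθ, add_smul, one_smul]
      linear_combination (norm := module) h2V (s₀ x)
    have e4 : s₀ (s₀ (s₀ (s₀ x))) = s₀ x + θ • x := by
      rw [e3, map_add, map_smul, map_smul, hsq x, smul_add, smul_smul, hθ, add_smul, one_smul]
      linear_combination (norm := module) h2V (θ • s₀ x)
    rw [e4, map_add, map_smul, hsq x]
    linear_combination (norm := module) h2V (θ • s₀ x)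
  obtain ⟨s, hsM, hsx⟩ := hM.klin_mem_two hF s₀
    (Function.LeftInverse.injective (g := fun x => s₀ (s₀ (s₀ (s₀ x)))) hpow)
  -- it fixes another coset
  have hs5 : (⟨s, hsM⟩ : M) ^ 5 = 1 := by
    rw [pow_succ, pow_succ, pow_succ, pow_succ, pow_one]
    refine Subtype.ext (LinearEquiv.ext fun x => ?_)
    show s (s (s (s (s x)))) = x
    simp only [hsx]
    exact hpow x
  haveI : Fact (Nat.Prime 5) := ⟨Nat.prime_five⟩
  have hp5 : IsPGroup 5 (Subgroup.zpowers (⟨s, hsM⟩ : M)) := by
    intro z
    refine ⟨1, ?_⟩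
    obtain ⟨i, hi⟩ := z.2
    apply Subtype.ext
    rw [pow_one, SubmonoidClass.coe_pow, ← hi, ← zpow_natCast, ← zpow_mul, mul_comm, zpow_mul,
      zpow_natCast, hs5, one_zpow]
    rfl
  have hmod := hp5.card_modEq_card_fixedPoints (M ⧸ H)
  rw [← Subgroup.index, hindex] at hmod
  have hsN : (⟨s, hsM⟩ : M) ∈ H := fun k => ⟨k, fun x => by
    show s (k • x) = k • s x
    rw [hsx, hsx, map_smul]⟩
  have hfix1 : (QuotientGroup.mk 1 : M ⧸ H) ∈ fixedPoints (Subgroup.zpowers (⟨s, hsM⟩ : M)) (M ⧸ H) := by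
    intro z
    show QuotientGroup.mk ((z : M) * 1) = _
    rw [mul_one, QuotientGroup.eq, mul_one]
    obtain ⟨i, hi⟩ := z.2
    rw [← hi]
    exact inv_mem (zpow_mem hsN i)
  obtain ⟨c₀, hc₀, hc₀ne⟩ : ∃ c ∈ fixedPoints (Subgroup.zpowers (⟨s, hsM⟩ : M)) (M ⧸ H),
      c ≠ QuotientGroup.mk 1 := by
    by_contra h
    push Not at h
    have : fixedPoints (Subgroup.zpowers (⟨s, hsM⟩ : M)) (M ⧸ H) = {QuotientGroup.mk 1} :=
      Set.eq_singleton_iff_unique_mem.2 ⟨hfix1, h⟩
    rw [Nat.card_congr (Equiv.setCongr this)] at hmod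
    simp [Nat.ModEq] at hmod
  obtain ⟨g₁, rfl⟩ := QuotientGroup.mk_surjective c₀
  exfalso
  apply hc₀ne
  rw [QuotientGroup.eq, mul_one]
  refine H.inv_mem ?_
  -- the conjugate field commutes with `s`
  set G : V ≃ₗ[F] V := (g₁ : V ≃ₗ[F] V)
  have hh : (g₁⁻¹ * ⟨s, hsM⟩ * g₁ : M) ∈ H := by
    have := hc₀ ⟨_, Subgroup.mem_zpowers _⟩
    have h' : (QuotientGroup.mk ((⟨s, hsM⟩ : M) * g₁) : M ⧸ H) = QuotientGroup.mk g₁ := this
    rw [QuotientGroup.eq] at h'
    convert H.inv_mem h' using 1
    group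
  obtain ⟨θ', hθ'⟩ := hh θ
  have hh5 : ((g₁⁻¹ * ⟨s, hsM⟩ * g₁ : M)) ^ 5 = 1 := by
    rw [show g₁⁻¹ * (⟨s, hsM⟩ : M) * g₁ = MulAut.conj g₁⁻¹ ⟨s, hsM⟩ by simp, ← map_pow, hs5,
      map_one]
  set hm' : V ≃ₗ[F] V := ((g₁⁻¹ * ⟨s, hsM⟩ * g₁ : M) : V ≃ₗ[F] V) with hhm
  have hθθ' : θ' = θ := by
    rcases hall θ' with h | h | h | h
    · exfalso
      have := hθ' a
      rw [h, zero_smul, LinearEquiv.map_eq_zero_iff, smul_eq_zero] at this
      exact hθ0 (this.resolve_right ha)
    · exfalso
      have := hθ' a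
      rw [h, one_smul] at this
      have h3 := hm'.injective this
      have h4 : θ = 1 := smul_inj ha (h3.trans (one_smul K a).symm)
      rw [h4] at hθ
      exact one_ne_zero (α := K) (by linear_combination -hθ)
    · exact h
    · exfalso
      rw [h] at hθ'
      have h1' : ∀ x, hm' (hm' (θ • x)) = θ • hm' (hm' x) := fun x => by
        rw [hθ', add_smul, one_smul, map_add, hθ', add_smul, one_smul]
        linear_combination (norm := module) h2V (hm' (hm' x))
      have h5 : ∀ x, hm' (hm' (hm' (hm' (hm' x)))) = x := fun x => by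
        have := congrArg (fun z : M => (z : V ≃ₗ[F] V) x) hh5
        simpa [pow_succ, hhm] using this
      have := h5 (θ • a)
      rw [h1', h1', hθ', h5, add_smul, one_smul, add_eq_left] at this
      exact ha this
  rw [hθθ'] at hθ'
  have hGi : ∀ x, G (G⁻¹ x) = x := fun x => G.apply_symm_apply x
  -- the conjugate of `θ`
  set J : V → V := fun x => G (θ • G⁻¹ x) with hJ
  have hJs : ∀ x, J (s₀ x) = s₀ (J x) := by
    intro x
    have e1 : ∀ z, hm' z = G⁻¹ (s (G z)) := fun z => rfl
    have := hθ' (G⁻¹ x)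
    rw [e1, e1, hGi, hsx, hsx] at this
    have h3 := congrArg G this
    rw [hGi] at h3
    exact h3.symm
  have hJadd : ∀ x z, J (x + z) = J x + J z := fun x z => by simp [hJ, map_add, smul_add]
  have hindep : ∀ v : V, v ≠ 0 → ∀ k : K, s₀ v ≠ k • v := by
    intro v hv k hk
    have h3 := hsq v
    rw [hk, map_smul, hk, smul_smul, smul_smul] at h3
    have h4 : k * k = θ * k + 1 := smul_inj hv (by rw [add_smul, one_smul]; exact h3)
    rcases hall k with rfl | rfl | rfl | rfl
    · simp at h4
    · exact hθ0 (by linear_combination -h4)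
    · exact one_ne_zero (α := K) (by linear_combination -h4)
    · exact hθ0 (by linear_combination h4)
  -- maps commuting with `s` agreeing at one vector
  have hdet : ∀ (X Y : V → V), (∀ x z, X (x + z) = X x + X z) → (∀ x z, Y (x + z) = Y x + Y z) →
      (∀ x, X (s₀ x) = s₀ (X x)) → (∀ x, Y (s₀ x) = s₀ (Y x)) → ∀ v : V, v ≠ 0 → X v = Y v →
      ∀ x, X x = Y x := by
    intro X Y hXa hYa hXs hYs v hv hXY x
    have hkfun : s₀ v ∉ K ∙ v := fun h => by
      obtain ⟨k, hk⟩ := Submodule.mem_span_singleton.1 h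
      exact hindep v hv k hk.symm
    have hvk : v ∉ K ∙ s₀ v := fun h => by
      obtain ⟨k, hk⟩ := Submodule.mem_span_singleton.1 h
      have hk0 : k ≠ 0 := fun h => hv (by rw [← hk, h, zero_smul])
      exact hkfun (Submodule.mem_span_singleton.2 ⟨k⁻¹, by
        conv_lhs => arg 2; rw [← hk]
        rw [inv_smul_smul₀ hk0]⟩)
    obtain ⟨χ₁, χ₂, -, -, -, -, hdec'⟩ := hbasis hvk hkfun
    have h1' : X (s₀ v) = Y (s₀ v) := by rw [hXs, hYs, hXY]
    have h2' : X (s₀ (s₀ v)) = Y (s₀ (s₀ v)) := by rw [hXs, hYs, h1']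
    have h3' : X (s₀ (s₀ (s₀ v))) = Y (s₀ (s₀ (s₀ v))) := by rw [hXs, hYs, h2']
    have hθv1 : X (θ • s₀ v) = Y (θ • s₀ v) := by
      rw [hsq, hXa, hYa, hXY] at h2'
      exact add_right_cancel h2'
    have hθv0 : X (θ • v) = Y (θ • v) := by
      have e3 : s₀ (s₀ (s₀ v)) = θ • s₀ v + θ • v := by
        rw [hsq v, map_add, map_smul, hsq v, smul_add, smul_smul, hθ, add_smul, one_smul]
        linear_combination (norm := module) h2V (s₀ v)
      rw [e3, hXa, hYa, hθv1] at h3'
      exact add_left_cancel h3'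
    have hX0 : X 0 = 0 := by simpa using hXa 0 0
    have hY0 : Y 0 = 0 := by simpa using hYa 0 0
    have key : ∀ (k : K) (z : V), X z = Y z → X (θ • z) = Y (θ • z) →
        X (k • z) = Y (k • z) := by
      intro k z hz hθz
      rcases hall k with rfl | rfl | rfl | rfl
      · simp [hX0, hY0]
      · simpa using hz
      · exact hθz
      · rw [add_smul, one_smul, hXa, hYa, hz, hθz]
    rw [hdec' x, hXa, hYa, key _ _ hXY hθv0, key _ _ h1' hθv1]
  have hJlin : ∀ (k : K) x, J (k • x) = k • J x := by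
    obtain ⟨χ₁, χ₂, -, -, -, -, hdec'⟩ := hbasis (p₁ := a) (p₂ := s₀ a)
      (fun h => by
        obtain ⟨k, hk⟩ := Submodule.mem_span_singleton.1 h
        have hk0 : k ≠ 0 := fun h => ha (by rw [← hk, h, zero_smul])
        exact hindep a ha k⁻¹ (by
          conv_rhs => arg 2; rw [← hk]
          rw [inv_smul_smul₀ hk0]))
      (fun h => by
        obtain ⟨k, hk⟩ := Submodule.mem_span_singleton.1 h
        exact hindep a ha k hk.symm)
    set α := χ₁ (J a)
    set β := χ₂ (J a)
    have hagree := hdet J (fun x => α • x + β • s₀ x) hJadd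
      (fun x z => by simp only [map_add, smul_add]; abel) hJs
      (fun x => by simp only [map_add, map_smul]) a ha (hdec' (J a))
    intro k x
    rw [hagree, hagree, map_smul, smul_add, smul_comm k α, smul_comm k β]
  have hJsq : ∀ x, J (J x) = J x + x := fun x => by
    simp only [hJ]
    rw [show G⁻¹ (G (θ • G⁻¹ x)) = θ • G⁻¹ x from G.symm_apply_apply _, smul_smul, hθ, add_smul,
      one_smul, map_add, hGi]
  set Z : V → V := fun x => J x + θ • x with hZ
  have hZZ : ∀ x, Z (Z x) = Z x := fun x => by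
    simp only [hZ]
    rw [hJadd, hJsq, hJlin, smul_add, smul_smul, hθ, add_smul, one_smul]
    linear_combination (norm := module) h2V (θ • J x) + h2V x
  have hZadd : ∀ x z, Z (x + z) = Z x + Z z := fun x z => by
    simp only [hZ, hJadd, smul_add]; abel
  have hZs : ∀ x, Z (s₀ x) = s₀ (Z x) := fun x => by simp [hZ, hJs, map_add, map_smul]
  have hG : ∀ x, G (θ • x) = J (G x) := fun x => by
    simp only [hJ]
    rw [show G⁻¹ (G x) = x from G.symm_apply_apply x]
  obtain ⟨θ'', hθ''⟩ : ∃ θ'', ∀ x, G (θ • x) = θ'' • G x := by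
    by_cases hz : Z a = 0
    · refine ⟨θ, fun x => ?_⟩
      have := hdet Z (fun _ => 0) hZadd (by simp) hZs (by simp) a ha hz (G x)
      simp only [hZ] at this
      rw [hG]
      linear_combination (norm := module) this - h2V (θ • G x)
    · refine ⟨θ + 1, fun x => ?_⟩
      have := hdet Z id hZadd (by simp) hZs (by simp) (Z a) hz (hZZ a) (G x)
      simp only [hZ, id] at this
      rw [hG]
      linear_combination (norm := module) this - h2V (θ • G x)
  intro k
  rcases hall k with rfl | rfl | rfl | rfl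
  · exact ⟨0, fun x => by simp⟩
  · exact ⟨1, fun x => by simp⟩
  · exact ⟨θ'', hθ''⟩
  · refine ⟨θ'' + 1, fun x => ?_⟩
    show G ((θ + 1) • x) = _
    rw [add_smul, one_smul, map_add, hθ'', add_smul, one_smul]

end Cfsg.Agent.FieldExtMax
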