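/-
An overgroup of the normaliser of a field of prime degree normalises it or has all transvections;
the matrix version.

Main results: `norms_of_moves`, `Overgroup.norms_or_trans`, `mem_normalizer_iff`, `gl_cases`.
-/
import Cfsg.Agent.Lib.FieldExtMax.Two
import Cfsg.Agent.Lib.PrimeDim.SLProper

set_option autoImplicit false
set_option linter.unusedSectionVars false

namespace Cfsg.Agent.FieldExtMax

open Module

section Abstract

variable {F K V : Type*} [Field F] [Finite F] [Field K] [Finite K] [Algebra F K]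
  [AddCommGroup V] [Module F V] [Module K V] [IsScalarTower F K V] [Finite V]

variable {M : Subgroup (V ≃ₗ[F] V)}

/-- Lines meeting trivially makes the group semilinear. -/
theorem norms_of_moves (hoff : ∀ a : V, ∃ w : V, w ∉ K ∙ a)
    (hmove : ∀ {a b : V}, a ≠ 0 → b ≠ 0 →
      ∃ g ∈ M, (∀ (k : K) x, g (k • x) = k • g x) ∧ g a = b)
    (hdisj : ∀ a : V, a ≠ 0 → ∀ g ∈ M, img K a g ≠ line F K a → img K a g ⊓ line F K a = ⊥) :
    ∀ g ∈ M, Norms K g := by
  intro g hg k
  have hline : ∀ (a : V), ∃ k' : K, g (k • a) = k' • g a := by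
    intro a
    by_cases ha : a = 0
    · exact ⟨0, by simp [ha]⟩
    have hga : g a ≠ 0 := fun h => ha ((LinearEquiv.map_eq_zero_iff _).1 h)
    obtain ⟨h, hh, hhl, hha⟩ := hmove ha hga
    have hhi : ∀ x, h (h⁻¹ x) = x := fun x => h.apply_symm_apply x
    have hea : (h⁻¹ * g) a = a := by
      apply h.injective
      show h (h⁻¹ (g a)) = _
      rw [hhi, hha]
    have heq : img K a (h⁻¹ * g) = line F K a := by
      by_contra hne
      have h1 := hdisj a ha _ (mul_mem (inv_mem hh) hg) hne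
      have h2 : a ∈ img K a (h⁻¹ * g) ⊓ line F K a :=
        ⟨⟨a, mem_line.2 ⟨1, one_smul _ _⟩, hea⟩, mem_line.2 ⟨1, one_smul _ _⟩⟩
      rw [h1] at h2
      exact ha h2
    have h3 : (h⁻¹ * g) (k • a) ∈ line F K a := by
      rw [← heq]; exact ⟨_, mem_line.2 ⟨k, rfl⟩, rfl⟩
    obtain ⟨k', hk'⟩ := mem_line.1 h3
    refine ⟨k', ?_⟩
    have h4 := congrArg h hk'
    rw [hhl, hha] at h4
    rw [h4]
    exact (hhi _).symm
  have hindep : ∀ v w : V, v ≠ 0 → w ∉ K ∙ v → ∀ p q : K,
      g (k • v) = p • g v → g (k • w) = q • g w → p = q := by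
    intro v w hv hw p q hp hq
    have hgw : g w ∉ K ∙ g v := by
      intro h
      obtain ⟨s, hs⟩ := Submodule.mem_span_singleton.1 h
      have hmaps : ∀ l : K, ∃ l' : K, g (l • v) = l' • g v := by
        intro l
        by_cases hl : l = 0
        · exact ⟨0, by simp [hl]⟩
        have hgv : g v ≠ 0 := fun h => hv ((LinearEquiv.map_eq_zero_iff _).1 h)
        obtain ⟨h', hh', hhl', hha'⟩ := hmove hv hgv
        have hhi : ∀ x, h' (h'⁻¹ x) = x := fun x => h'.apply_symm_apply x
        have hea : (h'⁻¹ * g) v = v := by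
          apply h'.injective
          show h' (h'⁻¹ (g v)) = _
          rw [hhi, hha']
        have heq : img K v (h'⁻¹ * g) = line F K v := by
          by_contra hne
          have h1 := hdisj v hv _ (mul_mem (inv_mem hh') hg) hne
          have h2 : v ∈ img K v (h'⁻¹ * g) ⊓ line F K v :=
            ⟨⟨v, mem_line.2 ⟨1, one_smul _ _⟩, hea⟩, mem_line.2 ⟨1, one_smul _ _⟩⟩
          rw [h1] at h2
          exact hv h2
        have h3 : (h'⁻¹ * g) (l • v) ∈ line F K v := by
          rw [← heq]; exact ⟨_, mem_line.2 ⟨l, rfl⟩, rfl⟩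
        obtain ⟨l', hl'⟩ := mem_line.1 h3
        refine ⟨l', ?_⟩
        have h4 := congrArg h' hl'
        rw [hhl', hha'] at h4
        rw [h4]
        exact (hhi _).symm
      choose f hf using hmaps
      have hgv : g v ≠ 0 := fun h => hv ((LinearEquiv.map_eq_zero_iff _).1 h)
      have hinj : Function.Injective f := fun l l' hll => smul_inj hv (g.injective (by
        rw [hf, hf, hll]))
      obtain ⟨l, hl⟩ := Finite.surjective_of_injective hinj s
      refine hw (Submodule.mem_span_singleton.2 ⟨l, g.injective ?_⟩)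
      rw [hf, hl, hs]
    obtain ⟨t, ht⟩ := hline (v + w)
    rw [smul_add, map_add, map_add, hp, hq, smul_add] at ht
    have h5 : (q - t) • g w = (t - p) • g v := by
      linear_combination (norm := module) ht
    by_cases hqt : q = t
    · rw [hqt, sub_self, zero_smul] at h5
      have h6 := (smul_eq_zero.1 h5.symm).resolve_right
        (fun h => hv ((LinearEquiv.map_eq_zero_iff _).1 h))
      rw [hqt]; exact (sub_eq_zero.1 h6).symm
    · refine absurd (Submodule.mem_span_singleton.2 ⟨(q - t)⁻¹ * (t - p), ?_⟩) hgw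
      rw [mul_smul, ← h5, inv_smul_smul₀ (sub_ne_zero.2 hqt)]
  obtain ⟨a, ha⟩ : ∃ a : V, a ≠ 0 := by
    obtain ⟨w, hw⟩ := hoff (0 : V)
    exact ⟨w, fun h => hw (by rw [h]; exact Submodule.zero_mem _)⟩
  obtain ⟨k', hk'⟩ := hline a
  refine ⟨k', fun x => ?_⟩
  by_cases hx0 : x = 0
  · simp [hx0]
  obtain ⟨q, hq⟩ := hline x
  rw [hq]
  congr 1
  by_cases hx : x ∈ K ∙ a
  · obtain ⟨b, hb⟩ := hoff a
    have hb0 : b ≠ 0 := fun h => hb (h ▸ Submodule.zero_mem _)
    obtain ⟨p, hp⟩ := hline b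
    have h1 := hindep a b ha hb k' p hk' hp
    have hbx : b ∉ K ∙ x := fun h => hb
      ((Submodule.span_singleton_le_iff_mem _ _).2 hx h)
    have h2 := hindep x b hx0 hbx q p hq hp
    rw [h1, h2]
  · exact (hindep a x ha hx k' q hk' hq).symm

theorem Overgroup.norms_of_disjoint (hM : Overgroup K M)
    (hdisj : ∀ a : V, a ≠ 0 → ∀ g ∈ M, img K a g ≠ line F K a → img K a g ⊓ line F K a = ⊥) :
    ∀ g ∈ M, Norms K g :=
  norms_of_moves hM.exists_off hM.exists_move hdisj

theorem Overgroup.norms_or_trans (hM : Overgroup K M) : (∀ g ∈ M, Norms K g) ∨ Trans M := by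
  by_cases hfull : ∃ a : V, a ≠ 0 ∧ Full (K := K) M a
  · obtain ⟨a, ha, h⟩ := hfull
    exact Or.inr (hM.trans_of_full ha h)
  push Not at hfull
  left
  by_cases hgood : ∀ a : V, a ≠ 0 → ∀ g ∈ M, img K a g ≠ line F K a →
      img K a g ⊓ line F K a = ⊥
  · exact hM.norms_of_disjoint hgood
  push Not at hgood
  obtain ⟨a, ha, g, hg, hne, hbot⟩ := hgood
  rcases hM.disjoint_or ha (hfull a ha) with h | ⟨hF, hr⟩
  · exact absurd (h g hg hne) hbot
  rcases (by have := hM.dim; omega : 3 ≤ finrank K V ∨ finrank K V = 2) with hm | hm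
  · exact absurd (hM.disjoint_of_three_le hF hr hm ha (hfull a ha) hg hne) hbot
  · exact hM.norms_of_four hF hr hm hfull ha hg hne hbot

end Abstract

section Matrices

open Matrix Transvect

variable {ι : Type} [Fintype ι] [DecidableEq ι] {F : Type*} [Field F] [Finite F]

attribute [-simp] app_apply

/-- The normaliser of a field of matrices consists of its semilinear maps. -/
theorem mem_normalizer_iff [Nonempty ι] {L : Type*} [Field L] [Finite L] [Algebra F L] [Module L (ι → F)]
    [IsScalarTower F L (ι → F)] (j : L →ₐ[F] Matrix ι ι F) {K : Subalgebra F (Matrix ι ι F)}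
    (hjK : ∀ x, x ∈ K ↔ ∃ l, j l = x) (hsmul : ∀ (k : L) (x : ι → F), k • x = j k *ᵥ x)
    (g : GL ι F) : g ∈ Cfsg.Geo.subalgebraNormalizer K ↔ Norms L (app g) := by
  constructor
  · intro hg k
    obtain ⟨k', hk'⟩ := (hjK _).1 ((hg (j k)).1 ((hjK _).2 ⟨k, rfl⟩))
    refine ⟨k', fun x => ?_⟩
    rw [app_apply, app_apply, hsmul, hsmul, Matrix.mulVec_mulVec, Matrix.mulVec_mulVec, hk',
      mul_assoc, mul_assoc, Units.inv_mul, mul_one]
  · intro hg
    choose f hf using hg
    have hjinj : Function.Injective j := j.toRingHom.injective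
    have hconj : ∀ k : L,
        (g : Matrix ι ι F) * j k * ((g⁻¹ : GL ι F) : Matrix ι ι F) = j (f k) := by
      intro k
      have h1 : (g : Matrix ι ι F) * j k = j (f k) * g := by
        refine Matrix.ext_of_mulVec_single fun i => ?_
        have := hf k (Pi.single i 1)
        rw [app_apply, app_apply, hsmul, hsmul, Matrix.mulVec_mulVec, Matrix.mulVec_mulVec] at this
        exact this
      rw [h1, mul_assoc, Units.mul_inv, mul_one]
    intro k
    refine ⟨fun hk => ?_, fun hk => ?_⟩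
    · obtain ⟨l, rfl⟩ := (hjK _).1 hk
      rw [hconj]; exact (hjK _).2 ⟨_, rfl⟩
    · have hinj : Function.Injective f := fun a b hab => hjinj (by
        have h1 := (hconj a).trans ((congrArg j hab).trans (hconj b).symm)
        exact (Units.mul_right_inj g).1 ((Units.mul_left_inj g⁻¹).1 h1))
      obtain ⟨l', hl'⟩ := (hjK _).1 hk
      obtain ⟨l, hl⟩ := Finite.surjective_of_injective hinj l'
      have h1 := (hconj l).trans ((congrArg j hl).trans hl')
      rw [← (Units.mul_right_inj g).1 ((Units.mul_left_inj g⁻¹).1 h1)]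
      exact (hjK _).2 ⟨l, rfl⟩

/-- A subgroup containing `SL ∩ N(K)` normalises `K` or contains `SL`; and the determinant is
surjective on the normaliser. -/
theorem gl_cases_aux {L : Type*} [Field L] [Finite L] [Algebra F L] {r : ℕ} (hr : r.Prime)
    (hlt : r < Fintype.card ι) (j : L →ₐ[F] Matrix ι ι F) (hdeg : finrank F L = r)
    {K : Subalgebra F (Matrix ι ι F)} (hK : Cfsg.Geo.IsFieldSubalgebra r K)
    (hjK : ∀ x, x ∈ K ↔ ∃ l, j l = x) :
    (∀ M : Subgroup (GL ι F),
      Cfsg.Geo.subalgebraNormalizer K ⊓ Cfsg.Geo.specialLinear ι F ≤ M →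
        M ≤ Cfsg.Geo.subalgebraNormalizer K ∨ Cfsg.Geo.specialLinear ι F ≤ M) ∧
    ¬ Cfsg.Geo.specialLinear ι F ≤ Cfsg.Geo.subalgebraNormalizer K ∧
    (∀ c : F, c ≠ 0 → ∃ g ∈ Cfsg.Geo.subalgebraNormalizer K, (g : Matrix ι ι F).det = c) := by
  classical
  haveI : Finite (Matrix ι ι F) := inferInstanceAs (Finite (ι → ι → F))
  haveI : Nonempty ι := Fintype.card_pos_iff.1 (by omega)
  let ρ : L →+* ((ι → F) →ₗ[F] (ι → F)) :=
    (Matrix.toLinAlgEquiv' : Matrix ι ι F ≃ₐ[F] _).toAlgHom.toRingHom.comp j.toRingHom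
  letI : Module L (ι → F) := Module.compHom _ ρ
  have hsmul : ∀ (k : L) (x : ι → F), k • x = j k *ᵥ x := fun k x => by
    show ρ k x = _
    simp [ρ]
  haveI : IsScalarTower F L (ι → F) := ⟨fun c k x => by
    rw [hsmul, hsmul, map_smul, Matrix.smul_mulVec]⟩
  have hdim : 2 ≤ finrank L (ι → F) := by
    have h := Module.finrank_mul_finrank F L (ι → F)
    rw [Module.finrank_fintype_fun_eq_card, hdeg] at h
    by_contra hc
    have : r * finrank L (ι → F) ≤ r * 1 := Nat.mul_le_mul_left r (by omega)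
    omega
  -- linear equivalences and matrices
  have happ : ∀ e : (ι → F) ≃ₗ[F] (ι → F), ∃ g : GL ι F, app g = e := fun e => by
    refine ⟨⟨LinearMap.toMatrix' (e : (ι → F) →ₗ[F] ι → F),
      LinearMap.toMatrix' (e.symm : (ι → F) →ₗ[F] ι → F), ?_, ?_⟩, ?_⟩
    · rw [← LinearMap.toMatrix'_comp]; simp
    · rw [← LinearMap.toMatrix'_comp]; simp
    · ext x : 1
      simp [app_apply, LinearMap.toMatrix'_mulVec]
  have hdet : ∀ g : GL ι F, LinearMap.det (app g : (ι → F) →ₗ[F] ι → F)
      = (g : Matrix ι ι F).det := fun g => by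
    rw [show (app g : (ι → F) →ₗ[F] ι → F) = Matrix.toLin' (g : Matrix ι ι F) from
      LinearMap.ext fun x => by simp [app_apply], LinearMap.det_toLin']
  have hnorm : ∀ g : GL ι F, g ∈ Cfsg.Geo.subalgebraNormalizer K ↔ Norms L (app g) :=
    fun g => mem_normalizer_iff j hjK hsmul g
  refine ⟨fun M hM => ?_, ?_, fun c hc => ?_⟩
  · have hO : Overgroup L (M.map app) :=
      { deg := by rw [hdeg]; exact hr
        dim := hdim
        semi := fun e he hd => by
          obtain ⟨g, rfl⟩ := happ e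
          refine ⟨g, hM ⟨(hnorm g).2 he, ?_⟩, rfl⟩
          show g ∈ Cfsg.Geo.specialLinear ι F
          rw [Transvect.mem_sl_iff, ← hdet]
          exact hd }
    rcases hO.norms_or_trans with h | h
    · exact Or.inl fun g hg => (hnorm g).2 (h _ ⟨g, hg, rfl⟩)
    · refine Or.inr (Transvect.sl_le_of_tv M fun v φ hφ => ?_)
      obtain ⟨_, ⟨g, hg, rfl⟩, hgx⟩ := h v φ hφ
      rwa [← Transvect.gl_ext (g := g) (h := Transvect.tv v φ) fun x => by
        rw [hgx, Transvect.tv_apply hφ]]
  · intro hle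
    obtain ⟨i₀⟩ := ‹Nonempty ι›
    have h3 : 3 ≤ Fintype.card ι := by have := hr.two_le; omega
    obtain ⟨v, hv0, hφv, -⟩ := PrimeDim.exists_ker_ne_zero h3
      (LinearMap.proj i₀ : (ι → F) →ₗ[F] F) 0
    exact PrimeDim.tv_not_mem_subalgebraNormalizer h3 hr.two_le hK hφv hv0
      (fun h => by simpa using LinearMap.congr_fun h (Pi.single i₀ 1))
      (hle (Transvect.tv_mem_sl v _))
  · obtain ⟨e, he⟩ := FiniteField.norm_surjective F L c
    have he0 : e ≠ 0 := fun h => hc (by rw [← he, h, Algebra.norm_zero])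
    obtain ⟨a, ha⟩ : ∃ a : ι → F, a ≠ 0 := exists_ne 0
    obtain ⟨ψ, hψ⟩ := exists_coord (K := L) ha
    set d := LinearMap.transvection ψ ((e - 1) • a)
    have hd : LinearMap.det d = e := by
      rw [LinearMap.transvection.det, map_smul, hψ, smul_eq_mul, mul_one, add_sub_cancel]
    have hinj : Function.Injective d :=
      ((Module.End.isUnit_iff d).1 ((LinearMap.isUnit_iff_isUnit_det d).2
        (by rw [hd]; exact he0.isUnit))).1
    obtain ⟨g, hg⟩ := happ (LinearEquiv.ofBijective (d.restrictScalars F)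
      ⟨hinj, Finite.surjective_of_injective hinj⟩)
    refine ⟨g, (hnorm g).2 fun k => ⟨k, fun x => by rw [hg]; exact d.map_smul k x⟩, ?_⟩
    rw [← hdet, hg]
    show LinearMap.det (d.restrictScalars F) = c
    rw [LinearMap.det_restrictScalars, hd, he]

/-- The same for a field subalgebra. -/
theorem gl_cases {r : ℕ} (hr : r.Prime) (hlt : r < Fintype.card ι)
    {K : Subalgebra F (Matrix ι ι F)} (hK : Cfsg.Geo.IsFieldSubalgebra r K) :
    (∀ M : Subgroup (GL ι F),
      Cfsg.Geo.subalgebraNormalizer K ⊓ Cfsg.Geo.specialLinear ι F ≤ M →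
        M ≤ Cfsg.Geo.subalgebraNormalizer K ∨ Cfsg.Geo.specialLinear ι F ≤ M) ∧
    ¬ Cfsg.Geo.specialLinear ι F ≤ Cfsg.Geo.subalgebraNormalizer K ∧
    (∀ c : F, c ≠ 0 → ∃ g ∈ Cfsg.Geo.subalgebraNormalizer K, (g : Matrix ι ι F).det = c) := by
  haveI : Finite (Matrix ι ι F) := inferInstanceAs (Finite (ι → ι → F))
  haveI : Nonempty ι := Fintype.card_pos_iff.1 (by omega)
  have hA : IsField K := ⟨exists_pair_ne _, fun x y => Subtype.ext (hK.comm _ x.2 _ y.2),
    fun {x} hx => by
      obtain ⟨y, hy, h⟩ := hK.inv _ x.2 (fun h => hx (Subtype.ext h))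
      exact ⟨⟨y, hy⟩, Subtype.ext h⟩⟩
  letI : Field K := hA.toField
  exact gl_cases_aux (L := K) hr hlt K.val hK.finrank_eq hK
    (fun x => ⟨fun h => ⟨⟨x, h⟩, rfl⟩, fun ⟨l, hl⟩ => hl ▸ l.2⟩)

end Matrices

end Cfsg.Agent.FieldExtMax
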