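/-
Products of subspaces of a field extension of prime degree, and squares in a finite field.

Main results: `product_bound`, `mem_of_sq_smul_mem`.
-/
import Mathlib.FieldTheory.Finite.Basic
import Mathlib.FieldTheory.IntermediateField.Adjoin.Basic
import Mathlib.LinearAlgebra.FiniteDimensional.Lemmas

set_option autoImplicit false

namespace Cfsg.Agent.FieldExtMax

open Module

variable {F K : Type*} [Field F] [Field K] [Algebra F K]

/-- In an extension of prime degree the products of two subspaces span a subspace which is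
everything or has dimension at least the sum of the dimensions less one. -/
theorem product_bound [Finite K] (hr : (finrank F K).Prime) {A B W : Submodule F K} (hA : A ≠ ⊥)
    (hB : B ≠ ⊥) (hAB : ∀ a ∈ A, ∀ b ∈ B, a * b ∈ W) :
    min (finrank F K) (finrank F A + finrank F B - 1) ≤ finrank F W := by
  classical
  haveI : Module.Finite F K := Module.Finite.of_finite
  suffices ∀ (n : ℕ) (A B : Submodule F K), finrank F A = n → A ≠ ⊥ → B ≠ ⊥ →
      (∀ a ∈ A, ∀ b ∈ B, a * b ∈ W) →
      min (finrank F K) (n + finrank F B - 1) ≤ finrank F W from this _ A B rfl hA hB hAB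
  intro n
  induction n using Nat.strong_induction_on with
  | _ n ih =>
  intro A B hn hA hB hAB
  obtain ⟨a₀, ha₀, ha₀0⟩ := (Submodule.ne_bot_iff A).1 hA
  by_cases hsplit : ∀ a ∈ A, a ≠ 0 → ∀ b ∈ B, b ≠ 0 → ∀ x ∈ A, x * (b / a) ∈ B
  · -- `A / a₀` stabilises `B`
    let C : Subalgebra F K :=
      { carrier := {c | ∀ b ∈ B, c * b ∈ B}
        mul_mem' := fun {x y} hx hy b hb => by rw [mul_assoc]; exact hx _ (hy b hb)
        add_mem' := fun {x y} hx hy b hb => by rw [add_mul]; exact B.add_mem (hx b hb) (hy b hb)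
        algebraMap_mem' := fun c b hb => by rw [← Algebra.smul_def]; exact B.smul_mem c hb }
    have hC : ∀ x ∈ A, x / a₀ ∈ C := by
      intro x hx b hb
      by_cases hb0 : b = 0
      · simp [hb0]
      rw [div_mul_eq_mul_div, mul_div_assoc]
      exact hsplit a₀ ha₀ ha₀0 b hb hb0 x hx
    haveI := Subalgebra.isSimpleOrder_of_finrank_prime F K hr
    have hmul : finrank F B ≤ finrank F W := by
      rw [← LinearMap.finrank_range_of_inj (f := (LinearMap.mulLeft F a₀).domRestrict B)
        (fun x y h => Subtype.ext (mul_left_cancel₀ ha₀0 h))]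
      refine Submodule.finrank_mono ?_
      rintro _ ⟨⟨b, hb⟩, rfl⟩
      exact hAB a₀ ha₀ b hb
    rcases eq_bot_or_eq_top C with h | h
    · have h1 : A ≤ Submodule.span F {a₀} := by
        intro x hx
        have := hC x hx
        rw [h, Algebra.mem_bot] at this
        obtain ⟨c, hc⟩ := this
        refine Submodule.mem_span_singleton.2 ⟨c, ?_⟩
        rw [Algebra.smul_def, hc, div_mul_cancel₀ _ ha₀0]
      have h2 := Submodule.finrank_mono h1
      rw [finrank_span_singleton ha₀0, hn] at h2
      omega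
    · obtain ⟨b₀, hb₀, hb₀0⟩ := (Submodule.ne_bot_iff B).1 hB
      have htop : B = ⊤ := by
        refine eq_top_iff.2 fun x _ => ?_
        have hx : x / b₀ ∈ C := by rw [h]; trivial
        simpa [div_mul_cancel₀ _ hb₀0] using hx b₀ hb₀
      rw [htop, finrank_top] at hmul
      exact (min_le_left _ _).trans hmul
  · -- the transform
    push Not at hsplit
    obtain ⟨a, ha, ha0, b, hb, hb0, x, hx, hxB⟩ := hsplit
    set e := a / b with he
    have he0 : e ≠ 0 := div_ne_zero ha0 hb0
    have hbe : e * b = a := div_mul_cancel₀ a hb0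
    let em : K ≃ₗ[F] K := LinearEquiv.ofBijective (LinearMap.mulLeft F e)
      ⟨fun x y h => mul_left_cancel₀ he0 h, fun y => ⟨y / e, mul_div_cancel₀ y he0⟩⟩
    have hem : ∀ z, em z = e * z := fun z => rfl
    set eB := B.map (em : K →ₗ[F] K) with heB
    set A' := A ⊓ eB with hA'
    set B' := B ⊔ A.map (em.symm : K →ₗ[F] K) with hB'
    have haA' : a ∈ A' := ⟨ha, b, hb, hbe⟩
    have hA'ne : A' ≠ ⊥ := (Submodule.ne_bot_iff _).2 ⟨a, haA', ha0⟩
    have hlt : finrank F A' < n := by
      rw [← hn]
      refine Submodule.finrank_lt_finrank_of_lt (lt_of_le_of_ne inf_le_left fun h => ?_)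
      have hx' : x ∈ A' := h.symm ▸ hx
      obtain ⟨z, hz, hzx⟩ := hx'.2
      refine hxB ?_
      rw [← hzx]
      show e * z * (b / a) ∈ B
      rwa [show e * z * (b / a) = z by rw [he]; field_simp]
    have hdim : n + finrank F B = finrank F A' + finrank F B' := by
      have h1 := Submodule.finrank_sup_add_finrank_inf_eq A eB
      rw [hn, heB, LinearEquiv.finrank_map_eq, ← heB, ← hA'] at h1
      have h2 : B'.map (em : K →ₗ[F] K) = A ⊔ eB := by
        rw [hB', Submodule.map_sup, ← heB, ← Submodule.map_comp, LinearEquiv.comp_symm,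
          Submodule.map_id, sup_comm]
      have h3 : finrank F B' = finrank F (A ⊔ eB : Submodule F K) := by
        rw [← h2, LinearEquiv.finrank_map_eq]
      omega
    rw [hdim]
    refine ih _ hlt A' B' rfl hA'ne (ne_bot_of_le_ne_bot hB le_sup_left) ?_
    rintro x hx y hy
    obtain ⟨y₁, hy₁, y₂, hy₂, rfl⟩ := Submodule.mem_sup.1 hy
    rw [mul_add]
    refine W.add_mem (hAB x hx.1 y₁ hy₁) ?_
    obtain ⟨z, hz, hzx⟩ := hx.2
    obtain ⟨u, hu, rfl⟩ := hy₂
    rw [← hzx]
    show em z * em.symm u ∈ W
    have h4 : e * em.symm u = u := (hem _).symm.trans (em.apply_symm_apply u)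
    rw [hem, show e * z * em.symm u = (e * em.symm u) * z by ring, h4]
    exact hAB u hu z hz

/-- An additive subgroup stable under squares of scalars is stable under scalars. -/
theorem mem_of_sq_smul_mem [Finite F] {X : Type*} [AddCommGroup X] [Module F X] (T : AddSubgroup X)
    (hT : ∀ (s : F) (x : X), x ∈ T → (s * s) • x ∈ T) (t : F) {x : X} (hx : x ∈ T) : t • x ∈ T := by
  by_cases h2 : ringChar F = 2
  · obtain ⟨s, hs⟩ := FiniteField.isSquare_of_char_two h2 t
    rw [hs]; exact hT s x hx
  · have h2' : (2 : F) ≠ 0 := Ring.two_ne_zero h2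
    have e : t = ((t + 1) / 2) * ((t + 1) / 2) - ((t - 1) / 2) * ((t - 1) / 2) := by
      field_simp
      ring
    rw [e, sub_smul]
    exact T.sub_mem (hT _ x hx) (hT _ x hx)

end Cfsg.Agent.FieldExtMax
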