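/-
Overgroups of the normaliser of an extension field `K` of prime degree in a symplectic group over
`F`: the setting, moves by `K`-linear isometries, and the unipotent elements centred on a line.

Main definitions: `SpOvergroup`, `Tsp`.
Main results: `SpOvergroup.exists_move`, `SpOvergroup.exists_move_fix`, `SpOvergroup.mem_conj`.
-/
import Cfsg.Agent.Lib.FieldExtMax.Setup
import Cfsg.Agent.Lib.FieldExtMax.SpBasic

set_option autoImplicit false
set_option linter.unusedSectionVars false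

namespace Cfsg.Agent.FieldExtMax

open Module

variable {F K V : Type*} [Field F] [Finite F] [Field K] [Finite K] [Algebra F K]
  [AddCommGroup V] [Module F V] [Module K V] [IsScalarTower F K V] [Finite V]

/-- `M` lies in the isometry group of `lam ∘ B` and contains every isometry normalising `K`. -/
structure SpOvergroup (B : V →ₗ[K] V →ₗ[K] K) (lam : Dual F K) (M : Subgroup (V ≃ₗ[F] V)) : Prop where
  deg : (finrank F K).Prime
  alt : ∀ x, B x x = 0
  nondeg : ∀ x, (∀ y, B x y = 0) → x = 0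
  lam_ne : lam ≠ 0
  nontriv : ∃ x : V, x ≠ 0
  semi : ∀ g : V ≃ₗ[F] V, Norms K g → (∀ x y, lam (B (g x) (g y)) = lam (B x y)) → g ∈ M
  pres : ∀ g ∈ M, ∀ x y, lam (B (g x) (g y)) = lam (B x y)

variable {B : V →ₗ[K] V →ₗ[K] K} {lam : Dual F K} {M : Subgroup (V ≃ₗ[F] V)}

lemma SpOvergroup.skew (hM : SpOvergroup B lam M) (x y : V) : B y x = -B x y := by
  have h := hM.alt (x + y)
  simp only [map_add, LinearMap.add_apply, hM.alt, zero_add, add_zero] at h
  linear_combination h

lemma lam_ne_zero (hl : lam ≠ 0) {x : K} (hx : x ≠ 0) : ∃ k, lam (k * x) ≠ 0 := by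
  by_contra h
  push Not at h
  refine hl (LinearMap.ext fun z => ?_)
  simpa [div_mul_cancel₀ z hx] using h (z / x)

lemma lam_ext (hl : lam ≠ 0) {x y : K} (h : ∀ k, lam (k * x) = lam (k * y)) : x = y := by
  by_contra hne
  obtain ⟨k, hk⟩ := lam_ne_zero hl (sub_ne_zero.2 hne)
  exact hk (by rw [mul_sub, map_sub, h, sub_self])

lemma lam_repr (hl : lam ≠ 0) (φ : Dual F K) : ∃ δ : K, ∀ l, φ l = lam (δ * l) := by
  haveI : Module.Finite F K := Module.Finite.of_finite
  let Φ : K →ₗ[F] Dual F K := LinearMap.mk₂ F (fun d l => lam (d * l))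
    (fun a b l => by simp [add_mul]) (fun c a l => by simp [smul_mul_assoc])
    (fun d a b => by simp [mul_add]) (fun c d a => by simp [mul_smul_comm])
  have hinj : Function.Injective Φ := fun x y h => lam_ext hl fun k => by
    simpa [Φ, mul_comm k] using LinearMap.congr_fun h k
  obtain ⟨δ, hδ⟩ := (LinearMap.injective_iff_surjective_of_finrank_eq_finrank
    Subspace.dual_finrank_eq.symm).1 hinj φ
  exact ⟨δ, fun l => by rw [← hδ]; rfl⟩

lemma SpOvergroup.klin_mem (hM : SpOvergroup B lam M) (f : V →ₗ[K] V)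
    (hf : ∀ x y, B (f x) (f y) = B x y) : ∃ g ∈ M, ∀ x, g x = f x := by
  have hinj : Function.Injective f := by
    intro x y h
    refine sub_eq_zero.1 (hM.nondeg _ fun z => ?_)
    rw [← hf, map_sub, h, sub_self, map_zero, LinearMap.zero_apply]
  let e : V ≃ₗ[F] V := LinearEquiv.ofBijective (f.restrictScalars F)
    ⟨hinj, Finite.surjective_of_injective hinj⟩
  exact ⟨e, hM.semi e (fun k => ⟨k, fun x => f.map_smul k x⟩)
    (fun x y => congrArg lam (hf x y)), fun x => rfl⟩

lemma SpOvergroup.ktrans_mem (hM : SpOvergroup B lam M) (k : K) (a : V) :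
    ∃ g ∈ M, ∀ x, g x = x + (k * B x a) • a := by
  refine hM.klin_mem (LinearMap.id + (k • B.flip a).smulRight a) fun x y => ?_
  simp only [LinearMap.add_apply, LinearMap.id_apply, LinearMap.smulRight_apply,
    LinearMap.smul_apply, LinearMap.flip_apply, map_add, map_smul, smul_eq_mul, hM.alt,
    hM.skew y a]
  ring

lemma SpOvergroup.siegel_mem (hM : SpOvergroup B lam M) (k : K) {a b : V} (hab : B a b = 0) :
    ∃ g ∈ M, ∀ x, g x = x + (k * B x a) • b + (k * B x b) • a := by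
  refine hM.klin_mem (LinearMap.id + (k • B.flip a).smulRight b + (k • B.flip b).smulRight a)
    fun x y => ?_
  simp only [LinearMap.add_apply, LinearMap.id_apply, LinearMap.smulRight_apply,
    LinearMap.smul_apply, LinearMap.flip_apply, map_add, map_smul, smul_eq_mul, hM.alt, hab,
    hM.skew a b, hM.skew y a, hM.skew y b, neg_zero]
  ring

lemma SpOvergroup.exists_fun (hM : SpOvergroup B lam M) (ψ : Dual K V) :
    ∃ u, ∀ x, B x u = ψ x := by
  have hinj : Function.Injective B.flip := fun u v h => by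
    refine sub_eq_zero.1 (hM.nondeg _ fun z => ?_)
    rw [hM.skew z (u - v), map_sub, neg_eq_zero, sub_eq_zero]
    exact LinearMap.congr_fun h z
  obtain ⟨u, hu⟩ := (LinearMap.injective_iff_surjective_of_finrank_eq_finrank
    Subspace.dual_finrank_eq.symm).1 hinj ψ
  exact ⟨u, fun x => by rw [← hu]; rfl⟩

lemma SpOvergroup.exists_partner (hM : SpOvergroup B lam M) {a : V} (ha : a ≠ 0) :
    ∃ u, B a u = 1 := by
  obtain ⟨ψ, hψ⟩ := exists_coord (K := K) ha
  obtain ⟨u, hu⟩ := hM.exists_fun ψ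
  exact ⟨u, by rw [hu, hψ]⟩

lemma SpOvergroup.exists_off (hM : SpOvergroup B lam M) (a : V) : ∃ w : V, w ∉ K ∙ a := by
  by_cases ha : a = 0
  · obtain ⟨x, hx⟩ := hM.nontriv
    exact ⟨x, by simpa [ha] using hx⟩
  obtain ⟨u, hu⟩ := hM.exists_partner ha
  refine ⟨u, fun h => ?_⟩
  obtain ⟨c, rfl⟩ := Submodule.mem_span_singleton.1 h
  simp [hM.alt] at hu

/-- A vector orthogonal to `a` but not to `x`. -/
lemma SpOvergroup.exists_perp (hM : SpOvergroup B lam M) {a x : V} (hx : x ∉ K ∙ a) :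
    ∃ u, B a u = 0 ∧ B x u = 1 := by
  obtain ⟨ψ, hψ, hψx⟩ := exists_kfun hx
  obtain ⟨u, hu⟩ := hM.exists_fun ψ
  exact ⟨u, by rw [hu, hψ a (Submodule.mem_span_singleton_self a)], by rw [hu, hψx]⟩

/-- A vector orthogonal to `a` but neither to `x` nor to `y`. -/
lemma SpOvergroup.exists_perp₂ (hM : SpOvergroup B lam M) {a x y : V} (hx : x ∉ K ∙ a)
    (hy : y ∉ K ∙ a) : ∃ u, B a u = 0 ∧ B x u ≠ 0 ∧ B y u ≠ 0 := by
  obtain ⟨u, hau, hxu⟩ := hM.exists_perp hx
  by_cases hyu : B y u = 0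
  · obtain ⟨v, hav, hyv⟩ := hM.exists_perp hy
    by_cases hxv : B x v = 0
    · exact ⟨u + v, by simp [hau, hav], by simp [hxu, hxv], by simp [hyu, hyv]⟩
    · exact ⟨v, hav, hxv, by simp [hyv]⟩
  · exact ⟨u, hau, by simp [hxu], hyu⟩

/-- `K`-linear isometries move one vector to a non-orthogonal one, fixing what is orthogonal to
the difference. -/
lemma SpOvergroup.exists_step (hM : SpOvergroup B lam M) {x y : V} (hxy : B x y ≠ 0) :
    ∃ g ∈ M, (∀ (k : K) z, g (k • z) = k • g z) ∧ g x = y ∧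
      ∀ z, B z x = B z y → g z = z := by
  obtain ⟨g, hg, hgx⟩ := hM.ktrans_mem (B x y)⁻¹ (y - x)
  refine ⟨g, hg, fun k z => ?_, ?_, fun z hz => ?_⟩
  · rw [hgx, hgx, map_smul, LinearMap.smul_apply, smul_eq_mul, mul_left_comm, mul_smul, smul_add]
  · rw [hgx, map_sub, hM.alt, sub_zero, inv_mul_cancel₀ hxy, one_smul, add_sub_cancel]
  · rw [hgx, map_sub, hz, sub_self, mul_zero, zero_smul, add_zero]

/-- `K`-linear isometries are transitive on non-zero vectors. -/
lemma SpOvergroup.exists_move (hM : SpOvergroup B lam M) {a b : V} (ha : a ≠ 0) (hb : b ≠ 0) :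
    ∃ g ∈ M, (∀ (k : K) x, g (k • x) = k • g x) ∧ g a = b := by
  obtain ⟨z, haz, hbz⟩ : ∃ z, B a z ≠ 0 ∧ B b z ≠ 0 := by
    obtain ⟨u, hau⟩ := hM.exists_partner ha
    obtain ⟨v, hbv⟩ := hM.exists_partner hb
    by_cases hbu : B b u = 0
    · by_cases hav : B a v = 0
      · exact ⟨u + v, by simp [hau, hav], by simp [hbu, hbv]⟩
      · exact ⟨v, hav, by simp [hbv]⟩
    · exact ⟨u, by simp [hau], hbu⟩
  obtain ⟨g, hg, hgl, hga, -⟩ := hM.exists_step haz
  obtain ⟨h, hh, hhl, hhz, -⟩ := hM.exists_step (x := z) (y := b)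
    (by rw [hM.skew]; exact neg_ne_zero.2 hbz)
  exact ⟨h * g, mul_mem hh hg, fun k x => by simp [hgl, hhl], by simp [hga, hhz]⟩

/-- The stabiliser of `a` is transitive on the vectors off its line with given product with it. -/
lemma SpOvergroup.exists_move_fix (hM : SpOvergroup B lam M) {a x y : V} (hx : x ∉ K ∙ a)
    (hy : y ∉ K ∙ a) (hxy : B x a = B y a) :
    ∃ g ∈ M, (∀ (k : K) z, g (k • z) = k • g z) ∧ g a = a ∧ g x = y := by
  have haxy : B a x = B a y := by rw [hM.skew x a, hM.skew y a, hxy]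
  by_cases h : B x y = 0
  · obtain ⟨u, hau, hxu, hyu⟩ := hM.exists_perp₂ hx hy
    have haz : B a x = B a (x + u) := by rw [map_add, hau, add_zero]
    obtain ⟨g, hg, hgl, hgx, hgfix⟩ := hM.exists_step (x := x) (y := x + u)
      (by rwa [map_add, hM.alt, zero_add])
    obtain ⟨h', hh, hhl, hhz, hhfix⟩ := hM.exists_step (x := x + u) (y := y) (by
      rw [map_add, LinearMap.add_apply, h, zero_add, hM.skew y u]
      exact neg_ne_zero.2 hyu)
    refine ⟨h' * g, mul_mem hh hg, fun k z => by simp [hgl, hhl], ?_, by simp [hgx, hhz]⟩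
    show h' (g a) = a
    rw [hgfix a haz, hhfix a (haz.symm.trans haxy)]
  · obtain ⟨g, hg, hgl, hgx, hgfix⟩ := hM.exists_step h
    exact ⟨g, hg, hgl, hgfix a haxy, hgx⟩

variable (B) (M) in
/-- The maps `P` for which `x ↦ x + P (B x a) • a` lies in `M`. -/
def Tsp (a : V) (hM : SpOvergroup B lam M) : AddSubgroup (Module.End F K) where
  carrier := {P | ∃ g ∈ M, ∀ x, g x = x + P (B x a) • a}
  zero_mem' := ⟨1, one_mem M, fun x => by simp⟩
  add_mem' := by
    rintro P Q ⟨g, hg, hgx⟩ ⟨h, hh, hhx⟩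
    refine ⟨g * h, mul_mem hg hh, fun x => ?_⟩
    show g (h x) = _
    rw [hgx, hhx, map_add, map_smul, LinearMap.add_apply, LinearMap.add_apply,
      LinearMap.smul_apply, hM.alt, smul_zero, add_zero, add_smul]
    abel
  neg_mem' := by
    rintro P ⟨g, hg, hgx⟩
    refine ⟨g⁻¹, inv_mem hg, fun x => ?_⟩
    apply g.injective
    show g (g.symm x) = g _
    rw [LinearEquiv.apply_symm_apply, hgx, LinearMap.neg_apply, map_add, map_smul,
      LinearMap.add_apply, LinearMap.smul_apply, hM.alt, smul_zero, add_zero, neg_smul]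
    abel

lemma mem_Tsp {a : V} {hM : SpOvergroup B lam M} {P : Module.End F K} :
    P ∈ Tsp B M a hM ↔ ∃ g ∈ M, ∀ x, g x = x + P (B x a) • a := Iff.rfl

lemma SpOvergroup.mem_mulL (hM : SpOvergroup B lam M) (a : V) (k : K) : mulL F k ∈ Tsp B M a hM :=
  hM.ktrans_mem k a

/-- Conjugation by a stabiliser of the line. -/
lemma SpOvergroup.mem_conj (hM : SpOvergroup B lam M) {a : V} (ha : a ≠ 0) {g : V ≃ₗ[F] V}
    (hg : g ∈ M) {Q R : Module.End F K} (hQ : MapsBy g a Q)
    (hR : ∀ k α, lam (Q k * α) = lam (k * R α)) {P : Module.End F K} (hP : P ∈ Tsp B M a hM) :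
    Q ∘ₗ P ∘ₗ R ∈ Tsp B M a hM := by
  obtain ⟨u, hu, hux⟩ := hP
  refine ⟨g * u * g⁻¹, mul_mem (mul_mem hg hu) (inv_mem hg), fun x => ?_⟩
  have hgi : g (g⁻¹ x) = x := g.apply_symm_apply x
  have hB : B (g⁻¹ x) a = R (B x a) := by
    refine lam_ext hM.lam_ne fun k => ?_
    rw [← hR, ← smul_eq_mul, ← map_smul, ← hM.pres g hg, hgi, hQ, map_smul, smul_eq_mul]
  show g (u (g⁻¹ x)) = _
  rw [hux, map_add, hQ, hgi, hB]
  rfl

lemma SpOvergroup.exists_scalar (hM : SpOvergroup B lam M) {a : V} (ha : a ≠ 0) {e : K}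
    (he : e ≠ 0) : ∃ g ∈ M, MapsBy g a (mulL F e) := by
  obtain ⟨g, hg, hgl, hga⟩ := hM.exists_move ha (smul_ne_zero he ha)
  exact ⟨g, hg, fun l => by rw [hgl, hga, smul_smul]; simp [mul_comm]⟩

lemma SpOvergroup.mem_smul (hM : SpOvergroup B lam M) {a : V} (ha : a ≠ 0) (t : F)
    {P : Module.End F K} (hP : P ∈ Tsp B M a hM) : t • P ∈ Tsp B M a hM := by
  refine mem_of_sq_smul_mem _ (fun s Q hQ => ?_) t hP
  by_cases hs : s = 0
  · simp [hs, zero_mem]
  obtain ⟨g, hg, hge⟩ := hM.exists_scalar ha (e := algebraMap F K s) (by simpa using hs)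
  convert hM.mem_conj ha hg hge (R := mulL F (algebraMap F K s))
    (fun k α => by simp only [LinearMap.mulLeft_apply]; ring_nf) hQ using 1
  refine LinearMap.ext fun x => ?_
  simp [← Algebra.smul_def, smul_smul]

end Cfsg.Agent.FieldExtMax
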