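/-
Overgroups of the normaliser of an extension field `K` of prime degree in an orthogonal group over
`F` of odd characteristic: the setting, Siegel elements, singular vectors and moves.

Main definitions: `OrCore`, `OrOvergroup`, `perpK`.
Main results: `OrCore.siegel_mem`, `OrOvergroup.exists_move`, `OrCore.exists_norm`,
`OrOvergroup.exists_singular_perp`.
-/
import Cfsg.Agent.Lib.FieldExtMax.SpBase

set_option autoImplicit false
set_option linter.unusedSectionVars false

namespace Cfsg.Agent.FieldExtMax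

open Module

variable {F K V : Type*} [Field F] [Finite F] [Field K] [Finite K] [Algebra F K]
  [AddCommGroup V] [Module F V] [Module K V] [IsScalarTower F K V] [Finite V]

/-- `M` lies in the isometry group of `lam ∘ B`, for a symmetric `B`, and contains the commutators
of the isometries of `B`. -/
structure OrCore (B : V →ₗ[K] V →ₗ[K] K) (lam : Dual F K) (M : Subgroup (V ≃ₗ[F] V)) : Prop where
  deg : (finrank F K).Prime
  symm : ∀ x y, B x y = B y x
  nondeg : ∀ x, (∀ y, B x y = 0) → x = 0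
  lam_ne : lam ≠ 0
  two : (2 : K) ≠ 0
  comm : ∀ g h : V ≃ₗ[F] V, (∀ (k : K) x, g (k • x) = k • g x) → (∀ x y, B (g x) (g y) = B x y) →
    (∀ (k : K) x, h (k • x) = k • h x) → (∀ x y, B (h x) (h y) = B x y) → g * h * g⁻¹ * h⁻¹ ∈ M
  pres : ∀ g ∈ M, ∀ x y, lam (B (g x) (g y)) = lam (B x y)

/-- The same in dimension at least four. -/
structure OrOvergroup (B : V →ₗ[K] V →ₗ[K] K) (lam : Dual F K) (M : Subgroup (V ≃ₗ[F] V)) : Prop
    extends OrCore B lam M where
  dim : 4 ≤ finrank K V

/-- The vectors orthogonal to two given ones. -/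
def perpK (B : V →ₗ[K] V →ₗ[K] K) (a b : V) : Submodule K V :=
  LinearMap.ker ((B a).prod (B b))

lemma mem_perpK {B : V →ₗ[K] V →ₗ[K] K} {a b x : V} :
    x ∈ perpK B a b ↔ B a x = 0 ∧ B b x = 0 := by
  simp [perpK, LinearMap.mem_ker, Prod.ext_iff]

lemma finrank_perpK (B : V →ₗ[K] V →ₗ[K] K) (a b : V) :
    finrank K V ≤ finrank K (perpK B a b) + 2 := by
  haveI : Module.Finite K V := Module.Finite.of_finite
  have h1 := LinearMap.finrank_range_add_finrank_ker ((B a).prod (B b))
  have h2 := Submodule.finrank_le (LinearMap.range ((B a).prod (B b)))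
  rw [Module.finrank_prod, Module.finrank_self] at h2
  unfold perpK
  omega

variable {B : V →ₗ[K] V →ₗ[K] K} {lam : Dual F K} {M : Subgroup (V ≃ₗ[F] V)}

variable (B) in
/-- The Siegel map of a singular vector `a` and a vector `b` orthogonal to it. -/
noncomputable def sieg (a b : V) : V →ₗ[K] V :=
  LinearMap.id + (B.flip a).smulRight b - (B.flip b).smulRight a
    - (((2 : K)⁻¹ * B b b) • B.flip a).smulRight a

lemma sieg_apply (a b x : V) :
    sieg B a b x = x + B x a • b - B x b • a - ((2 : K)⁻¹ * B b b * B x a) • a := rfl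

namespace OrCore

lemma half (hM : OrCore B lam M) : (2 : K)⁻¹ * 2 = 1 := inv_mul_cancel₀ hM.two

lemma exists_fun (hM : OrCore B lam M) (ψ : Dual K V) : ∃ u, ∀ x, B x u = ψ x := by
  haveI : Module.Finite K V := Module.Finite.of_finite
  have hinj : Function.Injective B.flip := fun u v h => by
    refine sub_eq_zero.1 (hM.nondeg _ fun z => ?_)
    rw [hM.symm, map_sub, sub_eq_zero]
    exact LinearMap.congr_fun h z
  obtain ⟨u, hu⟩ := (LinearMap.injective_iff_surjective_of_finrank_eq_finrank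
    Subspace.dual_finrank_eq.symm).1 hinj ψ
  exact ⟨u, fun x => by rw [← hu]; rfl⟩

lemma exists_one (hM : OrCore B lam M) {a : V} (ha : a ≠ 0) : ∃ u, B a u = 1 := by
  obtain ⟨ψ, hψ⟩ := exists_coord (K := K) ha
  obtain ⟨u, hu⟩ := hM.exists_fun ψ
  exact ⟨u, by rw [hu, hψ]⟩

lemma exists_perp (hM : OrCore B lam M) {a x : V} (hx : x ∉ K ∙ a) :
    ∃ u, B a u = 0 ∧ B x u = 1 := by
  obtain ⟨ψ, hψ, hψx⟩ := exists_kfun hx
  obtain ⟨u, hu⟩ := hM.exists_fun ψ
  exact ⟨u, by rw [hu, hψ a (Submodule.mem_span_singleton_self a)], by rw [hu, hψx]⟩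

/-- A singular partner of a singular vector. -/
lemma exists_partner (hM : OrCore B lam M) {a : V} (ha : a ≠ 0) (hs : B a a = 0) :
    ∃ a', B a a' = 1 ∧ B a' a = 1 ∧ B a' a' = 0 := by
  obtain ⟨u, hu⟩ := hM.exists_one ha
  refine ⟨u - ((2 : K)⁻¹ * B u u) • a, ?_, ?_, ?_⟩
  · rw [map_sub, map_smul, hs, smul_zero, sub_zero, hu]
  · rw [hM.symm, map_sub, map_smul, hs, smul_zero, sub_zero, hu]
  · simp only [map_sub, map_smul, LinearMap.sub_apply, LinearMap.smul_apply, smul_eq_mul, hs,
      hM.symm u a, hu]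
    linear_combination -(B u u) * hM.half

lemma exists_equiv (hM : OrCore B lam M) (f : V →ₗ[K] V)
    (hf : ∀ x y, B (f x) (f y) = B x y) :
    ∃ g : V ≃ₗ[F] V, (∀ x, g x = f x) ∧ (∀ (k : K) x, g (k • x) = k • g x) ∧
      ∀ x y, B (g x) (g y) = B x y := by
  have hinj : Function.Injective f := by
    intro x y h
    refine sub_eq_zero.1 (hM.nondeg _ fun z => ?_)
    rw [← hf, map_sub, h, sub_self, map_zero, LinearMap.zero_apply]
  exact ⟨LinearEquiv.ofBijective (f.restrictScalars F) ⟨hinj, Finite.surjective_of_injective hinj⟩,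
    fun x => rfl, fun k x => f.map_smul k x, hf⟩

lemma sieg_isom (hM : OrCore B lam M) {a b : V} (hs : B a a = 0) (hb : B a b = 0) (x y : V) :
    B (sieg B a b x) (sieg B a b y) = B x y := by
  simp only [sieg_apply, map_add, map_sub, map_smul, LinearMap.add_apply, LinearMap.sub_apply,
    LinearMap.smul_apply, smul_eq_mul, hs, hb, hM.symm b a, hM.symm a y, hM.symm b y]
  linear_combination -(B x a * B y a * B b b) * hM.half

lemma sieg_add (hM : OrCore B lam M) {a b c : V} (hs : B a a = 0) (hb : B a b = 0)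
    (hc : B a c = 0) (x : V) : sieg B a b (sieg B a c x) = sieg B a (b + c) x := by
  simp only [sieg_apply, map_add, map_sub, map_smul, LinearMap.add_apply, LinearMap.sub_apply,
    LinearMap.smul_apply, smul_eq_mul, hs, hb, hM.symm c a, hc, hM.symm c b]
  match_scalars <;> first | ring1 | linear_combination (B b c * B x a) * hM.half

/-- The Siegel elements lie in `M`. -/
theorem siegel_mem (hM : OrCore B lam M) {a b : V} (hs : B a a = 0) (hb : B a b = 0) :
    ∃ g ∈ M, ∀ x, g x = x + B x a • b - B x b • a - ((2 : K)⁻¹ * B b b * B x a) • a := by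
  by_cases ha : a = 0
  · exact ⟨1, one_mem M, fun x => by simp [ha]⟩
  obtain ⟨a', haa', ha'a, hs'⟩ := hM.exists_partner ha hs
  set c := B a' b with hc
  set t : K := -1 with ht
  have ht0 : t ≠ 0 := neg_ne_zero.2 one_ne_zero
  have ht1 : t - 1 ≠ 0 := fun h => hM.two (by linear_combination -h)
  set b₀ := b - c • a with hb₀
  set b₁ := (t - 1)⁻¹ • b₀ with hb₁
  have h₀a : B a b₀ = 0 := by rw [hb₀, map_sub, map_smul, hs, smul_zero, sub_zero, hb]
  have h₀a' : B a' b₀ = 0 := by
    rw [hb₀, map_sub, map_smul, ha'a, smul_eq_mul, mul_one, ← hc, sub_self]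
  have h₁a : B a b₁ = 0 := by rw [hb₁, map_smul, h₀a, smul_zero]
  have h₁a' : B a' b₁ = 0 := by rw [hb₁, map_smul, h₀a', smul_zero]
  -- the torus element
  set T : V →ₗ[K] V := LinearMap.id + ((t - 1) • B.flip a').smulRight a
    + ((t - 1) • B.flip a).smulRight a' with hT
  have hTx : ∀ x, T x = x + ((t - 1) * B x a') • a + ((t - 1) * B x a) • a' := fun x => rfl
  have hTiso : ∀ x y, B (T x) (T y) = B x y := fun x y => by
    simp only [hTx, map_add, map_smul, LinearMap.add_apply, LinearMap.smul_apply, smul_eq_mul, hs,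
      hs', haa', ha'a, hM.symm a y, hM.symm a' y, ht]
    ring
  obtain ⟨d, hd, hdl, hdB⟩ := hM.exists_equiv T hTiso
  obtain ⟨u, hu, hul, huB⟩ := hM.exists_equiv (sieg B a b₁) (hM.sieg_isom hs h₁a)
  obtain ⟨v, hv, -, -⟩ := hM.exists_equiv (sieg B a (t • b₁))
    (hM.sieg_isom hs (by rw [map_smul, h₁a, smul_zero]))
  refine ⟨d * u * d⁻¹ * u⁻¹, hM.comm d u hdl hdB hul huB, fun x => ?_⟩
  have hdu : d * u = v * d := LinearEquiv.ext fun z => by
    show d (u z) = v (d z)
    rw [hd, hu, hv, hd]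
    simp only [hTx, sieg_apply, map_add, map_sub, map_smul, LinearMap.add_apply,
      LinearMap.sub_apply, LinearMap.smul_apply, smul_eq_mul, hs, hs', haa', ha'a, h₁a, h₁a',
      hM.symm b₁ a', hM.symm b₁ a, ht]
    module
  rw [hdu, mul_inv_cancel_right]
  show v (u⁻¹ x) = _
  have hneg : B a (-b₁) = 0 := by rw [map_neg, h₁a, neg_zero]
  have hui : u⁻¹ x = sieg B a (-b₁) x := by
    apply u.injective
    show u (u.symm x) = _
    rw [LinearEquiv.apply_symm_apply, hu, hM.sieg_add hs h₁a hneg, add_neg_cancel]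
    simp [sieg_apply]
  have he : t • b₁ + -b₁ = b₀ := by
    rw [hb₁, ← sub_eq_add_neg, smul_smul, ← sub_smul, ← sub_one_mul, mul_inv_cancel₀ ht1, one_smul]
  rw [hui, hv, hM.sieg_add hs (by rw [map_smul, h₁a, smul_zero]) hneg, he, sieg_apply, hb₀]
  simp only [map_sub, map_smul, LinearMap.sub_apply, LinearMap.smul_apply, smul_eq_mul, hs, hb,
    hM.symm b a]
  match_scalars <;> ring

/-- A non-degenerate space of dimension at least two represents everything. -/
lemma exists_norm (hM : OrCore B lam M) (W : Submodule K V) (hW : 2 ≤ finrank K W)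
    (hnd : ∀ x ∈ W, (∀ y ∈ W, B x y = 0) → x = 0) (c : K) : ∃ w ∈ W, B w w = c := by
  classical
  haveI : Module.Finite K V := Module.Finite.of_finite
  have hex : ∀ U : Submodule K V, U ≠ ⊥ → (∀ x ∈ U, (∀ y ∈ U, B x y = 0) → x = 0) →
      ∃ w ∈ U, B w w ≠ 0 := by
    intro U hU hU'
    by_contra h
    push Not at h
    obtain ⟨x, hx, hx0⟩ := (Submodule.ne_bot_iff U).1 hU
    refine hx0 (hU' x hx fun y hy => ?_)
    have h1 := h _ (U.add_mem hx hy)
    simp only [map_add, LinearMap.add_apply, h x hx, h y hy, zero_add, add_zero, hM.symm y x] at h1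
    have h2 : (2 : K) * B x y = 0 := by linear_combination h1
    exact (mul_eq_zero.1 h2).resolve_left hM.two
  obtain ⟨w₁, hw₁, hq₁⟩ := hex W (fun h => by rw [h, finrank_bot] at hW; omega) hnd
  set U := W ⊓ LinearMap.ker (B w₁) with hUdef
  have hsplit : ∀ y ∈ W, y - (B w₁ y / B w₁ w₁) • w₁ ∈ U := fun y hy =>
    ⟨W.sub_mem hy (W.smul_mem _ hw₁), by
      show B w₁ _ = 0
      rw [map_sub, map_smul, smul_eq_mul, div_mul_cancel₀ _ hq₁, sub_self]⟩
  have hUne : U ≠ ⊥ := by
    intro h
    have hle : W ≤ K ∙ w₁ := fun y hy => by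
      have := hsplit y hy
      rw [h, Submodule.mem_bot, sub_eq_zero] at this
      rw [this]
      exact Submodule.smul_mem _ _ (Submodule.mem_span_singleton_self w₁)
    have h1 := Submodule.finrank_mono hle
    rw [finrank_span_singleton (fun h => hq₁ (by simp [h]))] at h1
    omega
  have hUnd : ∀ x ∈ U, (∀ y ∈ U, B x y = 0) → x = 0 := fun x hx h => hnd x hx.1 fun y hy => by
    have h1 := h _ (hsplit y hy)
    have h2 : B x w₁ = 0 := by rw [hM.symm]; exact hx.2
    rwa [map_sub, map_smul, h2, smul_zero, sub_zero] at h1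
  obtain ⟨w₂, hw₂, hq₂⟩ := hex U hUne hUnd
  letI := Fintype.ofFinite K
  have hodd : Fintype.card K % 2 = 1 :=
    FiniteField.odd_card_of_char_ne_two fun h => hM.two (by
      haveI := ringChar.of_eq h
      exact CharTwo.two_eq_zero)
  obtain ⟨s, t, hst⟩ := FiniteField.exists_root_sum_quadratic (R := K)
    (f := Polynomial.C (B w₁ w₁) * Polynomial.X ^ 2)
    (g := Polynomial.C (B w₂ w₂) * Polynomial.X ^ 2 - Polynomial.C c)
    (Polynomial.degree_C_mul_X_pow 2 hq₁)
    (by
      rw [Polynomial.degree_sub_C]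
      · exact Polynomial.degree_C_mul_X_pow 2 hq₂
      · rw [Polynomial.degree_C_mul_X_pow 2 hq₂]; exact Nat.ofNat_pos')
    hodd
  simp only [Polynomial.eval_mul, Polynomial.eval_C, Polynomial.eval_pow, Polynomial.eval_X,
    Polynomial.eval_sub] at hst
  have h12 : B w₁ w₂ = 0 := hw₂.2
  refine ⟨s • w₁ + t • w₂, W.add_mem (W.smul_mem _ hw₁) (W.smul_mem _ hw₂.1), ?_⟩
  simp only [map_add, map_smul, LinearMap.add_apply, LinearMap.smul_apply, smul_eq_mul, h12,
    hM.symm w₂ w₁]
  linear_combination hst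

lemma perp_nondeg (hM : OrCore B lam M) {a b : V} (hs : B a a = 0) (hs' : B b b = 0)
    (hab : B a b ≠ 0) : ∀ x ∈ perpK B a b, (∀ y ∈ perpK B a b, B x y = 0) → x = 0 := by
  intro x hx h
  rw [mem_perpK] at hx
  refine hM.nondeg x fun y => ?_
  have h1 := h (y - (B b y / B a b) • a - (B a y / B a b) • b) (mem_perpK.2 ⟨by
    simp only [map_sub, map_smul, smul_eq_mul, hs, div_mul_cancel₀ _ hab]; ring, by
    simp only [map_sub, map_smul, smul_eq_mul, hs', hM.symm b a, div_mul_cancel₀ _ hab]; ring⟩)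
  simpa [map_sub, map_smul, hM.symm x a, hM.symm x b, hx.1, hx.2] using h1

end OrCore

namespace OrOvergroup

/-- A singular vector orthogonal to a given anisotropic one. -/
lemma exists_singular_perp (hM : OrOvergroup B lam M) {x : V} (hx : B x x ≠ 0) :
    ∃ a, a ≠ 0 ∧ B a a = 0 ∧ B x a = 0 := by
  haveI : Module.Finite K V := Module.Finite.of_finite
  have hsplit : ∀ y, y - (B x y / B x x) • x ∈ LinearMap.ker (B x) := fun y => by
    show B x _ = 0
    rw [map_sub, map_smul, smul_eq_mul, div_mul_cancel₀ _ hx, sub_self]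
  have hnd : ∀ z ∈ LinearMap.ker (B x), (∀ y ∈ LinearMap.ker (B x), B z y = 0) → z = 0 := by
    intro z hz h
    refine hM.nondeg z fun y => ?_
    have h1 := h _ (hsplit y)
    have h2 : B z x = 0 := by rw [hM.symm]; exact hz
    rwa [map_sub, map_smul, h2, smul_zero, sub_zero] at h1
  have hdim : finrank K V ≤ finrank K (LinearMap.ker (B x)) + 1 := by
    have h1 := LinearMap.finrank_range_add_finrank_ker (B x)
    have h2 := Submodule.finrank_le (LinearMap.range (B x))
    rw [Module.finrank_self] at h2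
    omega
  have := hM.dim
  obtain ⟨w₁, hw₁, hq⟩ := hM.exists_norm _ (by omega) hnd 1
  set U := perpK B x w₁
  have hU : ∀ z ∈ U, (∀ y ∈ U, B z y = 0) → z = 0 := by
    intro z hz h
    rw [mem_perpK] at hz
    refine hnd z hz.1 fun y hy => ?_
    have hy' : B x y = 0 := hy
    have h1 := h (y - B w₁ y • w₁) (mem_perpK.2 ⟨by
      rw [map_sub, map_smul, (show B x w₁ = 0 from hw₁), hy', smul_zero, sub_zero], by
      rw [map_sub, map_smul, hq, smul_eq_mul, mul_one, sub_self]⟩)
    rwa [map_sub, map_smul, hM.symm z w₁, hz.2, smul_zero, sub_zero] at h1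
  obtain ⟨w, hw, hwq⟩ := hM.exists_norm U (by
    have := finrank_perpK B x w₁
    show 2 ≤ finrank K (perpK B x w₁)
    omega) hU (-1)
  rw [mem_perpK] at hw
  refine ⟨w₁ + w, fun h => ?_, ?_, ?_⟩
  · have : B w₁ (w₁ + w) = 0 := by rw [h, map_zero]
    rw [map_add, hq, hw.2, add_zero] at this
    exact one_ne_zero this
  · simp [hM.symm w w₁, hw.2, hq, hwq]
  · rw [map_add, hw.1, (show B x w₁ = 0 from hw₁), add_zero]

/-- Singular vectors with the same non-zero product with two given ones. -/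
lemma exists_common (hM : OrOvergroup B lam M) {a b : V} (hs : B a a = 0) (hs' : B b b = 0)
    (hab : B a b ≠ 0) : ∃ c, B c c = 0 ∧ B a c = 1 ∧ B b c = 1 := by
  have := hM.dim
  obtain ⟨w, hw, hwq⟩ := hM.exists_norm (perpK B a b)
    (by have := finrank_perpK B a b; omega) (hM.perp_nondeg hs hs' hab) (-2 / B a b)
  rw [mem_perpK] at hw
  refine ⟨(B a b)⁻¹ • (a + b) + w, ?_, ?_, ?_⟩
  · simp only [map_add, map_smul, LinearMap.add_apply, LinearMap.smul_apply, smul_eq_mul, hs, hs',
      hM.symm w a, hM.symm w b, hM.symm b a, hw.1, hw.2, hwq]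
    field_simp
    ring
  · simp [hs, hw.1, hab]
  · simp [hs', hw.2, hM.symm b a, hab]

/-- Isometries in `M` are transitive on singular vectors. -/
theorem exists_move (hM : OrOvergroup B lam M) {a b : V} (ha : a ≠ 0) (hs : B a a = 0) (hb : b ≠ 0)
    (hs' : B b b = 0) :
    ∃ g ∈ M, (∀ (k : K) x, g (k • x) = k • g x) ∧ (∀ x y, B (g x) (g y) = B x y) ∧ g a = b := by
  have step : ∀ a b : V, B a a = 0 → B b b = 0 →
      (∃ c, B c c = 0 ∧ B a c = 1 ∧ B b c = 1) →
      ∃ g ∈ M, (∀ (k : K) x, g (k • x) = k • g x) ∧ (∀ x y, B (g x) (g y) = B x y) ∧ g a = b := by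
    intro a b hs hs' ⟨c, hc, hac, hbc⟩
    have hz : B c (b - a) = 0 := by rw [map_sub, hM.symm c b, hM.symm c a, hac, hbc, sub_self]
    obtain ⟨g, hg, hgx⟩ := hM.siegel_mem hc hz
    refine ⟨g, hg, fun k x => ?_, fun x y => ?_, ?_⟩
    · rw [hgx, hgx]
      simp only [map_smul, LinearMap.smul_apply, smul_eq_mul]
      module
    · rw [hgx, hgx, ← sieg_apply, ← sieg_apply, hM.sieg_isom hc hz]
    · rw [hgx, hac]
      simp only [map_sub, LinearMap.sub_apply, hs, hs', hM.symm b a]
      match_scalars <;> first | ring1 | linear_combination (B a b) * hM.half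
  have gen : ∀ a b : V, B a a = 0 → B b b = 0 → B a b ≠ 0 → ∃ g ∈ M,
      (∀ (k : K) x, g (k • x) = k • g x) ∧ (∀ x y, B (g x) (g y) = B x y) ∧ g a = b :=
    fun a b hs hs' hab => step a b hs hs' (hM.exists_common hs hs' hab)
  by_cases hab : B a b = 0
  · by_cases hin : b ∈ K ∙ a
    · obtain ⟨k, rfl⟩ := Submodule.mem_span_singleton.1 hin
      have hk : k ≠ 0 := fun h => hb (by rw [h, zero_smul])
      obtain ⟨a', h1, h2, h3⟩ := hM.exists_partner ha hs
      obtain ⟨g₁, hg₁, hl₁, hB₁, he₁⟩ := gen a a' hs h3 (by rw [h1]; exact one_ne_zero)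
      obtain ⟨g₂, hg₂, hl₂, hB₂, he₂⟩ := gen a' (k • a) h3 hs'
        (by rw [map_smul, h2, smul_eq_mul, mul_one]; exact hk)
      refine ⟨g₂ * g₁, mul_mem hg₂ hg₁, fun l x => ?_, fun x y => ?_, ?_⟩
      · simp [hl₁, hl₂]
      · simp [hB₁, hB₂]
      · simp [he₁, he₂]
    · obtain ⟨u, hau, hbu⟩ := hM.exists_perp hin
      obtain ⟨v, hbv, hav⟩ := hM.exists_perp (a := b) (x := a) fun h => by
        obtain ⟨k, hk⟩ := Submodule.mem_span_singleton.1 h
        have hk0 : k ≠ 0 := fun h => ha (by rw [← hk, h, zero_smul])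
        exact hin (Submodule.mem_span_singleton.2 ⟨k⁻¹, by rw [← hk, inv_smul_smul₀ hk0]⟩)
      set w := u + v
      refine step a b hs hs' ⟨w - ((2 : K)⁻¹ * B w w) • a, ?_, ?_, ?_⟩
      · have hwa : B w a = 1 := by
          rw [hM.symm]; simp [w, hau, hav]
        simp only [map_sub, map_smul, LinearMap.sub_apply, LinearMap.smul_apply, smul_eq_mul, hs,
          hM.symm a w, hwa]
        linear_combination -(B w w) * hM.half
      · simp [w, hau, hav, hs]
      · simp [w, hbu, hbv, hM.symm b a, hab]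
  · exact gen a b hs hs' hab

lemma exists_scalar (hM : OrOvergroup B lam M) {a : V} (ha : a ≠ 0) (hs : B a a = 0) {e : K}
    (he : e ≠ 0) : ∃ g ∈ M, (∀ (k : K) x, g (k • x) = k • g x) ∧ MapsBy g a (mulL F e) := by
  obtain ⟨g, hg, hgl, -, hga⟩ := hM.exists_move ha hs (smul_ne_zero he ha) (by simp [hs])
  exact ⟨g, hg, hgl, fun l => by rw [hgl, hga, smul_smul]; simp [mul_comm]⟩

end OrOvergroup

end Cfsg.Agent.FieldExtMax
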