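/-
Two lines of a symplectic overgroup meeting properly induce transvections on a line.

Main definitions: `Trs`.
Main results: `trs_of_translations`, `trs_all_of_scalars`, `SpOvergroup.trs_of_meet`, `SpOvergroup.trs_all`.
-/
import Cfsg.Agent.Lib.FieldExtMax.SpBase
import Cfsg.Agent.Lib.FieldExtMax.Lines

set_option autoImplicit false
set_option linter.unusedSectionVars false

namespace Cfsg.Agent.FieldExtMax

open Module

variable {F K V : Type*} [Field F] [Finite F] [Field K] [Finite K] [Algebra F K]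
  [AddCommGroup V] [Module F V] [Module K V] [IsScalarTower F K V] [Finite V]
variable {B : V →ₗ[K] V →ₗ[K] K} {lam : Dual F K} {M : Subgroup (V ≃ₗ[F] V)}

/-- The transvection `l ↦ l + lam (δ * l) • v` of the line of `a` is induced by `M`. -/
def Trs (lam : Dual F K) (M : Subgroup (V ≃ₗ[F] V)) (a : V) (δ v : K) : Prop :=
  ∃ g ∈ M, MapsBy g a (1 + (lam ∘ₗ mulL F δ).smulRight v)

/-- Isometries fixing the line of `a` which translate the second subspace `L'` along it. -/
lemma SpOvergroup.exists_translations (hM : SpOvergroup B lam M) {a : V} (L' : Submodule F V)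
    (hne : ¬ L' ≤ line F K a) :
    ∃ ψ : Dual K V, ψ a = 0 ∧ (∃ x ∈ L', ψ x ≠ 0) ∧
      ∀ k : K, ∃ u ∈ M, (∀ x ∈ line F K a, u x = x) ∧ ∀ x ∈ L', u x = x + (k * ψ x) • a := by
  by_cases h : ∃ x ∈ L', B x a ≠ 0
  · refine ⟨B.flip a, by simp [hM.alt], h, fun k => ?_⟩
    obtain ⟨u, hu, hux⟩ := hM.ktrans_mem k a
    refine ⟨u, hu, fun x hx => ?_, fun x _ => by rw [hux]; rfl⟩
    obtain ⟨c, rfl⟩ := mem_line.1 hx
    rw [hux, map_smul, LinearMap.smul_apply, hM.alt, smul_zero, mul_zero, zero_smul, add_zero]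
  · push Not at h
    obtain ⟨x₀, hx₀, hx₀L⟩ := SetLike.not_le_iff_exists.1 hne
    obtain ⟨b, hab, hxb⟩ := hM.exists_perp (a := a) (x := x₀)
      (fun hh => hx₀L (mem_line_iff_span.2 hh))
    refine ⟨B.flip b, by simpa using hab, ⟨x₀, hx₀, by simp [hxb]⟩, fun k => ?_⟩
    obtain ⟨u, hu, hux⟩ := hM.siegel_mem k hab
    refine ⟨u, hu, fun x hx => ?_, fun x hx => by rw [hux, h x hx]; simp⟩
    obtain ⟨c, rfl⟩ := mem_line.1 hx
    rw [hux]
    simp [hM.alt, hab]

/-- A pair of lines with largest intersection and translations of one along the other give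
transvections of the line. -/
theorem trs_of_translations (hdeg : (finrank F K).Prime) (hl : lam ≠ 0) {a : V} (ha : a ≠ 0)
    {g : V ≃ₗ[F] V} (hgM : g ∈ M) (hgne : img K a g ≠ line F K a)
    (hmeet : img K a g ⊓ line F K a ≠ ⊥)
    (hmax' : ∀ h ∈ M, img K a h ≠ line F K a →
      finrank F (img K a h ⊓ line F K a : Submodule F V)
        ≤ finrank F (img K a g ⊓ line F K a : Submodule F V))
    (ψ : Dual K V) (hψa : ψ a = 0) {x₁ : V} (hx₁ : x₁ ∈ img K a g) (hψx₁ : ψ x₁ ≠ 0)
    (hu' : ∀ k : K, ∃ u ∈ M, (∀ x ∈ line F K a, u x = x) ∧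
      ∀ x ∈ img K a g, u x = x + (k * ψ x) • a) :
    ∃ δ : K, δ ≠ 0 ∧ ∀ v : K, lam (δ * v) = 0 → Trs lam M a δ v := by
  classical
  set r := finrank F K with hr
  set q := Nat.card F with hq
  haveI : Module.Finite F K := Module.Finite.of_finite
  set L' := img K a g with hL'
  set W := L' ⊓ line F K a with hW
  set w := finrank F W with hw
  have hw1 : 1 ≤ w := Nat.one_le_iff_ne_zero.2 fun h => hmeet (Submodule.finrank_eq_zero.1 h)
  have hnle : ¬ L' ≤ line F K a := fun h =>
    hgne (Submodule.eq_of_le_of_finrank_eq h (by rw [finrank_img ha, finrank_line ha]))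
  have hwr : w < r := by
    rcases lt_or_ge w r with h | h
    · exact h
    · exfalso
      have h1 : W = L' := Submodule.eq_of_le_of_finrank_le inf_le_left (by rw [finrank_img ha]; exact h)
      exact hnle (h1 ▸ inf_le_right)
  choose u huM hufix hu using hu'
  have hψL : ∀ x ∈ line F K a, ψ x = 0 := fun x hx => by
    obtain ⟨c, rfl⟩ := mem_line.1 hx
    simp [hψa]
  have huline : ∀ k, img K a (u k) = line F K a := by
    intro k
    ext x
    constructor
    · rintro ⟨y, hy, rfl⟩
      show u k y ∈ _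
      rw [hufix k y hy]; exact hy
    · intro hx; exact ⟨x, hx, hufix k x hx⟩
  -- coordinates
  let sp : K →ₗ[F] V := (LinearMap.toSpanSingleton K V a).restrictScalars F
  have hsp : ∀ l, sp l = l • a := fun l => rfl
  have hspinj : Function.Injective sp := fun _ _ h => smul_inj ha h
  let γ : K →ₗ[F] V := (g : V →ₗ[F] V) ∘ₗ sp
  have hγ : ∀ l, γ l = g (l • a) := fun l => rfl
  have hγinj : Function.Injective γ := fun _ _ h => hspinj (g.injective h)
  have hγL : ∀ l, γ l ∈ L' := fun l => ⟨l • a, mem_line.2 ⟨l, rfl⟩, rfl⟩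
  have hL'γ : ∀ x ∈ L', ∃ l, γ l = x := fun x ⟨y, hy, hyx⟩ => by
    obtain ⟨l, rfl⟩ := mem_line.1 hy
    exact ⟨l, hyx⟩
  let χ : K →ₗ[F] K := ψ.restrictScalars F ∘ₗ γ
  have hχ : ∀ l, χ l = ψ (γ l) := fun l => rfl
  let A : Submodule F K := LinearMap.range χ
  let W' : Submodule F K := L'.comap sp
  have hW' : finrank F W' = w := by
    have hmapW : W'.map sp = W := by
      rw [Submodule.map_comap_eq, inf_comm]; rfl
    rw [hw, (Submodule.equivMapOfInjective sp hspinj W').finrank_eq, hmapW]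
  set Z : Submodule F V := (LinearMap.ker χ).map γ with hZdef
  have hZdim : finrank F Z + finrank F A = r := by
    rw [hZdef, ← (Submodule.equivMapOfInjective γ hγinj (LinearMap.ker χ)).finrank_eq, add_comm,
      LinearMap.finrank_range_add_finrank_ker]
  have hWZ : W ≤ Z := by
    rintro x ⟨hx, hxl⟩
    obtain ⟨l, rfl⟩ := hL'γ x hx
    exact ⟨l, by show ψ (γ l) = 0; exact hψL _ hxl, rfl⟩
  have hZimg : ∀ k, Z ≤ img K a (u k * g) := by
    rintro k _ ⟨l, hl, rfl⟩
    rw [img_mul]
    refine ⟨γ l, hγL l, ?_⟩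
    show u k (γ l) = γ l
    rw [hu k _ (hγL l), ← hχ, LinearMap.mem_ker.1 hl, mul_zero, zero_smul, add_zero]
  have hWimg : ∀ k, W ≤ img K a (u k * g) := fun k => hWZ.trans (hZimg k)
  have hdiff : ∀ k l, img K a (u k * g) = img K a (u l * g) → ∀ x ∈ L', (k - l) * ψ x ∈ W' := by
    intro k l h x hx
    have h1 : u k x ∈ img K a (u l * g) := by
      rw [← h, img_mul]; exact ⟨x, hx, rfl⟩
    rw [img_mul] at h1
    obtain ⟨y, hy, hyx⟩ := h1
    change u l y = u k x at hyx
    rw [hu l y hy, hu k x hx] at hyx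
    have h2 : y - x = (k * ψ x - l * ψ y) • a := by
      linear_combination (norm := module) hyx
    have h3 : ψ (y - x) = 0 := by rw [h2, map_smul, hψa, smul_zero]
    rw [map_sub, sub_eq_zero] at h3
    show sp ((k - l) * ψ x) ∈ L'
    rw [hsp, show (k - l) * ψ x = k * ψ x - l * ψ y by rw [h3, sub_mul], ← h2]
    exact L'.sub_mem hy hx
  -- the common part is the intersection
  have hZW : Z = W := by
    refine (Submodule.eq_of_le_of_finrank_le hWZ ?_).symm
    by_contra hlt
    push Not at hlt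
    have hall : ∀ k, img K a (u k * g) = L' := by
      intro k
      by_contra hne
      have h1 : img K a (g⁻¹ * (u k * g)) ≠ line F K a := fun h => hne (by
        have := congrArg (Submodule.map (g : V →ₗ[F] V)) h
        rw [← img_mul, mul_inv_cancel_left] at this
        exact this)
      have h2 := hmax' _ (mul_mem (inv_mem hgM) (mul_mem (huM k) hgM)) h1
      rw [← finrank_img_inf] at h2
      have hle : Z ≤ img K a (u k * g) ⊓ img K a g :=
        le_inf (hZimg k) (by rintro _ ⟨l, -, rfl⟩; exact hγL l)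
      exact absurd ((Submodule.finrank_mono hle).trans h2) (not_le.2 hlt)
    refine hgne (Submodule.eq_of_le_of_finrank_eq ?_ ?_).symm
    · intro x hx
      obtain ⟨c, rfl⟩ := mem_line.1 hx
      have := hdiff (c / ψ x₁) 0 ((hall _).trans (hall 0).symm) x₁ hx₁
      rw [sub_zero, div_mul_cancel₀ _ hψx₁] at this
      exact this
    · rw [finrank_line ha, finrank_img ha]
  -- counting
  set X := line F K a ⊔ L' with hX
  letI := Fintype.ofFinite K
  let S' : Finset (Submodule F V) := Finset.univ.image fun k => img K a (u k * g)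
  have hnotL : ∀ A' ∈ S', A' ≠ line F K a := by
    intro A' hA'
    obtain ⟨k, -, rfl⟩ := Finset.mem_image.1 hA'
    intro h
    apply hgne
    refine Submodule.map_injective_of_injective (f := (u k : V →ₗ[F] V)) (u k).injective ?_
    rw [← img_mul, h]
    exact (huline k).symm
  have hbound : S'.card ≤ q ^ (r - w) := by
    have hp := pencil_bound (F := F) W X (insert (line F K a) S') r ?_ ?_
      (inf_le_right.trans le_sup_left)
    · rw [Finset.card_insert_of_notMem (fun h => hnotL _ h rfl)] at hp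
      have hXdim : finrank F X = w + (r - w) + (r - w) := by
        have := Submodule.finrank_sup_add_finrank_inf_eq (line F K a) L'
        rw [inf_comm, ← hW, finrank_line ha, finrank_img ha, ← hX] at this
        omega
      rw [hXdim] at hp
      obtain ⟨d, hd⟩ : ∃ d, r = w + d := ⟨r - w, by omega⟩
      have hd0 : 0 < d := by omega
      rw [hd, Nat.add_sub_cancel_left] at hp ⊢
      have hq2 : 2 ≤ q := Finite.one_lt_card
      have hQ : 2 ≤ q ^ d := hq2.trans (Nat.le_self_pow (by omega) q)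
      rw [pow_add, pow_add, pow_add] at hp
      have hp' : (S'.card + 1) * (q ^ d - 1) ≤ q ^ d * q ^ d - 1 := by
        refine Nat.le_of_mul_le_mul_left ?_ (pow_pos (by omega : 0 < q) w)
        calc q ^ w * ((S'.card + 1) * (q ^ d - 1))
            = (S'.card + 1) * (q ^ w * q ^ d - q ^ w) := by rw [← Nat.mul_sub_one]; ring
          _ ≤ q ^ w * q ^ d * q ^ d - q ^ w := hp
          _ = q ^ w * (q ^ d * q ^ d - 1) := by rw [Nat.mul_sub_one, mul_assoc]
      obtain ⟨Q, hQ'⟩ : ∃ Q, q ^ d = Q + 1 := ⟨q ^ d - 1, by omega⟩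
      rw [hQ', Nat.add_sub_cancel] at hp'
      have e : (Q + 1) * (Q + 1) - 1 = (Q + 2) * Q := by
        rw [show (Q + 1) * (Q + 1) = (Q + 2) * Q + 1 by ring, Nat.add_sub_cancel]
      rw [e] at hp'
      have := Nat.le_of_mul_le_mul_right hp' (by omega)
      omega
    · intro A' hA'
      rcases Finset.mem_insert.1 hA' with rfl | hA'
      · exact ⟨inf_le_right, le_sup_left, finrank_line ha⟩
      · obtain ⟨k, -, rfl⟩ := Finset.mem_image.1 hA'
        refine ⟨hWimg k, ?_, finrank_img ha _⟩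
        rw [img_mul]
        rintro _ ⟨x, hx, rfl⟩
        show u k x ∈ X
        rw [hu k x hx]
        refine Submodule.add_mem _ (Submodule.mem_sup_right hx) (Submodule.mem_sup_left ?_)
        exact mem_line.2 ⟨_, rfl⟩
    · have hone : img K a (1 : V ≃ₗ[F] V) = line F K a := by
        rw [img]; exact Submodule.map_id _
      have hmem : ∀ A' ∈ insert (line F K a) S', ∃ h ∈ M, A' = img K a h ∧ W ≤ A' := by
        intro A' hA'
        rcases Finset.mem_insert.1 hA' with rfl | hA'
        · exact ⟨1, one_mem M, hone.symm, inf_le_right⟩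
        · obtain ⟨k, -, rfl⟩ := Finset.mem_image.1 hA'
          exact ⟨u k * g, mul_mem (huM k) hgM, rfl, hWimg k⟩
      intro A' hA' B' hB' hAB
      obtain ⟨hA1, hA2, rfl, hA4⟩ := hmem A' hA'
      obtain ⟨hB1, hB2, rfl, hB4⟩ := hmem B' hB'
      refine (Submodule.eq_of_le_of_finrank_le (le_inf hA4 hB4) ?_).symm
      rw [finrank_img_inf]
      refine hmax' _ (mul_mem (inv_mem hB2) hA2) fun h => hAB ?_
      have := congrArg (Submodule.map (hB1 : V →ₗ[F] V)) h
      rw [← img_mul, mul_inv_cancel_left] at this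
      exact this
  let S : Submodule F K :=
    { carrier := {s | ∀ x ∈ L', s * ψ x ∈ W'}
      zero_mem' := fun x _ => by simp
      add_mem' := fun {s t} hs ht x hx => by rw [add_mul]; exact W'.add_mem (hs x hx) (ht x hx)
      smul_mem' := fun c s hs x hx => by rw [smul_mul_assoc]; exact W'.smul_mem c (hs x hx) }
  have hcount : Fintype.card K ≤ q ^ finrank F S * S'.card := by
    rw [← Finset.card_univ]
    refine Finset.card_le_mul_card_image _ _ fun A' hA' => ?_
    obtain ⟨l, -, rfl⟩ := Finset.mem_image.1 hA'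
    rw [hq, ← Module.natCard_eq_pow_finrank (K := F) (V := S), ← Nat.card_eq_finsetCard]
    exact Nat.card_le_card_of_injective
      (fun k => (⟨k.1 - l, hdiff k.1 l (Finset.mem_filter.1 k.2).2⟩ : S))
      fun k₁ k₂ h => Subtype.ext (sub_left_injective (congrArg Subtype.val h))
  have hsw : w ≤ finrank F S := by
    have hK : Fintype.card K = q ^ r := by
      rw [← Nat.card_eq_fintype_card]; exact Module.natCard_eq_pow_finrank (K := F)
    rw [hK] at hcount
    have h1 := hcount.trans (Nat.mul_le_mul_left _ hbound)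
    rw [← pow_add] at h1
    have := (Nat.pow_le_pow_iff_right (Finite.one_lt_card (α := F))).1 h1
    omega
  have hAne : A ≠ ⊥ := by
    obtain ⟨l, rfl⟩ := hL'γ x₁ hx₁
    exact (Submodule.ne_bot_iff _).2 ⟨χ l, ⟨l, rfl⟩, hψx₁⟩
  have hSne : S ≠ ⊥ := fun h => by
    rw [h, finrank_bot] at hsw
    omega
  have hCD := product_bound hdeg (A := S) (B := A) (W := W') hSne hAne (by
    rintro s hs _ ⟨l, rfl⟩
    exact hs _ (hγL l))
  rw [hW', ← hr] at hCD
  rw [hZW, ← hw] at hZdim
  have hA1 : finrank F A = 1 := by omega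
  -- the axis
  obtain ⟨α, hα⟩ := finrank_eq_one_iff'.1 hA1
  obtain ⟨hα0, hαall⟩ := hα
  have hα0' : (α : K) ≠ 0 := fun h => hα0 (Subtype.ext h)
  obtain ⟨ε, hε⟩ : ∃ ε : Dual F K, ε α = 1 := by
    obtain ⟨ε, hε⟩ := Projective.exists_dual_ne_zero F hα0'
    exact ⟨(ε α)⁻¹ • ε, by simp [hε]⟩
  obtain ⟨δ, hδ⟩ := lam_repr hl (ε ∘ₗ χ)
  have hform : ∀ l, χ l = lam (δ * l) • (α : K) := by
    intro l
    obtain ⟨c, hc⟩ := hαall ⟨χ l, l, rfl⟩
    have hc' : c • (α : K) = χ l := congrArg Subtype.val hc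
    rw [← hδ l]
    show χ l = ε (χ l) • (α : K)
    rw [← hc', map_smul, hε, smul_eq_mul, mul_one]
  refine ⟨δ, fun h => ?_, fun v hv => ?_⟩
  · obtain ⟨l, hl⟩ := α.2
    refine hα0' ?_
    rw [← hl, hform, h, zero_mul, map_zero, zero_smul]
  · have hv' : γ v ∈ W := hZW ▸ ⟨v, by show χ v = 0; rw [hform, hv, zero_smul], rfl⟩
    obtain ⟨k, hk⟩ := mem_line.1 hv'.2
    refine ⟨g⁻¹ * u (k / α) * g, mul_mem (mul_mem (inv_mem hgM) (huM _)) hgM, fun l => ?_⟩
    apply g.injective
    show g (g.symm (u (k / α) (γ l))) = γ _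
    rw [LinearEquiv.apply_symm_apply, hu _ _ (hγL l)]
    show _ = γ (l + lam (δ * l) • v)
    rw [map_add γ, map_smul γ, ← hk, ← hχ, hform, mul_smul_comm, div_mul_cancel₀ _ hα0',
      smul_assoc]

/-- If two images of a line meet properly, transvections of the line with a common axis are
induced by `M`. -/
theorem SpOvergroup.trs_of_meet (hM : SpOvergroup B lam M) {a : V} (ha : a ≠ 0)
    (hbad : ∃ g ∈ M, img K a g ≠ line F K a ∧ img K a g ⊓ line F K a ≠ ⊥) :
    ∃ δ : K, δ ≠ 0 ∧ ∀ v : K, lam (δ * v) = 0 → Trs lam M a δ v := by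
  classical
  obtain ⟨g₁, hg₁, hne₁, hbot₁⟩ := hbad
  haveI : Finite (V ≃ₗ[F] V) := Finite.of_injective _ DFunLike.coe_injective
  letI := Fintype.ofFinite (V ≃ₗ[F] V)
  let bad := Finset.univ.filter fun g => g ∈ M ∧ img K a g ≠ line F K a
  obtain ⟨g, hg, hmax⟩ := Finset.exists_max_image bad
    (fun g => finrank F (img K a g ⊓ line F K a : Submodule F V)) ⟨g₁, by simp [bad, hg₁, hne₁]⟩
  obtain ⟨hgM, hgne⟩ := (Finset.mem_filter.1 hg).2
  have hmax' := fun h (hh : h ∈ M) (hhne : img K a h ≠ line F K a) =>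
    hmax h (Finset.mem_filter.2 ⟨Finset.mem_univ _, hh, hhne⟩)
  have hmeet : img K a g ⊓ line F K a ≠ ⊥ := fun h => hbot₁ (by
    have := hmax' g₁ hg₁ hne₁
    rw [h, finrank_bot] at this
    exact Submodule.finrank_eq_zero.1 (Nat.le_zero.1 this))
  have hnle : ¬ img K a g ≤ line F K a := fun h =>
    hgne (Submodule.eq_of_le_of_finrank_eq h (by rw [finrank_img ha, finrank_line ha]))
  obtain ⟨ψ, hψa, ⟨x₁, hx₁, hψx₁⟩, hu'⟩ := hM.exists_translations _ hnle
  exact trs_of_translations hM.deg hM.lam_ne ha hgM hgne hmeet hmax' ψ hψa hx₁ hψx₁ hu'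

/-- The transvections with every axis. -/
theorem trs_all_of_scalars {a : V} (hscal : ∀ {e : K}, e ≠ 0 → ∃ g ∈ M, MapsBy g a (mulL F e))
    {δ : K} (hδ : δ ≠ 0)
    (h : ∀ v : K, lam (δ * v) = 0 → Trs lam M a δ v) {η v : K} (hη : η ≠ 0)
    (hv : lam (η * v) = 0) : Trs lam M a η v := by
  set e := δ / η with he
  have he0 : e ≠ 0 := div_ne_zero hδ hη
  obtain ⟨t, ht, htP⟩ := h (v / e) (by
    rw [show δ * (v / e) = η * v by rw [he]; field_simp]
    exact hv)
  obtain ⟨c, hc, hce⟩ := hscal he0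
  refine ⟨c * t * c⁻¹, mul_mem (mul_mem hc ht) (inv_mem hc), fun l => ?_⟩
  show c (t (c⁻¹ (l • a))) = _
  have hci : c⁻¹ (l • a) = (l / e) • a := by
    apply c.injective
    show c (c.symm _) = _
    rw [LinearEquiv.apply_symm_apply, hce, LinearMap.mulLeft_apply, mul_div_cancel₀ _ he0]
  rw [hci, htP, hce]
  congr 1
  simp only [LinearMap.mulLeft_apply, LinearMap.add_apply, Module.End.one_apply,
    LinearMap.smulRight_apply, LinearMap.comp_apply]
  rw [mul_add, mul_div_cancel₀ _ he0, mul_smul_comm, mul_div_cancel₀ _ he0,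
    show δ * (l / e) = η * l by rw [he]; field_simp]

theorem SpOvergroup.trs_all (hM : SpOvergroup B lam M) {a : V} (ha : a ≠ 0) {δ : K} (hδ : δ ≠ 0)
    (h : ∀ v : K, lam (δ * v) = 0 → Trs lam M a δ v) {η v : K} (hη : η ≠ 0)
    (hv : lam (η * v) = 0) : Trs lam M a η v :=
  trs_all_of_scalars (fun he => hM.exists_scalar ha he) hδ h hη hv

end Cfsg.Agent.FieldExtMax
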