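/-
Lines of an orthogonal overgroup meeting properly: a perpendicular pair exists, and gives
transvections on a line.

Main results: `OrOvergroup.perp_of_fixed`, `exists_common_zero`, `OrOvergroup.exists_perp_pair`,
`OrOvergroup.trs_of_meet`.
-/
import Cfsg.Agent.Lib.FieldExtMax.OrBase
import Cfsg.Agent.Lib.FieldExtMax.SpLines
import Mathlib.FieldTheory.ChevalleyWarning

set_option autoImplicit false
set_option linter.unusedSectionVars false

namespace Cfsg.Agent.FieldExtMax

open Module

variable {F K V : Type*} [Field F] [Finite F] [Field K] [Finite K] [Algebra F K]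
  [AddCommGroup V] [Module F V] [Module K V] [IsScalarTower F K V] [Finite V]
variable {B : V →ₗ[K] V →ₗ[K] K} {lam : Dual F K} {M : Subgroup (V ≃ₗ[F] V)}

/-- Fewer than half as many quadratic functions as variables have a common zero besides zero. -/
theorem exists_common_zero {D d : ℕ} (lin : Fin d → Fin D → F) (quad : Fin d → Fin D → Fin D → F)
    (hd : 2 * d < D) :
    ∃ c : Fin D → F, c ≠ 0 ∧
      ∀ i, ∑ j, lin i j * c j - ∑ j, ∑ k, quad i j k * (c j * c k) = 0 := by
  classical
  letI := Fintype.ofFinite F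
  set p := ringChar F with hp
  haveI : CharP F p := ringChar.charP F
  let P : Fin d → MvPolynomial (Fin D) F := fun i =>
    ∑ j, MvPolynomial.C (lin i j) * MvPolynomial.X j
      - ∑ j, ∑ k, MvPolynomial.C (quad i j k) * (MvPolynomial.X j * MvPolynomial.X k)
  have hdeg : ∀ i, (P i).totalDegree ≤ 2 := by
    intro i
    refine (MvPolynomial.totalDegree_sub _ _).trans (max_le ?_ ?_)
    · refine MvPolynomial.totalDegree_finsetSum_le fun j _ => ?_
      refine (MvPolynomial.totalDegree_mul _ _).trans ?_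
      rw [MvPolynomial.totalDegree_C, MvPolynomial.totalDegree_X]; omega
    · refine MvPolynomial.totalDegree_finsetSum_le fun j _ => ?_
      refine MvPolynomial.totalDegree_finsetSum_le fun k _ => ?_
      refine (MvPolynomial.totalDegree_mul _ _).trans ?_
      rw [MvPolynomial.totalDegree_C, zero_add]
      refine (MvPolynomial.totalDegree_mul _ _).trans ?_
      rw [MvPolynomial.totalDegree_X, MvPolynomial.totalDegree_X]
  have heval : ∀ i (c : Fin D → F), MvPolynomial.eval c (P i)
      = ∑ j, lin i j * c j - ∑ j, ∑ k, quad i j k * (c j * c k) := fun i c => by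
    simp [P, map_sum]
  have hsum : (∑ i ∈ Finset.univ, (P i).totalDegree) < Fintype.card (Fin D) := by
    refine lt_of_le_of_lt (Finset.sum_le_sum fun i _ => hdeg i) ?_
    simpa [mul_comm] using hd
  have hdvd := char_dvd_card_solutions_of_sum_lt p hsum
  have hpp : p.Prime := CharP.char_is_prime F p
  by_contra hne
  push Not at hne
  have hone : Nat.card {x : Fin D → F // ∀ i ∈ (Finset.univ : Finset (Fin d)),
      MvPolynomial.eval x (P i) = 0} = 1 := by
    rw [Nat.card_eq_fintype_card, Fintype.card_eq_one_iff]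
    refine ⟨⟨0, fun i _ => by rw [heval]; simp⟩, fun ⟨x, hx⟩ => Subtype.ext ?_⟩
    by_contra hx0
    obtain ⟨i, hi⟩ := hne x hx0
    exact hi (by rw [← heval]; exact hx i (Finset.mem_univ i))
  replace hdvd : p ∣ Nat.card {x : Fin D → F // ∀ i ∈ (Finset.univ : Finset (Fin d)),
      MvPolynomial.eval x (P i) = 0} := by
    rw [Nat.card_eq_fintype_card]
    convert hdvd
  rw [hone] at hdvd
  exact hpp.one_lt.ne' (Nat.dvd_one.1 hdvd)

namespace OrOvergroup

/-- A line of the orbit containing a fixed vector off the line of `a` is orthogonal to `a`, when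
the isometries fixing that vector fix it. -/
theorem perp_of_fixed (hM : OrOvergroup B lam M) {a : V} (ha : a ≠ 0) (hs : B a a = 0)
    (L' : Submodule F V) (hL' : finrank F L' = finrank F K) {z : V} (hza : B z a = 0)
    (hfix : ∀ u ∈ M, (∀ x ∈ line F K a, u x = x) → u z = z → ∀ x ∈ L', u x ∈ L') :
    ∀ x ∈ L', B x a = 0 := by
  intro x₀ hx₀
  by_contra hα
  set α := B x₀ a with hαdef
  have h2F : (2 : F) ≠ 0 := fun h => hM.two (by
    rw [← map_ofNat (algebraMap F K) 2, h, map_zero])
  have haz : B a z = 0 := by rw [hM.symm, hza]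
  set U : Submodule K V := perpK B a z with hU
  let Φ : U.restrictScalars F →ₗ[F] V :=
    ((α • LinearMap.id - (B x₀).smulRight a : V →ₗ[K] V).restrictScalars F).comp
      (U.restrictScalars F).subtype
  have hΦ : ∀ b, Φ b = α • (b : V) - B x₀ (b : V) • a := fun b => rfl
  have himg : LinearMap.range Φ ≤ L' := by
    rintro _ ⟨⟨b, hb⟩, rfl⟩
    rw [hΦ]
    have hb' : B a b = 0 ∧ B z b = 0 := mem_perpK.1 hb
    have hmv : ∀ c : K, B a (c • b) = 0 := fun c => by rw [map_smul, hb'.1, smul_zero]
    have key : ∀ c : K, c = 1 ∨ c = -1 →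
        B x₀ a • (c • b) - B x₀ (c • b) • a
          - ((2 : K)⁻¹ * B (c • b) (c • b) * B x₀ a) • a ∈ L' := by
      intro c _
      obtain ⟨u, hu, hux⟩ := hM.siegel_mem hs (hmv c)
      have hline : ∀ x ∈ line F K a, u x = x := fun x hx => by
        obtain ⟨k, rfl⟩ := mem_line.1 hx
        rw [hux]
        simp [hs, hb'.1]
      have hz : u z = z := by
        rw [hux, hza, map_smul, hb'.2]
        simp
      have h1 := L'.sub_mem (hfix u hu hline hz x₀ hx₀) hx₀
      convert h1 using 1
      rw [hux]; abel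
    have h1 := L'.sub_mem (key 1 (Or.inl rfl)) (key (-1) (Or.inr rfl))
    have h2 := L'.smul_mem (2 : F)⁻¹ h1
    convert h2 using 1
    simp only [map_smul, LinearMap.smul_apply, smul_eq_mul, one_smul, one_mul, neg_mul, mul_neg,
      neg_neg, neg_smul, smul_neg, map_neg, LinearMap.neg_apply, ← hαdef]
    rw [eq_inv_smul_iff₀ h2F, two_smul]
    module
  have hker : ∀ b ∈ LinearMap.ker Φ, (b : V) ∈ line F K a := by
    intro b hb
    rw [LinearMap.mem_ker, hΦ, sub_eq_zero] at hb
    exact mem_line.2 ⟨α⁻¹ * B x₀ b, by rw [mul_smul, ← hb, inv_smul_smul₀ hα]⟩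
  haveI : Module.Finite F V := Module.Finite.of_finite
  haveI : Module.Finite F K := Module.Finite.of_finite
  haveI : Module.Finite K V := Module.Finite.of_finite
  have hkd : finrank F (LinearMap.ker Φ) ≤ finrank F K := by
    rw [← finrank_line (F := F) (K := K) ha]
    refine LinearMap.finrank_le_finrank_of_injective
      (f := (((U.restrictScalars F).subtype.comp (LinearMap.ker Φ).subtype).codRestrict _
        fun b => hker b.1 b.2)) fun b c h => Subtype.ext (Subtype.ext (congrArg (Subtype.val : line F K a → V) h))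
  have hUd : 2 * finrank F K ≤ finrank F (U.restrictScalars F) := by
    have h1 := finrank_perpK B a z
    have h2 := hM.dim
    have h3 := Module.finrank_mul_finrank F K U
    have h4 : finrank F (U.restrictScalars F) = finrank F U := rfl
    rw [h4, ← h3, mul_comm 2]
    exact Nat.mul_le_mul_left _ (by rw [hU]; omega)
  have hrn := LinearMap.finrank_range_add_finrank_ker Φ
  have heq : LinearMap.range Φ = L' := Submodule.eq_of_le_of_finrank_le himg (by omega)
  rw [← heq] at hx₀
  obtain ⟨⟨b, hb⟩, hb'⟩ := hx₀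
  apply hα
  rw [hαdef, ← hb', hΦ, map_sub, map_smul, map_smul, LinearMap.sub_apply, LinearMap.smul_apply,
    LinearMap.smul_apply, hs, hM.symm b a, (mem_perpK.1 hb).1]
  simp

end OrOvergroup

namespace OrCore

/-- The images of the line of a singular vector are totally singular. -/
lemma lam_img (hM : OrCore B lam M) {a : V} (hs : B a a = 0) {g : V ≃ₗ[F] V} (hg : g ∈ M)
    {x y : V} (hx : x ∈ img K a g) (hy : y ∈ img K a g) : lam (B x y) = 0 := by
  obtain ⟨p, hp, rfl⟩ := hx
  obtain ⟨q, hq, rfl⟩ := hy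
  obtain ⟨k, rfl⟩ := mem_line.1 hp
  obtain ⟨l, rfl⟩ := mem_line.1 hq
  show lam (B (g (k • a)) (g (l • a))) = 0
  rw [hM.pres g hg]
  simp [hs]

end OrCore

namespace OrOvergroup

/-- A pair of largest intersection with the second line orthogonal to `a`. -/
theorem exists_perp_pair (hM : OrOvergroup B lam M) {a : V} (ha : a ≠ 0) (hs : B a a = 0)
    (hbad : ∃ g ∈ M, img K a g ≠ line F K a ∧ img K a g ⊓ line F K a ≠ ⊥) :
    ∃ g ∈ M, img K a g ≠ line F K a ∧ img K a g ⊓ line F K a ≠ ⊥ ∧
      (∀ h ∈ M, img K a h ≠ line F K a →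
        finrank F (img K a h ⊓ line F K a : Submodule F V)
          ≤ finrank F (img K a g ⊓ line F K a : Submodule F V)) ∧
      ∀ x ∈ img K a g, B x a = 0 := by
  classical
  haveI : Module.Finite F V := Module.Finite.of_finite
  haveI : Module.Finite F K := Module.Finite.of_finite
  haveI : Module.Finite K V := Module.Finite.of_finite
  obtain ⟨g₁, hg₁, hne₁, hbot₁⟩ := hbad
  haveI : Finite (V ≃ₗ[F] V) := Finite.of_injective _ DFunLike.coe_injective
  letI := Fintype.ofFinite (V ≃ₗ[F] V)
  let bad := Finset.univ.filter fun g => g ∈ M ∧ img K a g ≠ line F K a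
  obtain ⟨g, hg, hmax⟩ := Finset.exists_max_image bad
    (fun g => finrank F (img K a g ⊓ line F K a : Submodule F V)) ⟨g₁, by simp [bad, hg₁, hne₁]⟩
  obtain ⟨hgM, hgne⟩ := (Finset.mem_filter.1 hg).2
  have hmax' := fun h (hh : h ∈ M) (hhne : img K a h ≠ line F K a) =>
    hmax h (Finset.mem_filter.2 ⟨Finset.mem_univ _, hh, hhne⟩)
  have hmeet : img K a g ⊓ line F K a ≠ ⊥ := fun h => hbot₁ (by
    have := hmax' g₁ hg₁ hne₁
    rw [h, finrank_bot] at this
    exact Submodule.finrank_eq_zero.1 (Nat.le_zero.1 this))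
  -- a vector off the line orthogonal to `a` makes the pair perpendicular
  have claim : ∀ g ∈ M, (∀ h ∈ M, img K a h ≠ line F K a →
      finrank F (img K a h ⊓ line F K a : Submodule F V)
        ≤ finrank F (img K a g ⊓ line F K a : Submodule F V)) →
      ∀ z ∈ img K a g, z ∉ line F K a → B z a = 0 → ∀ x ∈ img K a g, B x a = 0 := by
    intro g hg hmax z hz hzl hza
    refine hM.perp_of_fixed ha hs _ (finrank_img ha g) hza fun u hu hline huz => ?_
    have heq : img K a (u * g) = img K a g := by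
      by_contra hne
      have h1 : img K a (g⁻¹ * (u * g)) ≠ line F K a := fun h => hne (by
        have := congrArg (Submodule.map (g : V →ₗ[F] V)) h
        rw [← img_mul, mul_inv_cancel_left] at this
        exact this)
      have h2 := hmax _ (mul_mem (inv_mem hg) (mul_mem hu hg)) h1
      rw [← finrank_img_inf] at h2
      have h3 : img K a g ⊓ line F K a < img K a (u * g) ⊓ img K a g := by
        refine lt_of_le_of_ne (le_inf (fun x hx => ?_) inf_le_left) fun h => hzl ?_
        · rw [img_mul]; exact ⟨x, hx.1, hline x hx.2⟩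
        · have h4 : z ∈ img K a (u * g) ⊓ img K a g := ⟨by rw [img_mul]; exact ⟨z, hz, huz⟩, hz⟩
          rw [← h] at h4
          exact h4.2
      exact absurd h2 (not_le.2 (Submodule.finrank_lt_finrank_of_lt h3))
    intro x hx
    rw [← heq, img_mul]
    exact ⟨x, hx, rfl⟩
  by_cases hperp : ∀ x ∈ img K a g, B x a = 0
  · exact ⟨g, hgM, hgne, hmeet, hmax', hperp⟩
  have hnoz : ∀ z ∈ img K a g, B z a = 0 → z ∈ line F K a := fun z hz hza =>
    by_contra fun hzl => hperp (claim g hgM hmax' z hz hzl hza)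
  push Not at hperp
  obtain ⟨x₀, hx₀, hα⟩ := hperp
  set L' := img K a g with hL'
  set W := L' ⊓ line F K a with hW
  set α := B x₀ a with hαdef
  -- a complement of the intersection
  obtain ⟨C₀, hC₀⟩ := Submodule.exists_isCompl W
  set C := L' ⊓ C₀ with hC
  have hWC : L' = W ⊔ C := by
    rw [hC, inf_comm L' C₀, ← sup_inf_assoc_of_le C₀ (inf_le_left : W ≤ L'), hC₀.sup_eq_top,
      top_inf_eq]
  have hWCd : W ⊓ C = ⊥ := eq_bot_iff.2 fun x hx => hC₀.inf_eq_bot.le ⟨hx.1, hx.2.2⟩
  have hdimC : finrank F C < finrank F K := by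
    have h1 := Submodule.finrank_sup_add_finrank_inf_eq W C
    rw [← hWC, hWCd, finrank_bot, finrank_img ha] at h1
    have h2 : finrank F W ≠ 0 := fun h => hmeet (Submodule.finrank_eq_zero.1 h)
    omega
  set U : Submodule K V := perpK B a x₀ with hU
  have hUd : 2 * finrank F K ≤ finrank F (U.restrictScalars F) := by
    have h1 := finrank_perpK B a x₀
    have h2 := hM.dim
    have h3 := Module.finrank_mul_finrank F K U
    have h4 : finrank F (U.restrictScalars F) = finrank F U := rfl
    rw [h4, ← h3, mul_comm 2]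
    exact Nat.mul_le_mul_left _ (by rw [hU]; omega)
  -- the equations
  let eU := Module.finBasis F (U.restrictScalars F)
  let eC := Module.finBasis F C
  obtain ⟨c, hc0, hc⟩ := exists_common_zero
    (fun i j => lam (α * B ((eU j : U.restrictScalars F) : V) ((eC i : C) : V)))
    (fun i j k => lam ((2 : K)⁻¹ * α * B a ((eC i : C) : V)
      * B ((eU j : U.restrictScalars F) : V) ((eU k : U.restrictScalars F) : V)))
    (by omega : 2 * finrank F C < finrank F (U.restrictScalars F))
  set b : V := ∑ j, c j • ((eU j : U.restrictScalars F) : V) with hb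
  have hbU : b ∈ U := (U.restrictScalars F).sum_mem fun j _ =>
    (U.restrictScalars F).smul_mem _ (eU j).2
  have hb0 : b ≠ 0 := fun h => hc0 (by
    have h1 : ∑ j, c j • eU j = 0 := Subtype.ext (by simpa [hb] using h)
    exact funext fun j => Fintype.linearIndependent_iff.1 eU.linearIndependent c h1 j)
  have hbp : B a b = 0 ∧ B x₀ b = 0 := mem_perpK.1 hbU
  have hbl : ∀ k : K, k • b ∈ line F K a → k = 0 := by
    intro k hk
    obtain ⟨l, hl⟩ := mem_line.1 hk
    have h1 := congrArg (B x₀) hl
    rw [map_smul, map_smul, hbp.2, smul_zero, ← hαdef, smul_eq_mul] at h1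
    rw [(mul_eq_zero.1 h1).resolve_right hα, zero_smul] at hl
    exact (smul_eq_zero.1 hl.symm).resolve_right hb0
  obtain ⟨u, hu, hux⟩ := hM.siegel_mem hs hbp.1
  have hux₀ : u x₀ = x₀ + α • b - ((2 : K)⁻¹ * B b b * α) • a := by
    rw [hux, hbp.2, zero_smul, sub_zero]
  have huline : ∀ x ∈ line F K a, u x = x := fun x hx => by
    obtain ⟨k, rfl⟩ := mem_line.1 hx
    rw [hux]
    simp [hs, hbp.1]
  have hnotin : u x₀ ∉ L' := by
    intro h
    have h1 := L'.sub_mem h hx₀
    rw [hux₀, add_sub_assoc, add_sub_cancel_left] at h1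
    have h2 := hnoz _ h1 (by
      simp [map_sub, map_smul, hM.symm b a, hbp.1, hs])
    obtain ⟨l, hl⟩ := mem_line.1 h2
    refine hα (hbl α (mem_line.2 ⟨l + (2 : K)⁻¹ * B b b * α, ?_⟩))
    rw [add_smul, hl, sub_add_cancel]
  have horth : ∀ y ∈ L', lam (B (u x₀) y) = 0 := by
    intro y hy
    rw [hWC] at hy
    obtain ⟨y₁, hy₁, y₂, hy₂, rfl⟩ := Submodule.mem_sup.1 hy
    rw [map_add, map_add]
    have h1 : lam (B (u x₀) y₁) = 0 := by
      rw [← huline y₁ hy₁.2, hM.pres u hu]
      exact hM.lam_img hs hgM hx₀ hy₁.1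
    have h2 : ∀ i, lam (B (u x₀) ((eC i : C) : V)) = 0 := by
      intro i
      have h3 := hc i
      have hy2 : ((eC i : C) : V) ∈ L' := (eC i).2.1
      rw [hux₀]
      simp only [map_add, map_sub, map_smul, LinearMap.add_apply, LinearMap.sub_apply,
        LinearMap.smul_apply, smul_eq_mul, hM.lam_img hs hgM hx₀ hy2, zero_add]
      rw [← h3, hb]
      congr 1
      · simp only [map_sum, LinearMap.sum_apply, LinearMap.map_smul_of_tower, LinearMap.smul_apply,
          Finset.mul_sum, mul_smul_comm, map_smul, smul_eq_mul]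
        exact Finset.sum_congr rfl fun j _ => mul_comm _ _
      · simp only [map_sum, LinearMap.sum_apply, LinearMap.map_smul_of_tower, LinearMap.smul_apply,
          Finset.mul_sum, Finset.sum_mul, mul_smul_comm, smul_mul_assoc, Finset.smul_sum, map_smul,
          smul_eq_mul]
        refine Finset.sum_comm.trans (Finset.sum_congr rfl fun j _ =>
          Finset.sum_congr rfl fun k _ => ?_)
        ring_nf
    have h4 : lam (B (u x₀) y₂) = 0 := by
      let φ : Dual F C := (lam.comp ((B (u x₀)).restrictScalars F)).comp C.subtype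
      have hφ : φ = 0 := eC.ext fun i => h2 i
      exact LinearMap.congr_fun hφ ⟨y₂, hy₂⟩
    rw [h1, h4, add_zero]
  -- the new pair
  refine ⟨g⁻¹ * u * g, mul_mem (mul_mem (inv_mem hgM) hu) hgM, ?_⟩
  have hgi : ∀ x, g (g⁻¹ x) = x := fun x => g.apply_symm_apply x
  have himg : img K a (g⁻¹ * u * g) = (img K a (u * g)).map ((g⁻¹ : V ≃ₗ[F] V) : V →ₗ[F] V) := by
    rw [mul_assoc]; exact img_mul a _ _
  have hzin : g⁻¹ (u x₀) ∈ img K a (g⁻¹ * u * g) := by
    rw [himg]; exact ⟨u x₀, by rw [img_mul]; exact ⟨x₀, hx₀, rfl⟩, rfl⟩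
  have hzl : g⁻¹ (u x₀) ∉ line F K a := fun h => hnotin ⟨g⁻¹ (u x₀), h, hgi _⟩
  have hzperp : B (g⁻¹ (u x₀)) a = 0 := by
    refine lam_ext hM.lam_ne fun k => ?_
    rw [mul_zero, map_zero, ← smul_eq_mul, ← map_smul, ← hM.pres g hgM, hgi]
    exact horth _ ⟨k • a, mem_line.2 ⟨k, rfl⟩, rfl⟩
  have hne : img K a (g⁻¹ * u * g) ≠ line F K a := fun h => hzl (h ▸ hzin)
  have hge : finrank F W ≤ finrank F (img K a (g⁻¹ * u * g) ⊓ line F K a : Submodule F V) := by
    rw [mul_assoc, ← finrank_img_inf]
    refine Submodule.finrank_mono (le_inf (fun x hx => ?_) inf_le_left)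
    rw [img_mul]; exact ⟨x, hx.1, huline x hx.2⟩
  have hmax2 : ∀ h ∈ M, img K a h ≠ line F K a →
      finrank F (img K a h ⊓ line F K a : Submodule F V)
        ≤ finrank F (img K a (g⁻¹ * u * g) ⊓ line F K a : Submodule F V) := fun h hh hhne =>
    (hmax' h hh hhne).trans hge
  refine ⟨hne, fun h => ?_, hmax2,
    claim _ (mul_mem (mul_mem (inv_mem hgM) hu) hgM) hmax2 _ hzin hzl hzperp⟩
  rw [h, finrank_bot] at hge
  exact hmeet (Submodule.finrank_eq_zero.1 (Nat.le_zero.1 hge))

/-- If two images of a singular line meet properly, all transvections of the line are induced. -/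
theorem trs_of_meet (hM : OrOvergroup B lam M) {a : V} (ha : a ≠ 0) (hs : B a a = 0)
    (hbad : ∃ g ∈ M, img K a g ≠ line F K a ∧ img K a g ⊓ line F K a ≠ ⊥) {η v : K} (hη : η ≠ 0)
    (hv : lam (η * v) = 0) : Trs lam M a η v := by
  obtain ⟨g, hgM, hgne, hmeet, hmax', hperp⟩ := hM.exists_perp_pair ha hs hbad
  have hnle : ¬ img K a g ≤ line F K a := fun h =>
    hgne (Submodule.eq_of_le_of_finrank_eq h (by rw [finrank_img ha, finrank_line ha]))
  obtain ⟨x₀, hx₀, hx₀L⟩ := SetLike.not_le_iff_exists.1 hnle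
  obtain ⟨b, hab, hxb⟩ := hM.exists_perp (a := a) (x := x₀)
    (fun h => hx₀L (mem_line_iff_span.2 h))
  have hu' : ∀ k : K, ∃ u ∈ M, (∀ x ∈ line F K a, u x = x) ∧
      ∀ x ∈ img K a g, u x = x + (k * B.flip b x) • a := by
    intro k
    have hkb : B a (-k • b) = 0 := by rw [map_smul, hab, smul_zero]
    obtain ⟨u, hu, hux⟩ := hM.siegel_mem hs hkb
    refine ⟨u, hu, fun x hx => ?_, fun x hx => ?_⟩
    · obtain ⟨l, rfl⟩ := mem_line.1 hx
      rw [hux]
      simp [hs, hab]
    · rw [hux, hperp x hx]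
      simp [LinearMap.flip_apply]
  obtain ⟨δ, hδ, h⟩ := trs_of_translations hM.deg hM.lam_ne ha hgM hgne hmeet hmax' (B.flip b)
    (by simpa using hab) hx₀ (by simp [hxb]) hu'
  exact trs_all_of_scalars
    (fun he => by
      obtain ⟨c, hc, -, hce⟩ := hM.exists_scalar ha hs he
      exact ⟨c, hc, hce⟩) hδ h hη hv

end OrOvergroup

end Cfsg.Agent.FieldExtMax
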