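/-
Transvections of a singular line give all root elements of that line.

Main definitions: `OrCore.Tor`, `Wg`.
Main results: `OrCore.semi_of_tor_zero`, `OrCore.wedge_mem_of`, `OrOvergroup.roots_of_meet`.
-/
import Cfsg.Agent.Lib.FieldExtMax.OrLines

set_option autoImplicit false
set_option linter.unusedSectionVars false

namespace Cfsg.Agent.FieldExtMax

open Module

variable {F K V : Type*} [Field F] [Finite F] [Field K] [Finite K] [Algebra F K]
  [AddCommGroup V] [Module F V] [Module K V] [IsScalarTower F K V] [Finite V]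
variable {B : V →ₗ[K] V →ₗ[K] K} {lam : Dual F K} {M : Subgroup (V ≃ₗ[F] V)}

/-- The alternating map of two vectors. -/
noncomputable def Wg (lam : Dual F K) (v w : K) : Module.End F K :=
  (lam ∘ₗ mulL F v).smulRight w - (lam ∘ₗ mulL F w).smulRight v

lemma Wg_apply (v w α : K) : Wg lam v w α = lam (v * α) • w - lam (w * α) • v := rfl

lemma Wg_skew (v w k l : K) : lam (Wg lam v w k * l) = -lam (k * Wg lam v w l) := by
  simp only [Wg_apply, sub_mul, mul_sub, smul_mul_assoc, mul_smul_comm, map_sub, map_smul,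
    smul_eq_mul, mul_comm k v, mul_comm k w]
  ring

namespace OrCore

/-- The maps `P` for which `x ↦ x + P (B x a) • a` lies in `M`. -/
def Tor (_hM : OrCore B lam M) {a : V} (hs : B a a = 0) : AddSubgroup (Module.End F K) where
  carrier := {P | ∃ g ∈ M, ∀ x, g x = x + P (B x a) • a}
  zero_mem' := ⟨1, one_mem M, fun x => by simp⟩
  add_mem' := by
    rintro P Q ⟨g, hg, hgx⟩ ⟨h, hh, hhx⟩
    refine ⟨g * h, mul_mem hg hh, fun x => ?_⟩
    show g (h x) = _
    rw [hgx, hhx, map_add, map_smul, LinearMap.add_apply, LinearMap.add_apply,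
      LinearMap.smul_apply, hs, smul_zero, add_zero, add_smul]
    abel
  neg_mem' := by
    rintro P ⟨g, hg, hgx⟩
    refine ⟨g⁻¹, inv_mem hg, fun x => ?_⟩
    apply g.injective
    show g (g.symm x) = g _
    rw [LinearEquiv.apply_symm_apply, hgx, LinearMap.neg_apply, map_add, map_smul,
      LinearMap.add_apply, LinearMap.smul_apply, hs, smul_zero, add_zero, neg_smul]
    abel

lemma mem_Tor {hM : OrCore B lam M} {a : V} {hs : B a a = 0} {P : Module.End F K} :
    P ∈ hM.Tor hs ↔ ∃ g ∈ M, ∀ x, g x = x + P (B x a) • a := Iff.rfl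

lemma skew_of_mem (hM : OrCore B lam M) {a : V} (ha : a ≠ 0) (hs : B a a = 0)
    {P : Module.End F K} (hP : P ∈ hM.Tor hs) (k l : K) : lam (P k * l) = -lam (k * P l) := by
  obtain ⟨a', haa', ha'a, hs'⟩ := hM.exists_partner ha hs
  obtain ⟨g, hg, hgx⟩ := hP
  have h := hM.pres g hg (k • a') (l • a')
  simp only [hgx, map_add, map_smul, LinearMap.add_apply, LinearMap.smul_apply, smul_eq_mul,
    ha'a, haa', hs, hs', mul_one, mul_zero, zero_add, add_zero, map_zero] at h
  rw [mul_comm (P k) l, mul_comm k (P l)]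
  linear_combination h

lemma mem_conj (hM : OrCore B lam M) {a : V} (hs : B a a = 0) {g : V ≃ₗ[F] V}
    (hg : g ∈ M) {Q R : Module.End F K} (hQ : MapsBy g a Q)
    (hR : ∀ k α, lam (Q k * α) = lam (k * R α)) {P : Module.End F K} (hP : P ∈ hM.Tor hs) :
    Q ∘ₗ P ∘ₗ R ∈ hM.Tor hs := by
  obtain ⟨u, hu, hux⟩ := hP
  refine ⟨g * u * g⁻¹, mul_mem (mul_mem hg hu) (inv_mem hg), fun x => ?_⟩
  have hgi : g (g⁻¹ x) = x := g.apply_symm_apply x
  have hB : B (g⁻¹ x) a = R (B x a) := by
    refine lam_ext hM.lam_ne fun k => ?_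
    rw [← hR, ← smul_eq_mul, ← map_smul, ← hM.pres g hg, hgi, hQ, map_smul, smul_eq_mul]
  show g (u (g⁻¹ x)) = _
  rw [hux, map_add, hQ, hgi, hB]
  rfl

/-- Elements trivial on the line and on the quotient of its orthogonal give members of `T`. -/
lemma comm_linear (hM : OrCore B lam M) {a : V} (ha : a ≠ 0) (hs : B a a = 0)
    (hT : ∀ P ∈ hM.Tor hs, P = 0) {g : V ≃ₗ[F] V} (hg : g ∈ M)
    (hline : ∀ k : K, g (k • a) = k • a) (φ : V →ₗ[F] K)
    (hφ : ∀ x, B x a = 0 → g x = x + φ x • a) {x : V} (hx : B x a = 0) (l : K) :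
    φ (l • x) = l * φ x := by
  obtain ⟨a', haa', ha'a, hs'⟩ := hM.exists_partner ha hs
  have key : ∀ b, B b a = 0 → ∀ k α : K, lam (k * φ (α • b)) = lam (α * φ (k • b)) := by
    intro b hb k α₀
    have hab : B a b = 0 := by rw [hM.symm, hb]
    obtain ⟨u, hu, hux⟩ := hM.siegel_mem hs hab
    have hξa : ∀ x, B (g x) a = B x a := fun x => lam_ext hM.lam_ne fun k => by
      rw [← smul_eq_mul, ← map_smul, ← hline, hM.pres g hg, map_smul, smul_eq_mul]
    have hξb : ∀ x k, lam (k * B (g x - x) b) = -lam (B x a * φ (k • b)) := by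
      intro x k
      have h1 := hM.pres g hg x (k • b)
      rw [hφ (k • b) (by rw [map_smul, LinearMap.smul_apply, hb, smul_zero])] at h1
      simp only [map_add, map_smul, smul_eq_mul, hξa] at h1
      rw [map_sub, LinearMap.sub_apply, mul_sub, map_sub, mul_comm (B x a)]
      linear_combination h1
    let P : Module.End F K :=
      (φ ∘ₗ (LinearMap.toSpanSingleton K V b).restrictScalars F)
        + ((B.flip b).restrictScalars F) ∘ₗ ((g : V →ₗ[F] V) - LinearMap.id)
            ∘ₗ (LinearMap.toSpanSingleton K V a').restrictScalars F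
    have hPapp : ∀ α, P α = φ (α • b) + B (g (α • a') - α • a') b := fun α => rfl
    have hPx : ∀ x, P (B x a) = φ (B x a • b) + B (g x - x) b := fun x => by
      rw [hPapp]
      congr 1
      refine lam_ext hM.lam_ne fun k => ?_
      rw [hξb, hξb, map_smul, LinearMap.smul_apply, ha'a, smul_eq_mul, mul_one]
    have huline : ∀ k : K, u (k • a) = k • a := fun k => by
      rw [hux]; simp [hs, hab]
    have hP : P ∈ hM.Tor hs := by
      refine ⟨(u * g)⁻¹ * (g * u), mul_mem (inv_mem (mul_mem hu hg)) (mul_mem hg hu), fun x => ?_⟩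
      apply (u * g).injective
      show (u * g) ((u * g).symm (g (u x))) = u (g (x + P (B x a) • a))
      rw [LinearEquiv.apply_symm_apply, map_add g, map_add u, hline, huline, hPx, hux x, hux (g x),
        hξa]
      simp only [map_add, map_sub, hline, map_smul, LinearMap.sub_apply]
      rw [hφ (B x a • b) (by rw [map_smul, LinearMap.smul_apply, hb, smul_zero])]
      module
    have h0 := LinearMap.congr_fun (hT P hP) α₀
    rw [hPapp, LinearMap.zero_apply] at h0
    have h1 := hξb (α₀ • a') k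
    rw [show B (α₀ • a') a = α₀ by simp [ha'a],
      eq_neg_of_add_eq_zero_right h0, mul_neg, map_neg, neg_inj] at h1
    exact h1
  refine lam_ext hM.lam_ne fun k => ?_
  have h1 := key x hx k l
  have h2 := key (l • x) (by rw [map_smul, LinearMap.smul_apply, hx, smul_zero]) k 1
  rw [one_smul, one_mul, smul_smul] at h2
  have h3 := key x hx 1 (k * l)
  rw [one_mul, one_smul] at h3
  rw [h2, h3, mul_assoc]

/-- When `T` is zero the elements fixing the line are semilinear on it. -/
theorem semi_of_tor_zero (hM : OrCore B lam M) {a : V} (ha : a ≠ 0) (hs : B a a = 0)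
    (hT : ∀ P ∈ hM.Tor hs, P = 0) {y : V} (hya : B y a = 0) (hyy : B y y ≠ 0) {h : V ≃ₗ[F] V}
    (hh : h ∈ M) {Q : Module.End F K} (hQ : MapsBy h a Q) :
    ∀ k : K, ∃ k' : K, ∀ l, Q (k * l) = k' * Q l := by
  classical
  haveI : Module.Finite F V := Module.Finite.of_finite
  haveI : Module.Finite F K := Module.Finite.of_finite
  haveI : Module.Finite K V := Module.Finite.of_finite
  have hhi : ∀ x, h (h⁻¹ x) = x := fun x => h.apply_symm_apply x
  have hih : ∀ x, h⁻¹ (h x) = x := fun x => h.symm_apply_apply x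
  have hperp : ∀ x, B x a = 0 → B (h x) a = 0 := fun x hx => by
    refine lam_ext hM.lam_ne fun k => ?_
    obtain ⟨Q', -, -, hQQ'⟩ := hQ.symm ha
    rw [mul_zero, map_zero, ← smul_eq_mul, ← map_smul, ← hQQ' k, ← hQ, hM.pres h hh, map_smul,
      hx, smul_zero, map_zero]
  have hperp' : ∀ x, B x a = 0 → B (h⁻¹ x) a = 0 := fun x hx => by
    refine lam_ext hM.lam_ne fun k => ?_
    rw [mul_zero, map_zero, ← smul_eq_mul, ← map_smul, ← hM.pres h hh, hhi, hQ, map_smul, hx,
      smul_zero, map_zero]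
  set H : Submodule F V := LinearMap.ker ((B.flip a).restrictScalars F) with hH
  have memH : ∀ {x}, x ∈ H ↔ B x a = 0 := fun {x} => Iff.rfl
  let φ : V → (V →ₗ[F] K) := fun c =>
    -(Q ∘ₗ ((B.flip c).restrictScalars F) ∘ₗ ((h⁻¹ : V ≃ₗ[F] V) : V →ₗ[F] V))
  have hφx : ∀ c x, φ c x = -Q (B (h⁻¹ x) c) := fun c x => rfl
  have hlin : ∀ c, B c a = 0 → ∀ x, B x a = 0 → ∀ l : K, φ c (l • x) = l * φ c x := by
    intro c hc x hx l
    have hac : B a c = 0 := by rw [hM.symm, hc]
    obtain ⟨u, hu, hux⟩ := hM.siegel_mem hs hac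
    refine hM.comm_linear ha hs hT (mul_mem (mul_mem hh hu) (inv_mem hh)) (fun k => ?_) (φ c)
      (fun y hy => ?_) hx l
    · obtain ⟨Q', hQ', -, hQQ'⟩ := hQ.symm ha
      show h (u (h⁻¹ (k • a))) = _
      have hfix : u (h⁻¹ (k • a)) = h⁻¹ (k • a) := by
        rw [hQ', hux]; simp [hs, hac]
      rw [hfix, hhi]
    · show h (u (h⁻¹ y)) = _
      rw [hux, hperp' y hy, mul_zero, zero_smul, add_zero, zero_smul, sub_zero, map_sub, hhi, hQ,
        hφx, neg_smul, sub_eq_add_neg]
  -- every functional of the perpendicular space comes up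
  let Γ : H →ₗ[F] H →ₗ[F] K := LinearMap.mk₂ F (fun c x => φ c x)
    (fun c c' x => by
      simp only [hφx, Submodule.coe_add, map_add]; abel)
    (fun t c x => by
      simp only [hφx, Submodule.coe_smul, LinearMap.map_smul_of_tower, map_smul, smul_neg])
    (fun c x x' => by simp only [Submodule.coe_add, map_add])
    (fun t c x => by simp only [Submodule.coe_smul, map_smul])
  let Δ : H →ₗ[F] H →ₗ[F] K := LinearMap.mk₂ F (fun c x => B (x : V) (c : V))
    (fun c c' x => by simp [map_add]) (fun t c x => by simp [LinearMap.map_smul_of_tower])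
    (fun c x x' => by simp [map_add]) (fun t c x => by simp [LinearMap.map_smul_of_tower])
  have hQinj : Function.Injective Q := fun k l hkl => smul_inj ha (h.injective (by rw [hQ, hQ, hkl]))
  have hkerc : ∀ c : V, B c a = 0 → (∀ x, B x a = 0 → B x c = 0) → c ∈ line F K a := by
    intro c hc hall
    by_contra hcl
    obtain ⟨u, hau, hcu⟩ := hM.exists_perp (a := a) (x := c) (fun h => hcl (mem_line_iff_span.2 h))
    have := hall u (by rw [hM.symm, hau])
    rw [hM.symm, hcu] at this
    exact one_ne_zero this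
  have hkerΔ : LinearMap.ker Δ = LinearMap.ker Γ := by
    ext ⟨c, hc⟩
    simp only [LinearMap.mem_ker, LinearMap.ext_iff, LinearMap.zero_apply]
    constructor
    · intro h0 x
      have h1 : B (h⁻¹ (x : V)) c = 0 := h0 ⟨_, hperp' _ x.2⟩
      show φ c x = 0
      rw [hφx, h1, map_zero, neg_zero]
    · intro h0 x
      have h1 : φ c (h x) = 0 := h0 ⟨_, hperp _ x.2⟩
      rw [hφx, hih, neg_eq_zero, ← map_zero Q] at h1
      exact hQinj h1
  have hle : LinearMap.range Γ ≤ LinearMap.range Δ := by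
    rintro _ ⟨⟨c, hc⟩, rfl⟩
    let ψ₀ : LinearMap.ker (B.flip a) →ₗ[K] K :=
      { toFun := fun x => φ c x
        map_add' := fun x y => by simp
        map_smul' := fun l x => hlin c hc x x.2 l }
    obtain ⟨ψ, hψ⟩ := LinearMap.exists_extend ψ₀
    obtain ⟨u, hu⟩ := hM.exists_fun ψ
    have hψx : ∀ x, B x a = 0 → B x u = φ c x := fun x hx => by
      rw [hu]; exact LinearMap.congr_fun hψ ⟨x, hx⟩
    have hua : B u a = 0 := by
      obtain ⟨Q', hQ', -, -⟩ := hQ.symm ha
      rw [hM.symm, hψx a hs, hφx]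
      have h1 := hQ' 1
      rw [one_smul] at h1
      rw [h1, map_smul, LinearMap.smul_apply, hM.symm a c, (show B c a = 0 from hc), smul_zero, map_zero, neg_zero]
    exact ⟨⟨u, hua⟩, LinearMap.ext fun x => hψx x x.2⟩
  have hsurj : LinearMap.range Γ = LinearMap.range Δ := by
    refine Submodule.eq_of_le_of_finrank_eq hle ?_
    have h1 := LinearMap.finrank_range_add_finrank_ker Γ
    have h2 := LinearMap.finrank_range_add_finrank_ker Δ
    rw [hkerΔ] at h2
    omega
  -- hence `Q` is semilinear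
  obtain ⟨a', haa', ha'a, hs'⟩ := hM.exists_partner ha hs
  have hly : ∀ l : K, B (l • y) a = 0 := fun l => by
    rw [map_smul, LinearMap.smul_apply, hya, smul_zero]
  have hzero : ∀ c', B c' a = 0 → B (h y) c' = 0 → ∀ l : K, B (h (l • y)) c' = 0 := by
    intro c' hc' h0 l
    obtain ⟨⟨c, hc⟩, hcΓ⟩ : Δ ⟨c', hc'⟩ ∈ LinearMap.range Γ := by rw [hsurj]; exact ⟨_, rfl⟩
    have e1 : φ c (h y) = B (h y) c' := LinearMap.congr_fun hcΓ ⟨h y, hperp y hya⟩
    have e2 : φ c (h (l • y)) = B (h (l • y)) c' :=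
      LinearMap.congr_fun hcΓ ⟨h (l • y), hperp _ (hly l)⟩
    rw [hφx, hih, h0, neg_eq_zero, ← map_zero Q] at e1
    have e3 := hQinj e1
    rw [← e2, hφx, hih, map_smul, LinearMap.smul_apply, e3, smul_zero, map_zero, neg_zero]
  have hrep : ∀ k : K, ∃ c', B c' a = 0 ∧ ∀ l : K, B (h (l • y)) c' = -Q (l * k) := by
    intro k
    have hc : B ((k / B y y) • y) a = 0 := hly _
    obtain ⟨⟨c', hc'⟩, hcΔ⟩ := hle ⟨⟨(k / B y y) • y, hc⟩, rfl⟩
    refine ⟨c', hc', fun l => ?_⟩
    have e : B (h (l • y)) c' = φ ((k / B y y) • y) (h (l • y)) :=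
      LinearMap.congr_fun hcΔ ⟨h (l • y), hperp _ (hly l)⟩
    rw [e, hφx, hih]
    simp only [map_smul, LinearMap.smul_apply, smul_eq_mul]
    congr 2
    field_simp
  have hsemi : ∀ k : K, ∃ k' : K, ∀ l, Q (k * l) = k' * Q l := by
    intro k
    refine ⟨Q k / Q 1, fun l => ?_⟩
    obtain ⟨c₁, hc₁, h₁⟩ := hrep 1
    obtain ⟨c₂, hc₂, h₂⟩ := hrep l
    have e₁ := h₁ k
    rw [mul_one] at e₁
    have e₂ := h₁ 1
    rw [mul_one, one_smul] at e₂
    have e₃ := h₂ 1
    rw [one_mul, one_smul] at e₃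
    have hQ1 : Q 1 ≠ 0 := fun h0 => one_ne_zero (hQinj (h0.trans (map_zero Q).symm))
    have h3 := hzero (Q 1 • c₂ - Q l • c₁) (by simp [hc₁, hc₂]) (by
      simp only [map_sub, map_smul, smul_eq_mul, e₂, e₃]; ring) k
    simp only [map_sub, map_smul, smul_eq_mul, e₁, h₂] at h3
    field_simp
    linear_combination -h3
  exact hsemi

/-- All alternating maps lie in `T`. -/
theorem wedge_mem_of (hM : OrCore B lam M) {a : V} (ha : a ≠ 0) (hs : B a a = 0)
    (hne : ∃ P ∈ hM.Tor hs, P ≠ 0)
    (hsm : ∀ (t : F) {P : Module.End F K}, P ∈ hM.Tor hs → t • P ∈ hM.Tor hs)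
    (htr : ∀ {η v : K}, η ≠ 0 → lam (η * v) = 0 → Trs lam M a η v) (k l : K) :
    Wg lam k l ∈ hM.Tor hs := by
  haveI : Module.Finite F K := Module.Finite.of_finite
  obtain ⟨P, hP, hP0⟩ := hne
  rcases (by have := hM.deg.two_le; omega : finrank F K = 2 ∨ 3 ≤ finrank F K) with hr | hr
  · -- there is only one alternating map up to scalars
    let b := Module.finBasisOfFinrankEq F K hr
    have hsk : ∀ S : Module.End F K, (∀ k l, lam (S k * l) = -lam (k * S l)) →
        lam (S (b 0) * b 1) = 0 → S = 0 := by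
      intro S hS h01
      have h2F : (2 : F) ≠ 0 := fun h => hM.two (by
        rw [← map_ofNat (algebraMap F K) 2, h, map_zero])
      have hdiag : ∀ k, lam (S k * k) = 0 := fun k => by
        have := hS k k
        rw [mul_comm k] at this
        have h' : (2 : F) * lam (S k * k) = 0 := by linear_combination this
        exact (mul_eq_zero.1 h').resolve_left h2F
      have h10 : lam (S (b 1) * b 0) = 0 := by
        rw [hS, mul_comm, h01, neg_zero]
      refine b.ext fun i => lam_ext hM.lam_ne fun k => ?_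
      rw [LinearMap.zero_apply, mul_zero, map_zero]
      let χ : Dual F K := lam ∘ₗ mulL F (S (b i))
      have hχ : χ = 0 := b.ext fun j => by
        show lam (S (b i) * b j) = 0
        fin_cases i <;> fin_cases j
        · exact hdiag _
        · exact h01
        · exact h10
        · exact hdiag _
      rw [mul_comm]
      exact LinearMap.congr_fun hχ k
    have hc : lam (P (b 0) * b 1) ≠ 0 := fun h => hP0 (hsk P (hM.skew_of_mem ha hs hP) h)
    have h1 : Wg lam k l - (lam (Wg lam k l (b 0) * b 1) / lam (P (b 0) * b 1)) • P = 0 := by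
      refine hsk _ (fun x y => ?_) ?_
      · simp only [LinearMap.sub_apply, LinearMap.smul_apply, sub_mul, mul_sub, smul_mul_assoc,
          mul_smul_comm, map_sub, map_smul, smul_eq_mul, Wg_skew k l x y,
          hM.skew_of_mem ha hs hP x y]
        ring
      · simp only [LinearMap.sub_apply, LinearMap.smul_apply, sub_mul, smul_mul_assoc, map_sub,
          map_smul, smul_eq_mul, div_mul_cancel₀ _ hc, sub_self]
    rw [sub_eq_zero] at h1
    rw [h1]
    exact hsm _ hP
  -- moving wedges by transvections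
  have hmove : ∀ {η v : K}, η ≠ 0 → lam (η * v) = 0 → ∀ x y, Wg lam x y ∈ hM.Tor hs →
      Wg lam (x + lam (η * x) • v) (y + lam (η * y) • v) ∈ hM.Tor hs := by
    intro η v hη hv x y hxy
    obtain ⟨g, hg, hgQ⟩ := htr hη hv
    convert hM.mem_conj hs hg hgQ (R := 1 + (lam ∘ₗ mulL F v).smulRight η) (fun k α => ?_) hxy
      using 1
    · refine LinearMap.ext fun α => ?_
      simp only [LinearMap.comp_apply, LinearMap.add_apply, Module.End.one_apply,
        LinearMap.smulRight_apply, LinearMap.mulLeft_apply, Wg_apply, mul_add, add_mul,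
        mul_smul_comm, smul_mul_assoc, map_add, map_sub, map_smul, smul_eq_mul, mul_sub]
      rw [mul_comm x η, mul_comm y η]
      module
    · simp only [LinearMap.add_apply, Module.End.one_apply, LinearMap.smulRight_apply,
        LinearMap.comp_apply, LinearMap.mulLeft_apply, add_mul, mul_add, smul_mul_assoc,
        mul_smul_comm, map_add, map_smul, smul_eq_mul]
      rw [mul_comm η k]
      ring
  have hadd : ∀ x x' y, Wg lam (x + x') y = Wg lam x y + Wg lam x' y := fun x x' y =>
    LinearMap.ext fun α => by simp [Wg_apply, add_mul, map_add, add_smul]; abel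
  have hsmul : ∀ (t : F) x y, Wg lam (t • x) y = t • Wg lam x y := fun t x y =>
    LinearMap.ext fun α => by simp [Wg_apply, smul_sub, smul_smul]; ring_nf
  have hswap : ∀ x y, Wg lam x y = -Wg lam y x := fun x y =>
    LinearMap.ext fun α => by simp [Wg_apply]
  -- a first family
  obtain ⟨η, hη⟩ : ∃ η, P η ≠ 0 := by
    by_contra h
    push Not at h
    exact hP0 (LinearMap.ext h)
  have hη0 : η ≠ 0 := fun h => hη (by rw [h, map_zero])
  set p := P η with hp
  have hpη : lam (η * p) = 0 := by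
    have h2F : (2 : F) ≠ 0 := fun h => hM.two (by
      rw [← map_ofNat (algebraMap F K) 2, h, map_zero])
    have := hM.skew_of_mem ha hs hP η η
    rw [← hp, mul_comm p] at this
    have h' : (2 : F) * lam (η * p) = 0 := by linear_combination this
    exact (mul_eq_zero.1 h').resolve_left h2F
  have hfirst : ∀ v, lam (η * v) = 0 → Wg lam v p ∈ hM.Tor hs := by
    intro v hv
    obtain ⟨g, hg, hgQ⟩ := htr hη0 hv
    have h := (hM.Tor hs).sub_mem (hM.mem_conj hs hg hgQ (R := 1 + (lam ∘ₗ mulL F v).smulRight η)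
      (fun k α => by
        simp only [LinearMap.add_apply, Module.End.one_apply, LinearMap.smulRight_apply,
          LinearMap.comp_apply, LinearMap.mulLeft_apply, add_mul, mul_add, smul_mul_assoc,
          mul_smul_comm, map_add, map_smul, smul_eq_mul]
        rw [mul_comm η k]
        ring) hP) hP
    convert h using 1
    refine LinearMap.ext fun α => ?_
    have e1 : lam (η * P α) = -lam (p * α) := by
      rw [hp]
      linear_combination hM.skew_of_mem ha hs hP η α
    simp only [LinearMap.sub_apply, LinearMap.comp_apply, LinearMap.add_apply, Module.End.one_apply,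
      LinearMap.smulRight_apply, LinearMap.mulLeft_apply, Wg_apply, mul_add, mul_smul_comm, map_add,
      map_smul, smul_eq_mul, ← hp, hpη, e1, mul_zero, add_zero]
    module
  have hdim : ∀ χ : Dual F K, χ ≠ 0 → finrank F (LinearMap.ker χ) + 1 = finrank F K := by
    intro χ hχ
    have h1 := LinearMap.finrank_range_add_finrank_ker χ
    rw [LinearMap.range_eq_top.2 (LinearMap.surjective hχ), finrank_top, Module.finrank_self] at h1
    omega
  set χ : Dual F K := lam ∘ₗ mulL F η
  have hχ0 : χ ≠ 0 := fun h => by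
    obtain ⟨e, he⟩ := lam_ne_zero hM.lam_ne hη0
    exact he (by rw [mul_comm]; exact LinearMap.congr_fun h e)
  obtain ⟨v, hv, hvp⟩ : ∃ v, lam (η * v) = 0 ∧ v ∉ F ∙ p := by
    by_contra h
    push Not at h
    have hle : LinearMap.ker χ ≤ F ∙ p := fun x hx => h x hx
    have h1 := Submodule.finrank_mono hle
    rw [finrank_span_singleton hη] at h1
    have := hdim χ hχ0
    omega
  obtain ⟨ω, hωv, hωp⟩ := Submodule.exists_dual_map_eq_bot_of_notMem hvp inferInstance
  have hωp' : ω p = 0 := by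
    have := Submodule.mem_map_of_mem (f := ω) (Submodule.mem_span_singleton_self (R := F) p)
    rwa [hωp, Submodule.mem_bot] at this
  obtain ⟨η', hη'⟩ := lam_repr hM.lam_ne ω
  have hη'0 : η' ≠ 0 := fun h => hωv (by rw [hη', h, zero_mul, map_zero])
  obtain ⟨w, hw, hwη⟩ : ∃ w, ω w = 0 ∧ lam (η * w) ≠ 0 := by
    by_contra h
    push Not at h
    have hle : LinearMap.ker ω ≤ LinearMap.ker χ := fun x hx => h x hx
    have hω0 : ω ≠ 0 := fun h' => hωv (by rw [h']; rfl)
    have h1 := Submodule.eq_of_le_of_finrank_eq hle (by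
      have := hdim χ hχ0; have := hdim ω hω0; omega)
    exact hωv (show v ∈ LinearMap.ker ω by rw [h1]; exact hv)
  have hwp : Wg lam w p ∈ hM.Tor hs := by
    have h1 := hmove hη'0 (v := w) (by rw [← hη', hw]) _ _ (hfirst v hv)
    rw [← hη', ← hη', hωp', zero_smul, add_zero, hadd, hsmul] at h1
    have h2 := hsm (ω v)⁻¹ ((hM.Tor hs).sub_mem h1 (hfirst v hv))
    rwa [add_sub_cancel_left, smul_smul, inv_mul_cancel₀ hωv, one_smul] at h2
  have hall : ∀ x, Wg lam x p ∈ hM.Tor hs := by
    intro x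
    set t := lam (η * x) / lam (η * w)
    have h1 : x = t • w + (x - t • w) := by abel
    rw [h1, hadd, hsmul]
    refine (hM.Tor hs).add_mem (hsm _ hwp) (hfirst _ ?_)
    rw [mul_sub, map_sub, mul_smul_comm, map_smul, smul_eq_mul, div_mul_cancel₀ _ hwη, sub_self]
  by_cases hl : l ∈ F ∙ p
  · obtain ⟨t, rfl⟩ := Submodule.mem_span_singleton.1 hl
    rw [hswap, hsmul]
    refine (hM.Tor hs).neg_mem (hsm _ ?_)
    rw [hswap]
    exact (hM.Tor hs).neg_mem (hall k)
  have hpl : p ∉ F ∙ (l - p) := fun h => by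
    obtain ⟨t, ht⟩ := Submodule.mem_span_singleton.1 h
    by_cases ht0 : t = 0
    · exact hη (by rw [← ht, ht0, zero_smul])
    · refine hl (Submodule.mem_span_singleton.2 ⟨1 + t⁻¹, ?_⟩)
      rw [add_smul, one_smul]
      conv_lhs => arg 2; rw [← ht]
      rw [inv_smul_smul₀ ht0, add_sub_cancel]
  obtain ⟨ω', hω'p, hω'⟩ := Submodule.exists_dual_map_eq_bot_of_notMem hpl inferInstance
  obtain ⟨η'', hη''⟩ := lam_repr hM.lam_ne ((ω' p)⁻¹ • ω')
  have e1 : lam (η'' * p) = 1 := by
    rw [← hη'', LinearMap.smul_apply, smul_eq_mul, inv_mul_cancel₀ hω'p]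
  have e2 : lam (η'' * (l - p)) = 0 := by
    have h0 : ω' (l - p) = 0 := by
      have := Submodule.mem_map_of_mem (f := ω') (Submodule.mem_span_singleton_self (R := F) (l - p))
      rwa [hω', Submodule.mem_bot] at this
    rw [← hη'', LinearMap.smul_apply, h0, smul_zero]
  have h1 := hmove (η := η'') (v := l - p) (fun h => by rw [h, zero_mul, map_zero] at e1; exact zero_ne_one e1)
    e2 _ _ (hall (k - lam (η'' * k) • (l - p)))
  rwa [mul_sub η'' k, mul_smul_comm, map_sub, map_smul, e1, e2, smul_zero, sub_zero, sub_add_cancel,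
    one_smul, add_sub_cancel] at h1

end OrCore

namespace OrOvergroup

lemma mem_smul (hM : OrOvergroup B lam M) {a : V} (ha : a ≠ 0) (hs : B a a = 0) (t : F)
    {P : Module.End F K} (hP : P ∈ hM.Tor hs) : t • P ∈ hM.Tor hs := by
  refine mem_of_sq_smul_mem _ (fun s Q hQ => ?_) t hP
  by_cases hs0 : s = 0
  · simp [hs0, zero_mem]
  obtain ⟨g, hg, -, hge⟩ := hM.exists_scalar ha hs (e := algebraMap F K s) (by simpa using hs0)
  convert hM.mem_conj hs hg hge (R := mulL F (algebraMap F K s))
    (fun k α => by simp only [LinearMap.mulLeft_apply]; ring_nf) hQ using 1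
  refine LinearMap.ext fun x => ?_
  simp [← Algebra.smul_def, smul_smul]

/-- A member of `T` other than zero. -/
lemma exists_ne_zero (hM : OrOvergroup B lam M) {a : V} (ha : a ≠ 0) (hs : B a a = 0)
    (htr : ∀ {η v : K}, η ≠ 0 → lam (η * v) = 0 → Trs lam M a η v) :
    ∃ P ∈ hM.Tor hs, P ≠ 0 := by
  classical
  by_contra hT
  push Not at hT
  haveI : Module.Finite F V := Module.Finite.of_finite
  haveI : Module.Finite F K := Module.Finite.of_finite
  haveI : Module.Finite K V := Module.Finite.of_finite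
  obtain ⟨v, hv, hv0⟩ : ∃ v ∈ LinearMap.ker lam, v ≠ 0 := by
    refine (Submodule.ne_bot_iff _).1 (LinearMap.ker_ne_bot_of_finrank_lt ?_)
    rw [Module.finrank_self]
    exact hM.deg.one_lt
  rw [LinearMap.mem_ker] at hv
  obtain ⟨h, hh, hQ⟩ := htr one_ne_zero (v := v) (by rw [one_mul, hv])
  set Q : Module.End F K := 1 + (lam ∘ₗ mulL F 1).smulRight v with hQdef
  have hQx : ∀ l, Q l = l + lam l • v := fun l => by simp [hQdef]
  obtain ⟨a', haa', ha'a, hs'⟩ := hM.exists_partner ha hs
  obtain ⟨y, hy, hyy⟩ := hM.exists_norm (perpK B a a')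
    (by have := finrank_perpK B a a'; have := hM.dim; omega)
    (hM.perp_nondeg hs hs' (by rw [haa']; exact one_ne_zero)) 1
  have hsemi := hM.semi_of_tor_zero ha hs hT (y := y) (by rw [hM.symm]; exact (mem_perpK.1 hy).1)
    (by rw [hyy]; exact one_ne_zero) hh hQ
  have hQinj : Function.Injective Q := fun k l hkl => smul_inj ha (h.injective (by rw [hQ, hQ, hkl]))
  have hP2 : ∀ l, Q (Q l) - 2 * Q l + l = 0 := fun l => by
    rw [hQx (Q l), hQx l, map_add, map_smul, hv, smul_zero, add_zero]
    ring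
  have hP1 : Q 1 ≠ 0 := fun h0 => one_ne_zero (hQinj (h0.trans (map_zero Q).symm))
  rcases semilinear_fix hM.deg Q hsemi hP2 hP1 with h1 | ⟨h2, -⟩
  · obtain ⟨k, hk⟩ := lam_ne_zero hM.lam_ne (one_ne_zero (α := K))
    have h3 : Q k = k := by rw [h1]; rfl
    rw [hQx, add_eq_left, smul_eq_zero] at h3
    exact hv0 (h3.resolve_left (by simpa using hk))
  · exact hM.two h2

/-- All alternating maps lie in `T`. -/
theorem wedge_mem (hM : OrOvergroup B lam M) {a : V} (ha : a ≠ 0) (hs : B a a = 0)
    (htr : ∀ {η v : K}, η ≠ 0 → lam (η * v) = 0 → Trs lam M a η v) (k l : K) :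
    Wg lam k l ∈ hM.Tor hs :=
  hM.wedge_mem_of ha hs (hM.exists_ne_zero ha hs htr) (fun t _ hP => hM.mem_smul ha hs t hP) htr k l

/-- If two images of a singular line meet properly, all root elements of the line lie in `M`. -/
theorem roots_of_meet (hM : OrOvergroup B lam M) {a : V} (ha : a ≠ 0) (hs : B a a = 0)
    (hbad : ∃ g ∈ M, img K a g ≠ line F K a ∧ img K a g ⊓ line F K a ≠ ⊥) (k l : K) :
    ∃ g ∈ M, ∀ x, g x = x + lam (B x (k • a)) • (l • a) - lam (B x (l • a)) • (k • a) := by
  obtain ⟨g, hg, hgx⟩ := hM.wedge_mem ha hs (fun {η v} hη hv => hM.trs_of_meet ha hs hbad hη hv) k l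
  refine ⟨g, hg, fun x => ?_⟩
  rw [hgx, Wg_apply, sub_smul, smul_assoc, smul_assoc, map_smul (B x), map_smul (B x), smul_eq_mul, smul_eq_mul,
    add_sub_assoc]

end OrOvergroup

end Cfsg.Agent.FieldExtMax
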