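/-
An orthogonal overgroup whose singular lines have disjoint images normalises the field.

Main results: `OrOvergroup.singular_img`, `OrOvergroup.norms_of_good`,
`OrOvergroup.norms_or_roots`.
-/
import Cfsg.Agent.Lib.FieldExtMax.OrRoots

set_option autoImplicit false
set_option linter.unusedSectionVars false

namespace Cfsg.Agent.FieldExtMax

open Module

variable {F K V : Type*} [Field F] [Finite F] [Field K] [Finite K] [Algebra F K]
  [AddCommGroup V] [Module F V] [Module K V] [IsScalarTower F K V] [Finite V]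
variable {B : V →ₗ[K] V →ₗ[K] K} {lam : Dual F K} {M : Subgroup (V ≃ₗ[F] V)}

namespace OrOvergroup

/-- A singular vector with non-zero product with two given singular vectors. -/
lemma exists_common_ne (hM : OrOvergroup B lam M) {a b : V} (ha : a ≠ 0) (hs : B a a = 0)
    (hb : b ≠ 0) (hs' : B b b = 0) : ∃ c, B c c = 0 ∧ B a c ≠ 0 ∧ B b c ≠ 0 := by
  by_cases hab : B a b = 0
  · by_cases hin : b ∈ K ∙ a
    · obtain ⟨k, rfl⟩ := Submodule.mem_span_singleton.1 hin
      have hk : k ≠ 0 := fun h => hb (by rw [h, zero_smul])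
      obtain ⟨a', h1, -, h3⟩ := hM.exists_partner ha hs
      exact ⟨a', h3, by simp [h1], by simp [h1, hk]⟩
    · obtain ⟨u, hau, hbu⟩ := hM.exists_perp hin
      obtain ⟨v, hbv, hav⟩ := hM.exists_perp (a := b) (x := a) fun h => by
        obtain ⟨k, hk⟩ := Submodule.mem_span_singleton.1 h
        have hk0 : k ≠ 0 := fun h => ha (by rw [← hk, h, zero_smul])
        exact hin (Submodule.mem_span_singleton.2 ⟨k⁻¹, by rw [← hk, inv_smul_smul₀ hk0]⟩)
      set w := u + v
      refine ⟨w - ((2 : K)⁻¹ * B w w) • a, ?_, ?_, ?_⟩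
      · have hwa : B w a = 1 := by
          rw [hM.symm]; simp [w, hau, hav]
        simp only [map_sub, map_smul, LinearMap.sub_apply, LinearMap.smul_apply, smul_eq_mul, hs,
          hM.symm a w, hwa]
        linear_combination -(B w w) * hM.half
      · simp [w, hau, hav, hs]
      · simp [w, hbu, hbv, hM.symm b a, hab]
  · obtain ⟨c, h1, h2, h3⟩ := hM.exists_common hs hs' hab
    exact ⟨c, h1, by simp [h2], by simp [h3]⟩

/-- With disjoint images, singular lines go to singular lines. -/
theorem singular_img (hM : OrOvergroup B lam M)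
    (hgood : ∀ a : V, a ≠ 0 → B a a = 0 → ∀ g ∈ M, img K a g ≠ line F K a →
      img K a g ⊓ line F K a = ⊥)
    {a : V} (ha : a ≠ 0) (hs : B a a = 0) {g : V ≃ₗ[F] V} (hg : g ∈ M) :
    ∃ c, c ≠ 0 ∧ B c c = 0 ∧ img K a g = line F K c := by
  classical
  haveI : Module.Finite F V := Module.Finite.of_finite
  haveI : Module.Finite F K := Module.Finite.of_finite
  haveI : Module.Finite K V := Module.Finite.of_finite
  -- images through a common vector agree
  have hsame : ∀ {a : V}, a ≠ 0 → B a a = 0 → ∀ {g h : V ≃ₗ[F] V}, g ∈ M → h ∈ M → ∀ {x : V},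
      x ≠ 0 → x ∈ img K a g → x ∈ img K a h → img K a g = img K a h := by
    intro a ha hs g h hg hh x hx0 hxg hxh
    by_contra hne
    have h1 : img K a (h⁻¹ * g) ≠ line F K a := fun he => hne (by
      have := congrArg (Submodule.map (h : V →ₗ[F] V)) he
      rw [← img_mul, mul_inv_cancel_left] at this
      exact this)
    have h2 := finrank_img_inf (F := F) (K := K) a g h
    rw [hgood a ha hs _ (mul_mem (inv_mem hh) hg) h1, finrank_bot] at h2
    have h3 : x ∈ img K a g ⊓ img K a h := ⟨hxg, hxh⟩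
    rw [Submodule.finrank_eq_zero.1 h2] at h3
    exact hx0 h3
  by_cases hsing : ∃ x ∈ img K a g, x ≠ 0 ∧ B x x = 0
  · obtain ⟨x, hx, hx0, hxs⟩ := hsing
    obtain ⟨h, hh, hhl, -, hha⟩ := hM.exists_move ha hs hx0 hxs
    refine ⟨x, hx0, hxs, ?_⟩
    have hline : img K a h = line F K x := by
      ext y
      constructor
      · rintro ⟨z, hz, rfl⟩
        obtain ⟨k, rfl⟩ := mem_line.1 hz
        exact mem_line.2 ⟨k, by show k • x = h (k • a); rw [hhl, hha]⟩
      · intro hy
        obtain ⟨k, rfl⟩ := mem_line.1 hy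
        exact ⟨k • a, mem_line.2 ⟨k, rfl⟩, by show h (k • a) = k • x; rw [hhl, hha]⟩
    rw [← hline]
    exact hsame ha hs hg hh hx0 hx (by rw [hline]; exact mem_line.2 ⟨1, one_smul _ _⟩)
  exfalso
  push Not at hsing
  set L' := img K a g with hL'
  set x := g a with hxdef
  have hx : x ∈ L' := ⟨a, mem_line.2 ⟨1, one_smul _ _⟩, rfl⟩
  have hx0 : x ≠ 0 := fun h => ha ((LinearEquiv.map_eq_zero_iff _).1 h)
  have hxx : B x x ≠ 0 := hsing x hx hx0
  obtain ⟨a₀, ha₀, hs₀, hxa₀⟩ := hM.exists_singular_perp hxx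
  obtain ⟨h₀, hh₀, hl₀, -, he₀⟩ := hM.exists_move ha₀ hs₀ ha hs
  have himg : img K a₀ (g * h₀) = L' := by
    rw [img_mul]
    show _ = (line F K a).map (g : V →ₗ[F] V)
    congr 1
    ext y
    constructor
    · rintro ⟨z, hz, rfl⟩
      obtain ⟨k, rfl⟩ := mem_line.1 hz
      exact mem_line.2 ⟨k, by show k • a = h₀ (k • a₀); rw [hl₀, he₀]⟩
    · intro hy
      obtain ⟨k, rfl⟩ := mem_line.1 hy
      exact ⟨k • a₀, mem_line.2 ⟨k, rfl⟩, by show h₀ (k • a₀) = k • a; rw [hl₀, he₀]⟩
  have hgh : g * h₀ ∈ M := mul_mem hg hh₀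
  have hfix : ∀ u ∈ M, u x = x → ∀ y ∈ L', u y ∈ L' := by
    intro u hu hux y hy
    have h1 : img K a₀ (u * (g * h₀)) = img K a₀ (g * h₀) :=
      hsame ha₀ hs₀ (mul_mem hu hgh) hgh hx0
        (by rw [img_mul, himg]; exact ⟨x, hx, hux⟩) (by rw [himg]; exact hx)
    rw [img_mul, himg] at h1
    rw [← h1]
    exact ⟨y, hy, rfl⟩
  have hperp : ∀ y ∈ L', B y a₀ = 0 :=
    hM.perp_of_fixed ha₀ hs₀ L' (finrank_img ha g) hxa₀ fun u hu _ hux => hfix u hu hux
  have hspan : ∀ y ∈ L', y ∈ Submodule.span K {a₀, x} := by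
    intro y hy
    by_contra hys
    obtain ⟨ψ, hψ, hψy⟩ := exists_kfun hys
    obtain ⟨b, hb⟩ := hM.exists_fun ψ
    have hab : B a₀ b = 0 := by rw [hb]; exact hψ _ (Submodule.subset_span (by simp))
    have hxb : B x b = 0 := by rw [hb]; exact hψ _ (Submodule.subset_span (by simp))
    obtain ⟨u, hu, hux⟩ := hM.siegel_mem hs₀ hab
    have hu' : u x = x := by rw [hux, hxa₀, hxb]; simp
    have h1 := L'.sub_mem (hfix u hu hu' y hy) hy
    rw [hux, hperp y hy, hb, hψy] at h1
    simp only [zero_smul, mul_zero, add_zero, sub_zero, one_smul, sub_sub_cancel_left] at h1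
    exact hsing _ h1 (neg_ne_zero.2 ha₀) (by simp [hs₀])
  have hdec : ∀ y ∈ L', ∃ k l : K, y = l • a₀ + k • x := fun y hy => by
    obtain ⟨l, k, h⟩ := Submodule.mem_span_pair.1 (hspan y hy)
    exact ⟨k, l, h.symm⟩
  let π : L' →ₗ[F] K := ((B x).restrictScalars F).comp L'.subtype
  have hπ : Function.Injective π := by
    rw [← LinearMap.ker_eq_bot, Submodule.eq_bot_iff]
    rintro ⟨y, hy⟩ hy0
    obtain ⟨k, l, rfl⟩ := hdec y hy
    have h1 : B x (l • a₀ + k • x) = 0 := hy0
    rw [map_add, map_smul, map_smul, hxa₀, smul_zero, zero_add, smul_eq_mul] at h1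
    have hk0 : k = 0 := (mul_eq_zero.1 h1).resolve_right hxx
    subst hk0
    by_contra hne
    exact hsing _ hy (fun h => hne (Subtype.ext h)) (by simp [hs₀])
  have hsurj := (LinearMap.injective_iff_surjective_of_finrank_eq_finrank (finrank_img ha g)).1 hπ
  have hsq : ∀ k : K, lam (k * k * B x x) = 0 := by
    intro k
    obtain ⟨⟨y, hy⟩, hyk⟩ := hsurj (k * B x x)
    obtain ⟨k', l, rfl⟩ := hdec y hy
    have h1 : B x (l • a₀ + k' • x) = k * B x x := hyk
    rw [map_add, map_smul, map_smul, hxa₀, smul_zero, zero_add, smul_eq_mul] at h1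
    have hk : k' = k := mul_right_cancel₀ hxx h1
    subst hk
    have h2 := hM.lam_img hs hg hy hy
    simp only [map_add, map_smul, LinearMap.add_apply, LinearMap.smul_apply, smul_eq_mul, hs₀, hxa₀,
      hM.symm a₀ x, mul_zero, zero_add, add_zero] at h2
    rw [mul_assoc]
    exact h2
  apply hxx
  refine lam_ext hM.lam_ne fun k => ?_
  rw [mul_zero, map_zero]
  have h2F : (2 : F) ≠ 0 := fun h => hM.two (by
    rw [← map_ofNat (algebraMap F K) 2, h, map_zero])
  have h1 := hsq (k + 1)
  have h2 := hsq k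
  have h3 := hsq 1
  simp only [add_mul, mul_add, one_mul, mul_one, map_add] at h1 h3
  have h4 : (2 : F) * lam (k * B x x) = 0 := by linear_combination h1 - h2 - h3
  exact (mul_eq_zero.1 h4).resolve_left h2F

/-- With disjoint images the group normalises the field. -/
theorem norms_of_good (hM : OrOvergroup B lam M)
    (hgood : ∀ a : V, a ≠ 0 → B a a = 0 → ∀ g ∈ M, img K a g ≠ line F K a →
      img K a g ⊓ line F K a = ⊥)
    {a : V} (ha : a ≠ 0) (hs : B a a = 0) {g : V ≃ₗ[F] V} (hg : g ∈ M) : Norms K g := by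
  classical
  have := hM.dim
  obtain ⟨a', haa', ha'a, hs'⟩ := hM.exists_partner ha hs
  have key : ∀ k : K, ∃ c : K, ∀ x, g (c • x) = k • g x := by
    intro k
    let J : V →ₗ[F] V := ((g⁻¹ : V ≃ₗ[F] V) : V →ₗ[F] V) ∘ₗ
      ((k • LinearMap.id : V →ₗ[K] V).restrictScalars F) ∘ₗ (g : V →ₗ[F] V)
    have hgJ : ∀ x, g (J x) = k • g x := fun x => g.apply_symm_apply _
    have heig : ∀ v, v ≠ 0 → B v v = 0 → ∃ c : K, J v = c • v := by
      intro v hv hvs
      obtain ⟨c, -, -, hc⟩ := hM.singular_img hgood hv hvs hg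
      have h1 : g v ∈ img K v g := ⟨v, mem_line.2 ⟨1, one_smul _ _⟩, rfl⟩
      rw [hc] at h1
      obtain ⟨e, he⟩ := mem_line.1 h1
      have h2 : k • g v ∈ img K v g := by
        rw [hc, ← he, smul_smul]; exact mem_line.2 ⟨_, rfl⟩
      obtain ⟨y, hy, hyg⟩ := h2
      obtain ⟨d, rfl⟩ := mem_line.1 hy
      refine ⟨d, g.injective ?_⟩
      rw [hgJ]
      exact hyg.symm
    choose! c hc using heig
    have hne : ∀ {v w : V}, B v w ≠ 0 → v ≠ 0 := fun {v w} h h0 => h (by simp [h0])
    have hpair : ∀ v w : V, B v v = 0 → B w w = 0 → B v w ≠ 0 → c v = c w := by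
      intro v w hvs hws hvw
      have hwv : B w v ≠ 0 := by rwa [hM.symm]
      obtain ⟨z, hz, hzz⟩ := hM.exists_norm (perpK B v w)
        (by have := finrank_perpK B v w; omega) (hM.perp_nondeg hvs hws hvw) (-(2 * B v w))
      rw [mem_perpK] at hz
      have hzv : B z v = 0 := by rw [hM.symm, hz.1]
      have hzw : B z w = 0 := by rw [hM.symm, hz.2]
      have hzz0 : B z z ≠ 0 := by rw [hzz]; exact neg_ne_zero.2 (mul_ne_zero hM.two hvw)
      set u := v + w + z
      set u₂ := v + w - z
      have hu : B u u = 0 := by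
        simp only [u, map_add, LinearMap.add_apply, hvs, hws, hz.1, hz.2, hzv, hzw, hzz, hM.symm w v]
        ring
      have hu₂ : B u₂ u₂ = 0 := by
        simp only [u₂, map_add, map_sub, LinearMap.add_apply, LinearMap.sub_apply, hvs, hws, hz.1,
          hz.2, hzv, hzw, hzz, hM.symm w v]
        ring
      have hu0 : u ≠ 0 := hne (w := v) (by simp [u, hvs, hzv, hwv])
      have hu₂0 : u₂ ≠ 0 := hne (w := v) (by simp [u₂, hvs, hzv, hwv])
      have hsum : J u + J u₂ = J v + J v + (J w + J w) := by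
        rw [← map_add, ← map_add, ← map_add, ← map_add]
        congr 1
        simp only [u, u₂]; abel
      rw [hc u hu0 hu, hc u₂ hu₂0 hu₂, hc v (hne hvw) hvs, hc w (hne hwv) hws] at hsum
      have e1 := congrArg (B z) hsum
      have e2 := congrArg (B v) hsum
      have e3 := congrArg (B w) hsum
      simp only [u, u₂, map_add, map_sub, map_smul, smul_eq_mul, hvs, hws, hz.1, hz.2, hzv, hzw,
        hM.symm w v] at e1 e2 e3
      have h12 : c u = c u₂ := mul_right_cancel₀ hzz0 (by linear_combination e1)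
      have h1w : c u = c w := mul_left_cancel₀ (mul_ne_zero hM.two hvw) (by
        rw [← h12] at e2; linear_combination e2)
      have h1v : c u = c v := mul_left_cancel₀ (mul_ne_zero hM.two hvw) (by
        rw [← h12] at e3; linear_combination e3)
      rw [← h1v, h1w]
    have hall : ∀ v, v ≠ 0 → B v v = 0 → c v = c a := by
      intro v hv hvs
      obtain ⟨w, hws, hvw, haw⟩ := hM.exists_common_ne hv hvs ha hs
      rw [hpair v w hvs hws hvw, hpair a w hs hws haw]
    have hsing : ∀ v, B v v = 0 → J v = c a • v := by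
      intro v hvs
      by_cases hv : v = 0
      · simp [hv]
      rw [hc v hv hvs, hall v hv hvs]
    refine ⟨c a, fun x => ?_⟩
    rw [← hgJ]
    congr 1
    set z := x - B x a' • a - B x a • a' with hz
    have hza : B a z = 0 := by
      simp only [hz, map_sub, map_smul, hs, haa', smul_eq_mul, hM.symm a x]; ring
    have hza' : B a' z = 0 := by
      simp only [hz, map_sub, map_smul, hs', ha'a, smul_eq_mul, hM.symm a' x]; ring
    set t := (2 : K)⁻¹ * B z z
    have hw : B (a + z - t • a') (a + z - t • a') = 0 := by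
      simp only [map_add, map_sub, map_smul, LinearMap.add_apply, LinearMap.sub_apply,
        LinearMap.smul_apply, smul_eq_mul, hs, hs', haa', ha'a, hza, hza', hM.symm z a, hM.symm z a']
      simp only [t]
      linear_combination -(B z z) * hM.half
    have hx : x = B x a' • a + B x a • a' + ((a + z - t • a') - a + t • a') := by
      rw [hz]; abel
    rw [hx, map_add, map_add, map_add, map_sub, hsing _ (by simp [hs]), hsing _ (by simp [hs']),
      hsing _ hw, hsing a hs, hsing _ (by simp [hs'])]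
    simp only [smul_add, smul_sub]
  choose f hf using key
  have hinj : Function.Injective f := fun k l hkl => by
    have h := (hf k a).symm.trans ((congrArg (fun e => g (e • a)) hkl).trans (hf l a))
    exact smul_inj (fun h0 => ha ((LinearEquiv.map_eq_zero_iff g).1 h0)) h
  intro k
  obtain ⟨j, rfl⟩ := Finite.surjective_of_injective hinj k
  exact ⟨j, fun x => hf j x⟩

/-- An overgroup normalises the field or contains all root elements of some singular line. -/
theorem norms_or_roots (hM : OrOvergroup B lam M) :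
    (∀ g ∈ M, Norms K g) ∨ ∃ a : V, a ≠ 0 ∧ B a a = 0 ∧ ∀ k l : K,
      ∃ g ∈ M, ∀ x, g x = x + lam (B x (k • a)) • (l • a) - lam (B x (l • a)) • (k • a) := by
  by_cases hgood : ∀ a : V, a ≠ 0 → B a a = 0 → ∀ g ∈ M, img K a g ≠ line F K a →
      img K a g ⊓ line F K a = ⊥
  · left
    obtain ⟨w, -, hwq⟩ := hM.exists_norm (⊤ : Submodule K V)
      (by rw [finrank_top]; have := hM.dim; omega)
      (fun x _ h => hM.nondeg x fun y => h y Submodule.mem_top) 1
    obtain ⟨a, ha, hs, -⟩ := hM.exists_singular_perp (x := w) (by rw [hwq]; exact one_ne_zero)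
    exact fun g hg => hM.norms_of_good hgood ha hs hg
  · push Not at hgood
    obtain ⟨a, ha, hs, g, hg, hne, hbot⟩ := hgood
    exact Or.inr ⟨a, ha, hs, fun k l => hM.roots_of_meet ha hs ⟨g, hg, hne, hbot⟩ k l⟩

end OrOvergroup

end Cfsg.Agent.FieldExtMax
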