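/-
An overgroup of the normaliser of a field of prime degree in a symplectic group normalises it or
has all symplectic transvections.

Main definitions: `STrans`.
Main results: `SpOvergroup.norms_or_strans`.
-/
import Cfsg.Agent.Lib.FieldExtMax.SpLines
import Cfsg.Agent.Lib.FieldExtMax.Main

set_option autoImplicit false
set_option linter.unusedSectionVars false

namespace Cfsg.Agent.FieldExtMax

open Module

variable {F K V : Type*} [Field F] [Finite F] [Field K] [Finite K] [Algebra F K]
  [AddCommGroup V] [Module F V] [Module K V] [IsScalarTower F K V] [Finite V]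
variable {B : V →ₗ[K] V →ₗ[K] K} {lam : Dual F K} {M : Subgroup (V ≃ₗ[F] V)}

/-- All transvections of `lam ∘ B` lie in `M`. -/
def STrans (B : V →ₗ[K] V →ₗ[K] K) (lam : Dual F K) (M : Subgroup (V ≃ₗ[F] V)) : Prop :=
  ∀ (v : V) (t : F), ∃ g ∈ M, ∀ x, g x = x + (t * lam (B x v)) • v

/-- The symmetric maps of rank at most two. -/
noncomputable def Hs (lam : Dual F K) (p p' : K) : Module.End F K :=
  (lam ∘ₗ mulL F p).smulRight p' + (lam ∘ₗ mulL F p').smulRight p

lemma Hs_apply (p p' α : K) : Hs lam p p' α = lam (p * α) • p' + lam (p' * α) • p := rfl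

/-- The symmetric map of rank one. -/
noncomputable def Cs (lam : Dual F K) (p : K) : Module.End F K := (lam ∘ₗ mulL F p).smulRight p

lemma Cs_apply (p α : K) : Cs lam p α = lam (p * α) • p := rfl

lemma SpOvergroup.mem_D (hM : SpOvergroup B lam M) {a : V} (ha : a ≠ 0)
    (htr : ∀ {η v : K}, η ≠ 0 → lam (η * v) = 0 → Trs lam M a η v) {η v : K} (hη : η ≠ 0)
    (hv : lam (η * v) = 0) (k : K) :
    Hs lam v (k * η) + lam (k * η * η) • Cs lam v ∈ Tsp B M a hM := by
  obtain ⟨g, hg, hgP⟩ := htr hη hv
  set Q : Module.End F K := 1 + (lam ∘ₗ mulL F η).smulRight v with hQ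
  set R : Module.End F K := 1 + (lam ∘ₗ mulL F v).smulRight η with hR
  have hQR : ∀ k α, lam (Q k * α) = lam (k * R α) := fun k α => by
    simp only [hQ, hR, LinearMap.add_apply, Module.End.one_apply, LinearMap.smulRight_apply,
      LinearMap.comp_apply, LinearMap.mulLeft_apply, add_mul, mul_add, smul_mul_assoc,
      mul_smul_comm, map_add, map_smul, smul_eq_mul]
    rw [mul_comm η k]
    ring
  have h := (Tsp B M a hM).sub_mem (hM.mem_conj ha hg hgP hQR (hM.mem_mulL a k)) (hM.mem_mulL a k)
  convert h using 1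
  refine LinearMap.ext fun α => ?_
  have e1 : η * (k * α) = k * η * α := by ring
  have e2 : η * (k * η) = k * η * η := by ring
  simp only [hQ, hR, LinearMap.sub_apply, LinearMap.add_apply, LinearMap.comp_apply,
    Module.End.one_apply, LinearMap.smulRight_apply, LinearMap.mulLeft_apply, LinearMap.smul_apply,
    Hs_apply, Cs_apply, mul_add, mul_smul_comm, map_add, map_smul, smul_eq_mul, e1, e2]
  module

/-- Enough transvections on the line give the rank one element. -/
lemma SpOvergroup.mem_Cs (hM : SpOvergroup B lam M) {a : V} (ha : a ≠ 0)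
    (htr : ∀ {η v : K}, η ≠ 0 → lam (η * v) = 0 → Trs lam M a η v)
    (h : (∃ t : F, t ≠ 0 ∧ t ≠ 1) ∨ 3 ≤ finrank F K) (t : F) :
    t • Cs lam (1 : K) ∈ Tsp B M a hM := by
  haveI : Module.Finite F K := Module.Finite.of_finite
  refine hM.mem_smul ha t ?_
  have hfin : ∀ {c : F}, c ≠ 0 → ∀ {P : Module.End F K}, c • P ∈ Tsp B M a hM →
      P ∈ Tsp B M a hM := fun {c} hc {P} hP => by
    simpa [smul_smul, inv_mul_cancel₀ hc] using hM.mem_smul ha c⁻¹ hP
  have hexk : ∀ η : K, η ≠ 0 → ∃ k, lam (k * η * η) ≠ 0 := fun η hη => by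
    obtain ⟨k, hk⟩ := lam_ne_zero hM.lam_ne (mul_ne_zero hη hη)
    exact ⟨k, by rwa [mul_assoc]⟩
  rcases h with ⟨s, hs0, hs1⟩ | h3
  · obtain ⟨η, hη, hη0⟩ : ∃ η ∈ LinearMap.ker lam, η ≠ 0 := by
      refine (Submodule.ne_bot_iff _).1 (LinearMap.ker_ne_bot_of_finrank_lt ?_)
      rw [Module.finrank_self]
      exact hM.deg.one_lt
    rw [LinearMap.mem_ker] at hη
    obtain ⟨k, hk⟩ := hexk η hη0
    have h1 := hM.mem_D ha htr (v := 1) hη0 (by rw [mul_one, hη]) k
    have h2 := hM.mem_D ha htr (η := s • η) (v := 1) (smul_ne_zero hs0 hη0)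
      (by rw [mul_one, map_smul, hη, smul_zero]) k
    have h3 := (Tsp B M a hM).sub_mem h2 (hM.mem_smul ha s h1)
    refine hfin (c := (s * s - s) * lam (k * η * η))
      (mul_ne_zero (sub_ne_zero.2 fun h => hs1 (mul_left_cancel₀ hs0 (by rw [mul_one]; exact h)))
        hk) ?_
    convert h3 using 1
    refine LinearMap.ext fun α => ?_
    simp only [LinearMap.sub_apply, LinearMap.add_apply, LinearMap.smul_apply, Hs_apply, Cs_apply,
      mul_smul_comm, smul_mul_assoc, map_smul, smul_eq_mul]
    module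
  · have hH : ∀ p p' : K, Hs lam p p' ∈ Tsp B M a hM := by
      intro p p'
      obtain ⟨η, hη, hη0⟩ : ∃ η ∈ LinearMap.ker ((lam ∘ₗ mulL F p).prod (lam ∘ₗ mulL F p')),
          η ≠ 0 := by
        refine (Submodule.ne_bot_iff _).1 (LinearMap.ker_ne_bot_of_finrank_lt ?_)
        rw [Module.finrank_prod, Module.finrank_self]
        omega
      rw [LinearMap.mem_ker] at hη
      obtain ⟨k, hk⟩ := hexk η hη0
      have hp : lam (η * p) = 0 := by rw [mul_comm]; exact congrArg Prod.fst hη
      have hp' : lam (η * p') = 0 := by rw [mul_comm]; exact congrArg Prod.snd hη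
      have h1 := hM.mem_D ha htr hη0 hp k
      have h2 := hM.mem_D ha htr hη0 hp' k
      have h12 := hM.mem_D ha htr (v := p + p') hη0 (by rw [mul_add, map_add, hp, hp', add_zero]) k
      refine hfin hk ?_
      convert (Tsp B M a hM).sub_mem ((Tsp B M a hM).sub_mem h12 h1) h2 using 1
      refine LinearMap.ext fun α => ?_
      simp only [LinearMap.sub_apply, LinearMap.add_apply, LinearMap.smul_apply, Hs_apply, Cs_apply,
        add_mul, map_add]
      module
    obtain ⟨η, hη, hη0⟩ : ∃ η ∈ LinearMap.ker lam, η ≠ 0 := by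
      refine (Submodule.ne_bot_iff _).1 (LinearMap.ker_ne_bot_of_finrank_lt ?_)
      rw [Module.finrank_self]
      omega
    rw [LinearMap.mem_ker] at hη
    obtain ⟨k, hk⟩ := hexk η hη0
    have h1 := hM.mem_D ha htr (v := 1) hη0 (by rw [mul_one, hη]) k
    refine hfin hk ?_
    simpa using (Tsp B M a hM).sub_mem h1 (hH 1 (k * η))

/-- One centre gives all. -/
lemma SpOvergroup.strans_of_centre (hM : SpOvergroup B lam M) {a : V} (ha : a ≠ 0)
    (h : ∀ t : F, ∃ g ∈ M, ∀ x, g x = x + (t * lam (B x a)) • a) : STrans B lam M := by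
  intro v t
  by_cases hv : v = 0
  · exact ⟨1, one_mem M, fun x => by simp [hv]⟩
  obtain ⟨g, hg, -, hga⟩ := hM.exists_move ha hv
  obtain ⟨u, hu, hux⟩ := h t
  refine ⟨g * u * g⁻¹, mul_mem (mul_mem hg hu) (inv_mem hg), fun x => ?_⟩
  have hgi : g (g⁻¹ x) = x := g.apply_symm_apply x
  show g (u (g⁻¹ x)) = _
  rw [hux, map_add, map_smul, hgi, hga, ← hM.pres g hg, hgi, hga]

/-- The case of the quadratic extension of the field with two elements. -/
lemma SpOvergroup.strans_of_two (hM : SpOvergroup B lam M) (hF : ∀ t : F, t = 0 ∨ t = 1)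
    (hr : finrank F K = 2) (hdim : 3 ≤ finrank K V) {a₁ : V} (ha₁ : a₁ ≠ 0)
    (hbad : ∃ g ∈ M, img K a₁ g ≠ line F K a₁ ∧ img K a₁ g ⊓ line F K a₁ ≠ ⊥) :
    STrans B lam M := by
  classical
  haveI : Module.Finite F K := Module.Finite.of_finite
  have h2F : (1 : F) + 1 = 0 := (hF (1 + 1)).resolve_right fun h => one_ne_zero (α := F)
    (by linear_combination h)
  have h2V : ∀ x : V, x + x = 0 := fun x => by
    rw [← one_smul F x, ← add_smul, h2F, zero_smul]
  have hFc : Nat.card F = 2 := by
    letI := Fintype.ofFinite F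
    rw [Nat.card_eq_fintype_card, ← Finset.card_univ,
      show (Finset.univ : Finset F) = {0, 1} from Finset.ext fun t => by simpa using hF t,
      Finset.card_pair zero_ne_one]
  -- transvections
  let tt : V → (V ≃ₗ[F] V) := fun v => LinearEquiv.transvection
    (f := lam ∘ₗ (B.flip v).restrictScalars F) (v := v) (by simp [hM.alt])
  have htt : ∀ v x, tt v x = x + lam (B x v) • v := fun v x => rfl
  have hinv : ∀ v, tt v * tt v = 1 := fun v => LinearEquiv.ext fun x => by
    show tt v (tt v x) = x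
    rw [htt, htt, map_add, LinearMap.map_smul_of_tower, LinearMap.add_apply, LinearMap.smul_apply,
      hM.alt, smul_zero, add_zero, add_assoc, h2V, add_zero]
  have hinv' : ∀ v, (tt v)⁻¹ = tt v := fun v => inv_eq_of_mul_eq_one_right (hinv v)
  have hconj : ∀ g ∈ M, ∀ v, g * tt v * g⁻¹ = tt (g v) := fun g hg v => LinearEquiv.ext fun x => by
    have hgi : g (g⁻¹ x) = x := g.apply_symm_apply x
    show g (tt v (g⁻¹ x)) = _
    rw [htt, htt, map_add, map_smul, hgi, ← hM.pres g hg, hgi]
  let Rel : V → V → Prop := fun v w => tt v * tt w ∈ M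
  have hsymm : ∀ {v w}, Rel v w → Rel w v := fun {v w} h => by
    have := M.inv_mem h
    rwa [mul_inv_rev, hinv', hinv'] at this
  have htrans : ∀ {v w z}, Rel v w → Rel w z → Rel v z := fun {v w z} h h' => by
    have := M.mul_mem h h'
    rwa [mul_assoc, ← mul_assoc (tt w), hinv, one_mul] at this
  have hmap : ∀ {g}, g ∈ M → ∀ {v w}, Rel v w → Rel (g v) (g w) := fun {g} hg {v w} h => by
    show tt (g v) * tt (g w) ∈ M
    rw [← hconj g hg, ← hconj g hg]
    convert M.mul_mem (M.mul_mem hg h) (M.inv_mem hg) using 1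
    group
  -- elements of a line
  obtain ⟨z, hz, hz0⟩ : ∃ z ∈ LinearMap.ker lam, z ≠ 0 := by
    refine (Submodule.ne_bot_iff _).1 (LinearMap.ker_ne_bot_of_finrank_lt ?_)
    rw [Module.finrank_self, hr]
    omega
  rw [LinearMap.mem_ker] at hz
  have hlam : ∀ k : K, k ≠ 0 → k ≠ z → lam k = 1 := by
    intro k hk hkz
    refine (hF _).resolve_left fun h0 => ?_
    have hk' : k ∈ LinearMap.ker lam := h0
    have hz' : z ∈ LinearMap.ker lam := hz
    have hrn := LinearMap.finrank_range_add_finrank_ker lam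
    have hsurj : LinearMap.range lam = ⊤ := LinearMap.range_eq_top.2
      (LinearMap.surjective hM.lam_ne)
    rw [hsurj, finrank_top, Module.finrank_self, hr] at hrn
    obtain ⟨c, hc⟩ := exists_smul_eq_of_finrank_eq_one
      (show finrank F (LinearMap.ker lam) = 1 by omega) (x := (⟨z, hz'⟩ : LinearMap.ker lam))
      (fun h => hz0 (congrArg Subtype.val h)) ⟨k, hk'⟩
    have hc' : c • z = k := congrArg Subtype.val hc
    rcases hF c with rfl | rfl
    · exact hk (by rw [← hc', zero_smul])
    · exact hkz (by rw [← hc', one_smul])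
  have hline : ∀ (b : V) (k l : K), k ≠ 0 → l ≠ 0 → Rel (k • b) (l • b) := by
    intro b k l hk hl
    by_cases hkl : k = l
    · show tt (k • b) * tt (l • b) ∈ M
      rw [hkl, hinv]; exact one_mem M
    obtain ⟨g, hg, hgx⟩ := hM.ktrans_mem (k * l / z) b
    show tt (k • b) * tt (l • b) ∈ M
    suffices heq : Cs lam k + Cs lam l = mulL F (k * l / z) by
      convert hg using 1
      refine LinearEquiv.ext fun x => ?_
      show tt (k • b) (tt (l • b) x) = _
      rw [hgx, ← show Cs lam k (B x b) + Cs lam l (B x b) = k * l / z * B x b from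
        LinearMap.congr_fun heq (B x b), htt, htt, Cs_apply, Cs_apply]
      simp only [map_add, map_smul, LinearMap.map_smul_of_tower, LinearMap.add_apply,
        LinearMap.smul_apply, hM.alt, smul_zero, add_zero, add_smul, smul_assoc, smul_eq_mul,
        mul_zero, map_zero]
      abel
    refine LinearMap.ext fun α => ?_
    have hu : lam (k * (z / l)) = 1 := hlam _ (mul_ne_zero hk (div_ne_zero hz0 hl)) fun h => hkl (by
      field_simp at h
      exact h)
    have hw : lam (l * (z / k)) = 1 := hlam _ (mul_ne_zero hl (div_ne_zero hz0 hk)) fun h => hkl (by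
      field_simp at h
      exact h.symm)
    have hu' : lam (l * (z / l)) = 0 := by rw [mul_div_cancel₀ _ hl, hz]
    have hw' : lam (k * (z / k)) = 0 := by rw [mul_div_cancel₀ _ hk, hz]
    have eu : (Cs lam k + Cs lam l) (z / l) = mulL F (k * l / z) (z / l) := by
      rw [LinearMap.add_apply, Cs_apply, Cs_apply, hu, hu', one_smul, zero_smul, add_zero,
        LinearMap.mulLeft_apply]
      field_simp
    have ew : (Cs lam k + Cs lam l) (z / k) = mulL F (k * l / z) (z / k) := by
      rw [LinearMap.add_apply, Cs_apply, Cs_apply, hw, hw', one_smul, zero_smul, zero_add,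
        LinearMap.mulLeft_apply]
      field_simp
    -- `z / l` and `z / k` span
    let φ : F × F →ₗ[F] K :=
      (LinearMap.toSpanSingleton F K (z / l)).coprod (LinearMap.toSpanSingleton F K (z / k))
    have hφ : Function.Injective φ := by
      rw [← LinearMap.ker_eq_bot, Submodule.eq_bot_iff]
      rintro ⟨c, d⟩ hcd
      rw [LinearMap.mem_ker] at hcd
      have hcd' : c • (z / l) + d • (z / k) = 0 := hcd
      have hc : c = 0 := by
        have := congrArg (fun y => lam (k * y)) hcd'
        simpa [mul_add, mul_smul_comm, hu, hw'] using this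
      have hd : d = 0 := by
        have := congrArg (fun y => lam (l * y)) hcd'
        simpa [mul_add, mul_smul_comm, hu', hw] using this
      simp [hc, hd]
    obtain ⟨⟨c, d⟩, rfl⟩ := (LinearMap.injective_iff_surjective_of_finrank_eq_finrank
      (by rw [Module.finrank_prod, Module.finrank_self, hr])).1 hφ α
    show (Cs lam k + Cs lam l) (c • (z / l) + d • (z / k)) = mulL F _ (c • (z / l) + d • (z / k))
    rw [map_add, map_add, map_smul, map_smul, map_smul, map_smul, eu, ew]
  -- a related pair in different lines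
  obtain ⟨g, hg, hne, hbot⟩ := hbad
  obtain ⟨x, ⟨⟨y, hy, hyx⟩, hxl⟩, hx0⟩ := (Submodule.ne_bot_iff _).1 hbot
  obtain ⟨k, rfl⟩ := mem_line.1 hy
  change g (k • a₁) = x at hyx
  obtain ⟨c, rfl⟩ := mem_line.1 hxl
  obtain ⟨x', hx'L, hx'⟩ : ∃ x' ∈ img K a₁ g, x' ∉ line F K a₁ := by
    by_contra h
    push Not at h
    exact hne (Submodule.eq_of_le_of_finrank_eq h (by rw [finrank_img ha₁, finrank_line ha₁]))
  obtain ⟨_, hy', rfl⟩ := hx'L
  obtain ⟨k', rfl⟩ := mem_line.1 hy'
  change g (k' • a₁) ∉ line F K a₁ at hx'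
  have hc : c ≠ 0 := fun h => hx0 (by rw [h, zero_smul])
  have hk : k ≠ 0 := fun h => hx0 (by rw [← hyx, h, zero_smul, map_zero])
  have hk' : k' ≠ 0 := fun h => hx' (by rw [h, zero_smul, map_zero]; exact Submodule.zero_mem _)
  have hrel := hmap hg (hline a₁ k k' hk hk')
  rw [hyx] at hrel
  set a := c • a₁ with hadef
  set w := g (k' • a₁) with hwdef
  have ha : a ≠ 0 := hx0
  have hwa : w ∉ K ∙ a := fun h => hx' (by
    obtain ⟨e, he⟩ := Submodule.mem_span_singleton.1 h
    rw [← he, hadef, smul_smul]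
    exact mem_line.2 ⟨_, rfl⟩)
  -- all vectors orthogonal to `a` are related to it
  have key : ∀ x, x ≠ 0 → B x a = 0 → Rel a x := by
    have inline : ∀ x, x ≠ 0 → x ∈ K ∙ a → Rel a x := by
      intro x hx hxa
      obtain ⟨e, rfl⟩ := Submodule.mem_span_singleton.1 hxa
      have := hline a 1 e one_ne_zero (fun h => hx (by rw [h, zero_smul]))
      rwa [one_smul] at this
    have orbit : ∀ x, x ∉ K ∙ a → B x a = B w a → Rel a x := by
      intro x hx hxa
      obtain ⟨h, hh, -, hha, hhw⟩ := hM.exists_move_fix hwa hx hxa.symm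
      have := hmap hh hrel
      rwa [hha, hhw] at this
    intro x hx hxa
    by_cases hxin : x ∈ K ∙ a
    · exact inline x hx hxin
    by_cases hw0 : B w a = 0
    · exact orbit x hxin (by rw [hxa, hw0])
    -- every pair with non-zero product is related
    have hnonorth : ∀ y, B y a ≠ 0 → Rel a y := by
      intro y hy
      have he : B w a / B y a ≠ 0 := div_ne_zero hw0 hy
      obtain ⟨h, hh, hhl, hha⟩ := hM.exists_move ha (smul_ne_zero he ha)
      have hyin : y ∉ K ∙ a := fun h' => by
        obtain ⟨e, rfl⟩ := Submodule.mem_span_singleton.1 h'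
        simp [hM.alt] at hy
      -- the products with the moved vector
      have h1 := hmap hh hrel
      rw [hha] at h1
      have h2 := htrans (inline _ (smul_ne_zero he ha)
        (Submodule.smul_mem _ _ (Submodule.mem_span_singleton_self a))) h1
      have hBw : B (h w) a = B y a := by
        have h3 : B (h w) (h a) = B w a := by
          refine lam_ext hM.lam_ne fun l => ?_
          rw [← smul_eq_mul, ← smul_eq_mul, ← map_smul (B (h w)), ← hhl, hM.pres h hh, map_smul]
        rw [hha, map_smul, smul_eq_mul] at h3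
        refine mul_left_cancel₀ he (h3.trans ?_)
        rw [div_mul_cancel₀ _ hy]
      have hwin : h w ∉ K ∙ a := fun h' => by
        obtain ⟨e, he'⟩ := Submodule.mem_span_singleton.1 h'
        have h4 : B (e • a) a = 0 := by rw [LinearMap.map_smul₂, hM.alt, smul_zero]
        rw [← he', h4] at hBw
        exact hy hBw.symm
      obtain ⟨h', hh', -, hh'a, hh'w⟩ := hM.exists_move_fix hwin hyin hBw
      have := hmap hh' h2
      rwa [hh'a, hh'w] at this
    have hany : ∀ v y, v ≠ 0 → B y v ≠ 0 → Rel v y := by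
      intro v y hv hy
      obtain ⟨h, hh, hhl, hha⟩ := hM.exists_move ha hv
      have hy' : B (h⁻¹ y) a ≠ 0 := fun h0 => hy (by
        refine lam_ext hM.lam_ne fun l => ?_
        rw [mul_zero, map_zero, ← smul_eq_mul, ← map_smul, ← hha, ← hhl,
          ← h.apply_symm_apply y, hM.pres h hh, map_smul,
          show h.symm y = h⁻¹ y from rfl, h0, smul_zero, map_zero])
      have := hmap hh (hnonorth _ hy')
      rwa [hha, show h (h⁻¹ y) = y from h.apply_symm_apply y] at this
    obtain ⟨u, hau, hxu⟩ : ∃ u, B a u ≠ 0 ∧ B x u ≠ 0 := by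
      obtain ⟨u₁, hu₁⟩ := hM.exists_partner ha
      obtain ⟨u₂, hu₂⟩ := hM.exists_partner hx
      by_cases h1 : B x u₁ = 0
      · by_cases h2 : B a u₂ = 0
        · exact ⟨u₁ + u₂, by simp [hu₁, h2], by simp [h1, hu₂]⟩
        · exact ⟨u₂, h2, by simp [hu₂]⟩
      · exact ⟨u₁, by simp [hu₁], h1⟩
    have hua : B u a ≠ 0 := by rw [hM.skew a u]; exact neg_ne_zero.2 hau
    have hux : B u x ≠ 0 := by rw [hM.skew x u]; exact neg_ne_zero.2 hxu
    exact htrans (hnonorth u hua) (hsymm (hany x u hx hux))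
  -- a totally isotropic subspace with seven non-zero vectors
  obtain ⟨b, hba, hb⟩ : ∃ b, B b a = 0 ∧ b ∉ K ∙ a := by
    by_contra h
    push Not at h
    have hle : LinearMap.ker (B.flip a) ≤ K ∙ a := fun x hx => h x hx
    have h1 : finrank K (K ∙ a) = 1 := finrank_span_singleton ha
    have h2 := Submodule.finrank_mono hle
    have h3 := LinearMap.finrank_range_add_finrank_ker (B.flip a)
    have h4 := Submodule.finrank_le (LinearMap.range (B.flip a))
    rw [Module.finrank_self] at h4
    omega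
  obtain ⟨e, he0, he1⟩ : ∃ e : K, e ≠ 0 ∧ e ≠ 1 := by
    obtain ⟨-, θ, hθ, -⟩ := four hFc hr
    exact ⟨θ, fun h => by simp [h] at hθ, fun h => by simp [h] at hθ⟩
  set b' := e • a with hb'
  have hba' : B b b' = 0 := by rw [hb', map_smul, hba, smul_zero]
  have hab : B a b = 0 := by rw [hM.skew b a, hba, neg_zero]
  have hab' : B b' b = 0 := by rw [hM.skew b b', hba', neg_zero]
  have haa' : B a b' = 0 := by rw [hb', map_smul, hM.alt, smul_zero]
  have ha'a : B b' a = 0 := by rw [hM.skew a b', haa', neg_zero]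
  have hprod : tt a * (tt b' * tt b) * (tt (a + b') * tt (a + b)) *
      (tt (b' + b) * tt (a + b' + b)) = 1 := by
    refine LinearEquiv.ext fun x => ?_
    show tt a (tt b' (tt b (tt (a + b') (tt (a + b) (tt (b' + b) (tt (a + b' + b) x)))))) = x
    simp only [htt, map_add, map_smul, LinearMap.map_smul_of_tower, LinearMap.add_apply,
      LinearMap.smul_apply, hM.alt, hab, hba, hab', hba', haa', ha'a, smul_zero, map_zero,
      add_zero, mul_zero, smul_add, add_smul]
    set p := lam (B x a) • a
    set p' := lam (B x b') • b'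
    set p'' := lam (B x b) • b
    linear_combination (norm := module) h2V (p + p) + h2V (p' + p') + h2V (p'' + p'')
      + h2V (lam (B x a) • b' + lam (B x b') • a + lam (B x a) • b + lam (B x b) • a
        + lam (B x b') • b + lam (B x b) • b')
  have hne' : ∀ x y : K, (x ≠ 0 ∨ y ≠ 0) → x • a + y • b ≠ 0 := by
    intro x y hxy h
    by_cases hy : y = 0
    · rw [hy, zero_smul, add_zero, smul_eq_zero] at h
      rcases hxy with hxy | hxy
      · exact ha (h.resolve_left hxy)
      · exact hxy hy
    · refine hb (Submodule.mem_span_singleton.2 ⟨-(y⁻¹ * x), ?_⟩)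
      rw [neg_smul, mul_smul, eq_neg_of_add_eq_zero_left h, smul_neg, inv_smul_smul₀ hy, neg_neg]
  have hrelab : ∀ x y : K, (x ≠ 0 ∨ y ≠ 0) → Rel a (x • a + y • b) := fun x y hxy =>
    key _ (hne' x y hxy) (by simp [hM.alt, hba])
  have r1 : Rel a b' := by simpa [hb'] using hrelab e 0 (Or.inl he0)
  have r2 : Rel a b := by simpa using hrelab 0 1 (Or.inr one_ne_zero)
  have r3 : Rel a (a + b') := by
    simpa [hb', add_smul] using hrelab (1 + e) 0 (Or.inl fun h => he1 (by
      have h2K : (1 : K) + 1 = 0 := by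
        rw [← map_one (algebraMap F K), ← map_add, h2F, map_zero]
      linear_combination h - h2K))
  have r4 : Rel a (a + b) := by simpa using hrelab 1 1 (Or.inr one_ne_zero)
  have r5 : Rel a (b' + b) := by simpa [hb'] using hrelab e 1 (Or.inr one_ne_zero)
  have r6 : Rel a (a + b' + b) := by
    simpa [hb', add_smul] using hrelab (1 + e) 1 (Or.inr one_ne_zero)
  have hmem : tt a ∈ M := by
    have h6 : tt b' * tt b * (tt (a + b') * tt (a + b)) * (tt (b' + b) * tt (a + b' + b)) ∈ M :=
      mul_mem (mul_mem (htrans (hsymm r1) r2) (htrans (hsymm r3) r4)) (htrans (hsymm r5) r6)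
    rw [mul_assoc (tt a), mul_assoc (tt a)] at hprod
    rw [eq_inv_of_mul_eq_one_left hprod]
    exact inv_mem h6
  refine hM.strans_of_centre ha fun t => ?_
  rcases hF t with rfl | rfl
  · exact ⟨1, one_mem M, fun x => by simp⟩
  · exact ⟨tt a, hmem, fun x => by rw [htt, one_mul]⟩

theorem SpOvergroup.norms_or_strans (hM : SpOvergroup B lam M)
    (hsmall : (∀ t : F, t = 0 ∨ t = 1) → finrank F K = 2 → 3 ≤ finrank K V) :
    (∀ g ∈ M, Norms K g) ∨ STrans B lam M := by
  by_cases hgood : ∀ a : V, a ≠ 0 → ∀ g ∈ M, img K a g ≠ line F K a →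
      img K a g ⊓ line F K a = ⊥
  · exact Or.inl (norms_of_moves hM.exists_off (fun ha hb => hM.exists_move ha hb) hgood)
  push Not at hgood
  obtain ⟨a, ha, g, hg, hne, hbot⟩ := hgood
  right
  by_cases hF : ∃ t : F, t ≠ 0 ∧ t ≠ 1
  swap
  by_cases hr : finrank F K = 2
  · have hF2 : ∀ t : F, t = 0 ∨ t = 1 := fun t => by
      push Not at hF; exact or_iff_not_imp_left.2 (hF t)
    exact hM.strans_of_two hF2 hr (hsmall hF2 hr) ha ⟨g, hg, hne, hbot⟩
  all_goals
    have hor : (∃ t : F, t ≠ 0 ∧ t ≠ 1) ∨ 3 ≤ finrank F K := by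
      first
        | exact Or.inl hF
        | exact Or.inr (by have := hM.deg.two_le; omega)
    obtain ⟨δ, hδ, htr⟩ := hM.trs_of_meet ha ⟨g, hg, hne, hbot⟩
    refine hM.strans_of_centre ha fun t => ?_
    obtain ⟨u, hu, hux⟩ := hM.mem_Cs ha (fun {η v} hη hv => hM.trs_all ha hδ htr hη hv) hor t
    refine ⟨u, hu, fun x => ?_⟩
    rw [hux, LinearMap.smul_apply, Cs_apply, one_mul, smul_smul, smul_assoc, one_smul]

end Cfsg.Agent.FieldExtMax
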