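/-
The symplectic normaliser of a self-adjoint field of prime degree: its overgroups in the
symplectic group.

Main results: `exists_form`, `sp_cases`.
-/
import Cfsg.Agent.Lib.FieldExtMax.SpMain
import Cfsg.Agent.Lib.Transvect.Symp

set_option autoImplicit false
set_option linter.unusedSectionVars false

namespace Cfsg.Agent.FieldExtMax

open Module Matrix Transvect

variable {ι : Type} [Fintype ι] [DecidableEq ι] {F : Type*} [Field F] [Finite F]

attribute [-simp] app_apply

/-- A self-adjoint field makes a bilinear form the trace of a form over the field. -/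
theorem exists_form {L : Type*} [Field L] [Finite L] [Algebra F L] [Module L (ι → F)]
    [IsScalarTower F L (ι → F)] {f : (ι → F) → (ι → F) → F} (hf : Cfsg.Geo.IsBilinearForm f)
    (hadj : ∀ (k : L) u v, f (k • u) v = f u (k • v)) {lam : Dual F L} (hl : lam ≠ 0) :
    ∃ B : (ι → F) →ₗ[L] (ι → F) →ₗ[L] L, ∀ x y, lam (B x y) = f x y := by
  have hex : ∀ x y : ι → F, ∃ b : L, ∀ k, f (k • x) y = lam (b * k) := fun x y =>
    lam_repr hl (flin hf y ∘ₗ (LinearMap.toSpanSingleton L (ι → F) x).restrictScalars F)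
  choose b hb using hex
  have hb' : ∀ x y k, lam (k * b x y) = f (k • x) y := fun x y k => by rw [hb, mul_comm]
  refine ⟨LinearMap.mk₂ L b (fun x x' y => ?_) (fun c x y => ?_) (fun x y y' => ?_)
    (fun c x y => ?_), fun x y => ?_⟩
  · exact lam_ext hl fun k => by
      rw [mul_add, map_add, hb', hb', hb', smul_add, hf.add_left]
  · exact lam_ext hl fun k => by
      rw [smul_eq_mul, ← mul_assoc, hb', hb', smul_smul]
  · exact lam_ext hl fun k => by
      rw [mul_add, map_add, hb', hb', hb', hf.add_right]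
  · exact lam_ext hl fun k => by
      rw [smul_eq_mul, ← mul_assoc, hb', hb', ← hadj, smul_smul, mul_comm]
  · show lam (b x y) = _
    simpa using hb' x y 1

variable {f : (ι → F) → (ι → F) → F}

/-- Between the isometries normalising a self-adjoint field of prime degree and all isometries
there is nothing else; and some isometry does not normalise the field. -/
theorem sp_cases_aux {L : Type*} [Field L] [Finite L] [Algebra F L] {r : ℕ} (hr : r.Prime)
    (j : L →ₐ[F] Matrix ι ι F) (hdeg : finrank F L = r) (hf : Cfsg.Geo.IsSymplecticForm f)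
    (hbig : (∀ t : F, t = 0 ∨ t = 1) → r = 2 → 6 ≤ Fintype.card ι) [Nonempty ι]
    {K : Subalgebra F (Matrix ι ι F)} (hjK : ∀ x, x ∈ K ↔ ∃ l, j l = x)
    (hsa : Cfsg.Geo.IsSelfAdjointFor f K) (halt : ∀ k ∈ K, ∀ v, f (k *ᵥ v) v = 0) :
    (∀ M : Subgroup (GL ι F), (∀ g, g ∈ Cfsg.Geo.subalgebraNormalizer K → IsIsom f g → g ∈ M) →
      (∀ g ∈ M, IsIsom f g) →
        M ≤ Cfsg.Geo.subalgebraNormalizer K ∨ ∀ g, IsIsom f g → g ∈ M) ∧
    (∃ g, IsIsom f g ∧ g ∉ Cfsg.Geo.subalgebraNormalizer K) := by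
  classical
  haveI : Module.Finite F L := Module.Finite.of_finite
  let ρ : L →+* ((ι → F) →ₗ[F] (ι → F)) :=
    (Matrix.toLinAlgEquiv' : Matrix ι ι F ≃ₐ[F] _).toAlgHom.toRingHom.comp j.toRingHom
  letI : Module L (ι → F) := Module.compHom _ ρ
  have hsmul : ∀ (k : L) (x : ι → F), k • x = j k *ᵥ x := fun k x => by
    show ρ k x = _
    simp [ρ]
  haveI : IsScalarTower F L (ι → F) := ⟨fun c k x => by
    rw [hsmul, hsmul, map_smul, Matrix.smul_mulVec]⟩
  obtain ⟨lam, hlam⟩ := Projective.exists_dual_ne_zero F (one_ne_zero (α := L))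
  have hl : lam ≠ 0 := fun h => hlam (by rw [h]; rfl)
  obtain ⟨B, hB⟩ := exists_form hf.bilinear (L := L) (fun k u v => by
    rw [hsmul, hsmul]; exact hsa _ ((hjK _).2 ⟨k, rfl⟩) u v) hl
  have halt' : ∀ x, B x x = 0 := fun x => lam_ext hl fun k => by
    rw [mul_zero, map_zero, ← smul_eq_mul, ← LinearMap.map_smul₂, hB, hsmul]
    exact halt _ ((hjK _).2 ⟨k, rfl⟩) x
  have hnd : ∀ x, (∀ y, B x y = 0) → x = 0 := fun x hx => by
    by_contra hx0
    obtain ⟨-, y, hy⟩ := hf.nondegenerate x hx0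
    exact hy (by rw [← hB, hx, map_zero])
  have hnorm : ∀ g : GL ι F, g ∈ Cfsg.Geo.subalgebraNormalizer K ↔ Norms L (app g) :=
    fun g => mem_normalizer_iff j hjK hsmul g
  have hiso : ∀ g : GL ι F, IsIsom f g ↔
      ∀ x y, lam (B (app g x) (app g y)) = lam (B x y) := fun g => by
    simp only [IsIsom, hB]
  have happ : ∀ e : (ι → F) ≃ₗ[F] (ι → F), ∃ g : GL ι F, app g = e := fun e => by
    refine ⟨⟨LinearMap.toMatrix' (e : (ι → F) →ₗ[F] ι → F),
      LinearMap.toMatrix' (e.symm : (ι → F) →ₗ[F] ι → F), ?_, ?_⟩, ?_⟩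
    · rw [← LinearMap.toMatrix'_comp]; simp
    · rw [← LinearMap.toMatrix'_comp]; simp
    · ext x : 1
      simp [app_apply, LinearMap.toMatrix'_mulVec]
  obtain ⟨a, ha⟩ : ∃ a : ι → F, a ≠ 0 := exists_ne 0
  refine ⟨fun M hM hMf => ?_, ?_⟩
  · have hO : SpOvergroup B lam (M.map app) :=
      { deg := by rw [hdeg]; exact hr
        alt := halt'
        nondeg := hnd
        lam_ne := hl
        nontriv := ⟨a, ha⟩
        semi := fun e he hp => by
          obtain ⟨g, rfl⟩ := happ e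
          exact ⟨g, hM g ((hnorm g).2 he) ((hiso g).2 hp), rfl⟩
        pres := by
          rintro _ ⟨g, hg, rfl⟩
          exact (hiso g).1 (hMf g hg) }
    have hsmall : (∀ t : F, t = 0 ∨ t = 1) → finrank F L = 2 → 3 ≤ finrank L (ι → F) := fun hF2 h2 => by
      have h := Module.finrank_mul_finrank F L (ι → F)
      rw [Module.finrank_fintype_fun_eq_card, h2] at h
      have := hbig hF2 (hdeg.symm.trans h2)
      omega
    rcases hO.norms_or_strans hsmall with h | h
    · exact Or.inl fun g hg => (hnorm g).2 (h _ ⟨g, hg, rfl⟩)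
    · refine Or.inr fun g hg => isometry_mem_of_centres hf M (fun v c => ?_) hg
      obtain ⟨_, ⟨g', hg', rfl⟩, hgx⟩ := h v c
      rwa [← gl_ext (g := g') (h := st hf v c) fun x => by rw [hgx, st_apply, hB]]
  · refine ⟨st hf a 1, st_isIsom hf a 1, fun hN => ?_⟩
    obtain ⟨u, hu⟩ : ∃ u, B a u ≠ 0 := by
      by_contra h
      push Not at h
      exact ha (hnd a h)
    obtain ⟨z, hz, hz0⟩ : ∃ z ∈ LinearMap.ker lam, z ≠ 0 := by
      refine (Submodule.ne_bot_iff _).1 (LinearMap.ker_ne_bot_of_finrank_lt ?_)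
      rw [Module.finrank_self, hdeg]
      exact hr.one_lt
    rw [LinearMap.mem_ker] at hz
    have hua : B u a ≠ 0 := by
      intro h
      have h2 := halt' (u + a)
      simp only [map_add, LinearMap.add_apply, halt', h, zero_add, add_zero] at h2
      exact hu h2
    set x := (z / B u a) • u with hx
    have hxa : B x a = z := by
      rw [hx, LinearMap.map_smul₂, smul_eq_mul, div_mul_cancel₀ _ hua]
    clear_value x
    obtain ⟨k, hk⟩ := lam_ne_zero hl hz0
    obtain ⟨k', hk'⟩ := (hnorm _).1 hN k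
    have h1 := hk' x
    rw [st_apply, st_apply, one_mul, one_mul, ← hB, ← hB, hxa, hz, zero_smul, add_zero,
      LinearMap.map_smul₂, hxa, smul_eq_mul] at h1
    have h2 : B x (lam (k * z) • a) = 0 := by
      rw [eq_sub_of_add_eq' h1, map_sub, map_smul, map_smul, halt', smul_zero, smul_zero,
        sub_zero]
    rw [LinearMap.map_smul_of_tower, hxa, smul_eq_zero] at h2
    exact hz0 (h2.resolve_left hk)

/-- The same for a field subalgebra. -/
theorem sp_cases {r : ℕ} (hr : r.Prime) (hf : Cfsg.Geo.IsSymplecticForm f)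
    (hbig : (∀ t : F, t = 0 ∨ t = 1) → r = 2 → 6 ≤ Fintype.card ι) [Nonempty ι]
    {K : Subalgebra F (Matrix ι ι F)} (hK : Cfsg.Geo.IsFieldSubalgebra r K)
    (hsa : Cfsg.Geo.IsSelfAdjointFor f K) (halt : ∀ k ∈ K, ∀ v, f (k *ᵥ v) v = 0) :
    (∀ M : Subgroup (GL ι F), (∀ g, g ∈ Cfsg.Geo.subalgebraNormalizer K → IsIsom f g → g ∈ M) →
      (∀ g ∈ M, IsIsom f g) →
        M ≤ Cfsg.Geo.subalgebraNormalizer K ∨ ∀ g, IsIsom f g → g ∈ M) ∧
    (∃ g, IsIsom f g ∧ g ∉ Cfsg.Geo.subalgebraNormalizer K) := by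
  haveI : Finite (Matrix ι ι F) := inferInstanceAs (Finite (ι → ι → F))
  have hA : IsField K := ⟨exists_pair_ne _, fun x y => Subtype.ext (hK.comm _ x.2 _ y.2),
    fun {x} hx => by
      obtain ⟨y, hy, h⟩ := hK.inv _ x.2 (fun h => hx (Subtype.ext h))
      exact ⟨⟨y, hy⟩, Subtype.ext h⟩⟩
  letI : Field K := hA.toField
  exact sp_cases_aux (L := K) hr K.val hK.finrank_eq hf hbig
    (fun x => ⟨fun h => ⟨⟨x, h⟩, rfl⟩, fun ⟨l, hl⟩ => hl ▸ l.2⟩) hsa halt

end Cfsg.Agent.FieldExtMax
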