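/-
Root elements of a singular `K`-line generate the orthogonal group; the orthogonal normaliser of a
self-adjoint field of prime degree is maximal.

Main definitions: `OrOvergroup.centreSet`.
Main results: `omega_le_of_roots`, `or_cases`.
-/
import Cfsg.Agent.Lib.FieldExtMax.OrSemi
import Cfsg.Agent.Lib.FieldExtMax.SpMatrix
import Cfsg.Agent.Lib.Orth.Parabolic

set_option autoImplicit false
set_option linter.unusedSectionVars false

namespace Cfsg.Agent.FieldExtMax

open Module Matrix Transvect Cfsg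
open QuadraticMap (polar)
open Orth (IsoGrp ap eich)
open scoped commutatorElement

variable {ι : Type} [Fintype ι] [DecidableEq ι] {F : Type*} [Field F] [Fintype F]
variable {L : Type*} [Field L] [Finite L] [Algebra F L] [Module L (ι → F)]
  [IsScalarTower F L (ι → F)]
variable {Q : QuadraticForm F (ι → F)} {B : (ι → F) →ₗ[L] (ι → F) →ₗ[L] L} {lam : Dual F L}
  {M : Subgroup (GL ι F)}

attribute [-simp] app_apply

lemma app_eq_ap (h : IsoGrp Q) (x : ι → F) : app (h : GL ι F) x = ap h x := rfl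

/-- The vectors `w` orthogonal to `a` with `eich Q a w` in `M`. -/
def centreSet (Q : QuadraticForm F (ι → F)) (M : Subgroup (GL ι F)) {a : ι → F} (ha : Q a = 0) :
    AddSubgroup (ι → F) where
  carrier := {w | polar ⇑Q a w = 0 ∧ (eich Q a w : GL ι F) ∈ M}
  zero_mem' := ⟨Orth.pl_zero_right Q a, by rw [Orth.eich_zero]; exact one_mem M⟩
  add_mem' := fun {w w'} h h' => ⟨by rw [Orth.pl_add_right, h.1, h'.1, add_zero], by
    rw [← Orth.eich_add ha h.1 h'.1, Subgroup.coe_mul]; exact M.mul_mem h.2 h'.2⟩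
  neg_mem' := fun {w} h => ⟨by rw [Orth.pl_neg_right, h.1, neg_zero], by
    rw [← Orth.eich_inv, Subgroup.coe_inv]; exact M.inv_mem h.2⟩

lemma mem_centreSet {a w : ι → F} {ha : Q a = 0} :
    w ∈ centreSet Q M ha ↔ polar ⇑Q a w = 0 ∧ (eich Q a w : GL ι F) ∈ M := Iff.rfl

lemma centreSet_map {a w : ι → F} (ha : Q a = 0) {h : IsoGrp Q} (hh : (h : GL ι F) ∈ M) {a' : ι → F}
    (ha' : Q a' = 0) (hha : ap h a = a') (hw : w ∈ centreSet Q M ha) :
    ap h w ∈ centreSet Q M ha' := by
  subst hha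
  refine ⟨by rw [Orth.polar_ap, hw.1], ?_⟩
  rw [← Orth.conj_eich, Subgroup.coe_mul, Subgroup.coe_mul, Subgroup.coe_inv]
  exact M.mul_mem (M.mul_mem hh hw.2) (M.inv_mem hh)

variable (hO : OrCore B lam (M.map app)) (hB : ∀ x y, lam (B x y) = polar ⇑Q x y)
  (hMΩ : M ≤ Geo.omegaGL ⇑Q) (h2 : (2 : F) ≠ 0)

section
include hB h2

lemma Q_eq_zero {x : ι → F} (hx : B x x = 0) : Q x = 0 := by
  have h := hB x x
  rw [hx, map_zero, Orth.pl_self] at h
  exact (mul_eq_zero.1 h.symm).resolve_left h2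

lemma polar_line {a : ι → F} (ha : B a a = 0) (k l : L) : polar ⇑Q (k • a) (l • a) = 0 := by
  rw [← hB]; simp [ha]

end

include hO hB hMΩ h2

/-- The root elements of one singular line give those of all. -/
lemma roots_all {a₁ : ι → F} (hs₁ : B a₁ a₁ = 0)
    (hmove : ∀ c, c ≠ 0 → B c c = 0 → ∃ g ∈ M.map app,
      (∀ (k : L) x, g (k • x) = k • g x) ∧ ∃ e : L, e ≠ 0 ∧ g a₁ = e • c)
    (hroot : ∀ k l : L, (eich Q (k • a₁) (l • a₁) : GL ι F) ∈ M) {c : ι → F} (hc : B c c = 0)
    (k l : L) : (eich Q (k • c) (l • c) : GL ι F) ∈ M := by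
  by_cases hc0 : c = 0
  · rw [hc0, smul_zero, smul_zero, Orth.eich_zero]; exact one_mem M
  obtain ⟨_, ⟨g, hg, rfl⟩, hgl, e, he, hgc⟩ := hmove c hc0 hc
  obtain ⟨h, -, rfl⟩ := Orth.mem_omegaGL_iff.1 (hMΩ hg)
  have hap : ∀ k : L, ap h ((k / e) • a₁) = k • c := fun k => by
    rw [← app_eq_ap, hgl, hgc, smul_smul, div_mul_cancel₀ _ he]
  rw [← hap k, ← hap l, ← Orth.conj_eich, Subgroup.coe_mul, Subgroup.coe_mul, Subgroup.coe_inv]
  exact M.mul_mem (M.mul_mem hg (hroot _ _)) (M.inv_mem hg)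

/-- A root pair orthogonal to `a` moves the centre set. -/
lemma centre_step {a w u v : ι → F} (ha : Q a = 0) (hu : Q u = 0) (hv : Q v = 0)
    (huv : polar ⇑Q u v = 0) (hmem : (eich Q u v : GL ι F) ∈ M) (hua : polar ⇑Q u a = 0)
    (hva : polar ⇑Q v a = 0) (hw : w ∈ centreSet Q M ha) :
    polar ⇑Q u w • v - polar ⇑Q v w • u ∈ centreSet Q M ha := by
  have h1 : ap (eich Q u v) a = a := by rw [Orth.eich_ap hu huv, hua, hva, hv]; simp
  have h3 := (centreSet Q M ha).sub_mem (centreSet_map ha hmem ha h1 hw) hw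
  convert h3 using 1
  rw [Orth.eich_ap hu huv, hv, zero_mul, add_zero]
  abel

/-- Degree at least three. -/
lemma centre_three (hr : 3 ≤ finrank F L)
    (hroot : ∀ c, B c c = 0 → ∀ k l : L, (eich Q (k • c) (l • c) : GL ι F) ∈ M)
    {a : ι → F} (hs : B a a = 0) (ha : a ≠ 0) {w : ι → F} (hw : polar ⇑Q a w = 0) :
    w ∈ centreSet Q M (Q_eq_zero hB h2 hs) := by
  haveI : Module.Finite F L := Module.Finite.of_finite
  set S := centreSet Q M (Q_eq_zero hB h2 hs)
  have hline : ∀ l : L, l • a ∈ S := fun l => ⟨by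
    have := polar_line hB h2 hs (1 : L) l
    rwa [one_smul] at this, by simpa using hroot a hs 1 l⟩
  obtain ⟨a', haa', ha'a, hs'⟩ := hO.exists_partner ha hs
  have hker : finrank F (LinearMap.ker lam) + 1 = finrank F L := by
    have h1 := LinearMap.finrank_range_add_finrank_ker lam
    rw [LinearMap.range_eq_top.2 (LinearMap.surjective hO.lam_ne), finrank_top,
      Module.finrank_self] at h1
    omega
  have hone : ∀ c, B c c = 0 → B a c = 1 → ∀ γ, lam γ = 0 → γ • c ∈ S := by
    intro c hcs hac γ hγ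
    obtain ⟨γ', hγ', hind⟩ : ∃ γ', lam γ' = 0 ∧ γ' ∉ F ∙ γ := by
      by_contra h
      push Not at h
      have hle : LinearMap.ker lam ≤ F ∙ γ := fun x hx => h x hx
      have h1 := Submodule.finrank_mono hle
      have h3 : finrank F (F ∙ γ) ≤ 1 := by simpa using finrank_span_le_card (R := F) ({γ} : Set L)
      omega
    obtain ⟨ω, hω', hω⟩ := Submodule.exists_dual_map_eq_bot_of_notMem hind inferInstance
    have hωγ : ω γ = 0 := by
      have := Submodule.mem_map_of_mem (f := ω) (Submodule.mem_span_singleton_self (R := F) γ)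
      rwa [hω, Submodule.mem_bot] at this
    obtain ⟨k, hk⟩ := lam_repr hO.lam_ne ((ω γ')⁻¹ • ω)
    have e1 : lam (k * γ') = 1 := by
      rw [← hk, LinearMap.smul_apply, smul_eq_mul, inv_mul_cancel₀ hω']
    have e2 : lam (k * γ) = 0 := by rw [← hk, LinearMap.smul_apply, hωγ, smul_zero]
    have hperp : ∀ e : L, lam e = 0 → polar ⇑Q (e • c) a = 0 := fun e he => by
      rw [← hB, hO.symm, map_smul, hac, smul_eq_mul, mul_one, he]
    have h := centre_step hO hB hMΩ h2 (Q_eq_zero hB h2 hs)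
      (Q_eq_zero hB h2 (x := γ' • c) (by simp [hcs])) (Q_eq_zero hB h2 (x := γ • c) (by simp [hcs]))
      (polar_line hB h2 hcs γ' γ) (hroot c hcs γ' γ) (hperp γ' hγ') (hperp γ hγ) (hline k)
    have p1 : polar ⇑Q (γ' • c) (k • a) = 1 := by
      rw [← hB, hO.symm]; simp [hac, mul_comm γ' k, e1]
    have p2 : polar ⇑Q (γ • c) (k • a) = 0 := by
      rw [← hB, hO.symm]; simp [hac, mul_comm γ k, e2]
    rwa [p1, p2, one_smul, zero_smul, sub_zero] at h
  obtain ⟨γ₀, hγ₀, hγ₀0⟩ : ∃ γ₀ ∈ LinearMap.ker lam, γ₀ ≠ 0 :=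
    (Submodule.ne_bot_iff _).1 fun h => by rw [h, finrank_bot] at hker; omega
  rw [LinearMap.mem_ker] at hγ₀
  have hperp : ∀ z, B a z = 0 → B a' z = 0 → z ∈ S := by
    intro z hz hz'
    set z₁ := γ₀⁻¹ • z
    set t := (2 : L)⁻¹ * B z₁ z₁
    have hcs : B (a' + z₁ - t • a) (a' + z₁ - t • a) = 0 := by
      simp only [z₁, t, map_add, map_sub, map_smul, LinearMap.add_apply, LinearMap.sub_apply,
        LinearMap.smul_apply, smul_eq_mul, hs, hs', haa', ha'a, hz, hz', hO.symm z a,
        hO.symm z a']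
      linear_combination -(γ₀⁻¹ * γ₀⁻¹ * B z z) * hO.half
    have hac : B a (a' + z₁ - t • a) = 1 := by simp [z₁, haa', hs, hz]
    have h := S.add_mem (S.sub_mem (hone _ hcs hac γ₀ hγ₀) (hone a' hs' haa' γ₀ hγ₀))
      (hline (γ₀ * t))
    convert h using 1
    simp only [z₁, smul_add, smul_sub, smul_smul, mul_inv_cancel₀ hγ₀0, one_smul]
    abel
  set z := w - B w a' • a - B w a • a' with hz
  have hdec : w = B w a' • a + B w a • a' + z := by rw [hz]; abel
  rw [hdec]
  refine S.add_mem (S.add_mem (hline _) (hone a' hs' haa' _ ?_)) (hperp z ?_ ?_)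
  · rw [hO.symm, hB, hw]
  · simp only [hz, map_sub, map_smul, hs, haa', smul_eq_mul, hO.symm a w]; ring
  · simp only [hz, map_sub, map_smul, hs', ha'a, smul_eq_mul, hO.symm a' w]; ring

/-- Root elements of a singular line give all of `Ω` in degree at least three. -/
theorem omega_le_of_roots_three (hG : Orth.Good Q) (hn : 5 ≤ Fintype.card ι)
    (hr : 3 ≤ finrank F L) {a₁ : ι → F} (ha₁ : a₁ ≠ 0) (hs₁ : B a₁ a₁ = 0)
    (hall : ∀ c, B c c = 0 → ∀ k l : L, (eich Q (k • c) (l • c) : GL ι F) ∈ M) :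
    Geo.omegaGL ⇑Q ≤ M := by
  obtain ⟨a', haa', -, hs'⟩ := hO.exists_partner ha₁ hs₁
  obtain ⟨e, he⟩ := lam_ne_zero hO.lam_ne (one_ne_zero (α := L))
  rw [mul_one] at he
  have he0 : e ≠ 0 := fun h => he (by rw [h, map_zero])
  have hcentre : ∀ (a : ι → F), a ≠ 0 → B a a = 0 → a ∈ Orth.eichCentres Q M := by
    intro a ha hs
    refine ⟨Q_eq_zero hB h2 hs, fun w => ?_⟩
    by_cases hw : polar ⇑Q a w = 0
    · exact (centre_three hO hB hMΩ h2 hr hall hs ha hw).2
    · rw [Orth.eich_eq_one fun h => hw h.2]; exact one_mem M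
  refine Orth.omegaGL_le_of_centres hG hn (hcentre a₁ ha₁ hs₁)
    (hcentre (e • a') (fun h => ?_) (by simp [hs'])) ?_
  · have h1 : B a₁ (e • a') = 0 := by rw [h, map_zero]
    simp [haa', he0] at h1
  · rw [← hB, map_smul, haa', smul_eq_mul, mul_one]; exact he

/-- A root element of `M.map app` is an Eichler element of `M`. -/
lemma eich_of_root {a₁ : ι → F} (hs₁ : B a₁ a₁ = 0) {k l : L}
    (h : ∃ g ∈ M.map app, ∀ x : ι → F,
      g x = x + lam (B x (k • a₁)) • (l • a₁) - lam (B x (l • a₁)) • (k • a₁)) :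
    (eich Q (k • a₁) (l • a₁) : GL ι F) ∈ M := by
  obtain ⟨_, ⟨g, hg, rfl⟩, hgx⟩ := h
  rwa [← gl_ext (g := g) (h := (eich Q (k • a₁) (l • a₁) : GL ι F)) fun x => by
    rw [hgx, app_eq_ap, Orth.eich_ap (Q_eq_zero hB h2 (by simp [hs₁])) (polar_line hB h2 hs₁ k l),
      Q_eq_zero hB h2 (x := l • a₁) (by simp [hs₁]), zero_mul, add_zero, hB, hB,
      Orth.pl_comm Q x, Orth.pl_comm Q x]]

omit hO hB hMΩ h2
variable (hV : OrOvergroup B lam (M.map app))
include hV hB hMΩ h2

/-- Degree two: one configuration. -/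
lemma config_two (hr : finrank F L = 2) (hN : 4 ≤ finrank L (ι → F))
    (hroot : ∀ c, B c c = 0 → ∀ k l : L, (eich Q (k • c) (l • c) : GL ι F) ∈ M) :
    ∃ a₀, a₀ ≠ 0 ∧ ∃ hs₀ : B a₀ a₀ = 0,
      (∃ y ∈ centreSet Q M (Q_eq_zero hB h2 hs₀), B a₀ y = 0 ∧ B y y ≠ 0) ∧
      ((∀ w, B a₀ w = 0 → w ∈ centreSet Q M (Q_eq_zero hB h2 hs₀)) →
        ∀ γ, lam γ = 0 → ∃ y ∈ centreSet Q M (Q_eq_zero hB h2 hs₀), B a₀ y = γ) := by
  haveI : Module.Finite F L := Module.Finite.of_finite
  haveI : Module.Finite L (ι → F) := Module.Finite.of_finite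
  obtain ⟨w₁, -, hw₁q⟩ := hV.exists_norm (⊤ : Submodule L (ι → F)) (by rw [finrank_top]; omega)
    (fun x _ h => hV.nondeg x fun y => h y Submodule.mem_top) 1
  obtain ⟨b, hb0, hbs, -⟩ := hV.exists_singular_perp (x := w₁) (by rw [hw₁q]; exact one_ne_zero)
  obtain ⟨c, hbc, hcb, hcs⟩ := hV.exists_partner hb0 hbs
  let β := Module.finBasisOfFinrankEq F L hr
  have hker : finrank F (LinearMap.ker lam) = 1 := by
    have h1 := LinearMap.finrank_range_add_finrank_ker lam
    rw [LinearMap.range_eq_top.2 (LinearMap.surjective hV.lam_ne), finrank_top,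
      Module.finrank_self, hr] at h1
    omega
  have hdep : ∀ (m u v : L), lam u = 0 → lam v = 0 → lam (m * u) • v - lam (m * v) • u = 0 := by
    intro m u v hu hv
    by_cases hu0 : u = 0
    · simp [hu0]
    obtain ⟨t, ht⟩ := exists_smul_eq_of_finrank_eq_one hker
      (x := (⟨u, hu⟩ : LinearMap.ker lam)) (fun h => hu0 (congrArg Subtype.val h)) ⟨v, hv⟩
    have ht' : t • u = v := congrArg Subtype.val ht
    rw [← ht', mul_smul_comm, map_smul, smul_smul, smul_eq_mul, mul_comm, sub_self]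
  set W : Module.End F L := Wg lam (β 0) (β 1) with hW
  have hWinj : ∀ s, W s = 0 → s = 0 := by
    intro s hs0
    rw [hW, Wg_apply, sub_eq_zero] at hs0
    have h := Fintype.linearIndependent_iff.1 β.linearIndependent
      ![-lam (β 1 * s), lam (β 0 * s)] (by rw [Fin.sum_univ_two]; simp [hs0])
    have h0 : lam (β 0 * s) = 0 := by simpa using h 1
    have h1 : lam (β 1 * s) = 0 := by simpa using h 0
    refine lam_ext hV.lam_ne fun k => ?_
    rw [mul_zero, map_zero]
    let χ : Dual F L := lam ∘ₗ mulL F s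
    have hχ : χ = 0 := β.ext fun i => by
      show lam (s * β i) = 0
      fin_cases i <;> rw [mul_comm]
      · exact h0
      · exact h1
    rw [mul_comm]
    exact LinearMap.congr_fun hχ k
  set A := W (1 : L) with hA
  have hA0 : A ≠ 0 := fun h => one_ne_zero (hWinj 1 h)
  obtain ⟨z, hz, hzz⟩ := hV.exists_norm (perpK B b c)
    (by have := finrank_perpK B b c; omega)
    (hV.perp_nondeg hbs hcs (by rw [hbc]; exact one_ne_zero)) (-(2 * A))
  rw [mem_perpK] at hz
  have hzb : B z b = 0 := by rw [hV.symm, hz.1]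
  have hzc : B z c = 0 := by rw [hV.symm, hz.2]
  set a₀ := A • c + b + z with ha₀
  have hs₀ : B a₀ a₀ = 0 := by
    simp only [ha₀, map_add, map_smul, LinearMap.add_apply, LinearMap.smul_apply, smul_eq_mul, hbs,
      hcs, hbc, hcb, hz.1, hz.2, hzb, hzc, hzz]
    ring
  have ha0 : a₀ ≠ 0 := fun h => by
    have h1 : B c a₀ = 0 := by rw [h, map_zero]
    simp [ha₀, hcs, hcb, hz.2] at h1
  refine ⟨a₀, ha0, hs₀, ?_⟩
  set S := centreSet Q M (Q_eq_zero hB h2 hs₀)
  -- the pair
  set P : L → (ι → F) := fun p => p • b + W p • c with hP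
  have hPα : ∀ p, B a₀ (P p) = p * A + W p := fun p => by
    simp only [hP, ha₀, map_add, map_smul, LinearMap.add_apply, LinearMap.smul_apply, smul_eq_mul,
      hbs, hcs, hbc, hcb, hzb, hzc]
    ring
  have hPB : ∀ p q, B (P p) (P q) = p * W q + W p * q := fun p q => by
    simp only [hP, map_add, map_smul, LinearMap.add_apply, LinearMap.smul_apply, smul_eq_mul,
      hbs, hcs, hbc, hcb]
    ring
  have hsk : ∀ k l, lam (W k * l) = -lam (k * W l) := fun k l => Wg_skew (β 0) (β 1) k l
  have hPQ : ∀ p q, polar ⇑Q (P p) (P q) = 0 := fun p q => by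
    rw [← hB, hPB, map_add, hsk p q, add_neg_cancel]
  have hPa : ∀ p, lam (p * A + W p) = 0 := fun p => by
    have h := hsk p 1
    rw [mul_one, ← hA] at h
    rw [map_add, h, add_neg_cancel]
  have hPa' : ∀ p, polar ⇑Q (P p) a₀ = 0 := fun p => by rw [← hB, hV.symm, hPα, hPa]
  have hQP : ∀ p, Q (P p) = 0 := fun p => by
    have h := hPQ p p
    rw [Orth.pl_self] at h
    exact (mul_eq_zero.1 h).resolve_left h2
  -- it is a root pair of `M`
  have himg : ∀ p, ap (eich Q ((β 0) • c) ((β 1) • c)) (p • b) = P p := by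
    intro p
    rw [Orth.eich_ap (Q_eq_zero hB h2 (by simp [hcs])) (polar_line hB h2 hcs _ _),
      Q_eq_zero hB h2 (x := β 1 • c) (by simp [hcs]), zero_mul, add_zero, ← hB, ← hB]
    simp only [map_smul, LinearMap.smul_apply, hcb, smul_eq_mul, mul_one]
    simp only [hP, hW, Wg_apply, sub_smul, smul_assoc, mul_comm p]
    abel
  have hPmem : ∀ p q, (eich Q (P p) (P q) : GL ι F) ∈ M := fun p q => by
    rw [← himg p, ← himg q, ← Orth.conj_eich, Subgroup.coe_mul, Subgroup.coe_mul, Subgroup.coe_inv]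
    exact M.mul_mem (M.mul_mem (hroot c hcs _ _) (hroot b hbs p q)) (M.inv_mem (hroot c hcs _ _))
  have hstep : ∀ p q, ∀ w ∈ S, polar ⇑Q (P p) w • P q - polar ⇑Q (P q) w • P p ∈ S :=
    fun p q w hw => centre_step hV.toOrCore hB hMΩ h2 (Q_eq_zero hB h2 hs₀) (hQP p) (hQP q) (hPQ p q)
      (hPmem p q) (hPa' p) (hPa' q) hw
  have hline : ∀ l : L, l • a₀ ∈ S := fun l => ⟨by
    have := polar_line hB h2 hs₀ (1 : L) l
    rwa [one_smul] at this, by simpa using hroot a₀ hs₀ 1 l⟩
  set e := (1 : L) * A + W 1 with he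
  have he0 : e ≠ 0 := by
    rw [he, one_mul, ← hA, ← two_mul]; exact mul_ne_zero hV.two hA0
  obtain ⟨q, hq⟩ : ∃ q : L, q ∉ F ∙ (1 : L) := by
    by_contra h
    push Not at h
    have h1 := Submodule.finrank_mono (show (⊤ : Submodule F L) ≤ F ∙ (1 : L) from fun x _ => h x)
    rw [finrank_top, finrank_span_singleton one_ne_zero, hr] at h1
    omega
  refine ⟨?_, fun hperp γ hγ => ?_⟩
  · obtain ⟨m, hm⟩ := lam_ne_zero hV.lam_ne he0
    refine ⟨_, hstep 1 q _ (hline m), ?_, ?_⟩
    · simp only [← hB, hV.symm _ (m • a₀), map_sub, LinearMap.map_smul_of_tower, map_smul,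
        LinearMap.smul_apply, smul_eq_mul, hPα]
      exact hdep m _ _ (hPa 1) (hPa q)
    · set s := lam (m * e) • q - lam (m * (q * A + W q)) • (1 : L) with hs'
      have hy : polar ⇑Q (P 1) (m • a₀) • P q - polar ⇑Q (P q) (m • a₀) • P 1 = P s := by
        simp only [← hB, hV.symm _ (m • a₀), map_smul, LinearMap.smul_apply, smul_eq_mul, hPα]
        rw [← he]
        simp only [hs', hP, map_sub, map_smul, sub_smul, smul_assoc, smul_add]
        abel
      rw [hy, hPB]
      have hs0 : s ≠ 0 := fun h => hq (Submodule.mem_span_singleton.2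
        ⟨(lam (m * e))⁻¹ * lam (m * (q * A + W q)), by
          rw [mul_smul, ← sub_eq_zero.1 h, inv_smul_smul₀ hm]⟩)
      rw [mul_comm (W s) s, ← two_mul]
      exact mul_ne_zero hV.two (mul_ne_zero hs0 fun h => hs0 (hWinj s h))
  · -- a vector with product `γ`
    have hγe : lam e = 0 := hPa 1
    obtain ⟨t, ht⟩ := exists_smul_eq_of_finrank_eq_one hker
      (x := (⟨e, hγe⟩ : LinearMap.ker lam)) (fun h => he0 (congrArg Subtype.val h)) ⟨γ, hγ⟩
    have ht' : t • e = γ := congrArg Subtype.val ht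
    obtain ⟨ω, hω', hω⟩ := Submodule.exists_dual_map_eq_bot_of_notMem hq inferInstance
    have hω1 : ω 1 = 0 := by
      have := Submodule.mem_map_of_mem (f := ω) (Submodule.mem_span_singleton_self (R := F) (1 : L))
      rwa [hω, Submodule.mem_bot] at this
    obtain ⟨β', hβ'⟩ := lam_repr hV.lam_ne ((t * (ω q)⁻¹) • ω)
    have e1 : lam (β' * 1) = 0 := by rw [← hβ', LinearMap.smul_apply, hω1, smul_zero]
    have e2 : lam (β' * q) = t := by
      rw [← hβ', LinearMap.smul_apply, smul_eq_mul, mul_assoc, inv_mul_cancel₀ hω', mul_one]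
    have hzz0 : B z z ≠ 0 := by rw [hzz]; exact neg_ne_zero.2 (mul_ne_zero hV.two hA0)
    set w := β' • c + (-(β') / B z z) • z with hw
    have hwa : B a₀ w = 0 := by
      simp only [hw, ha₀, map_add, map_smul, LinearMap.add_apply, LinearMap.smul_apply, smul_eq_mul,
        hcs, hbc, hzc, hz.1, hz.2]
      field_simp
      ring
    have hPw : ∀ p, polar ⇑Q (P p) w = lam (β' * p) := fun p => by
      rw [← hB]
      simp only [hP, hw, map_add, map_smul, LinearMap.add_apply, LinearMap.smul_apply, smul_eq_mul,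
        hcs, hbc, hz.1, hz.2]
      ring_nf
      simp
    refine ⟨_, hstep q 1 w (hperp w hwa), ?_⟩
    rw [hPw, hPw, e1, e2, zero_smul, sub_zero, LinearMap.map_smul_of_tower, hPα, ← he, ht']

/-- In an anisotropic plane over `L` orthogonal to `a`, rotations spread one vector to everything. -/
lemma plane_mem [Fintype L] (hr : finrank F L = 2) {a : ι → F} (hs : B a a = 0) {y z : ι → F}
    (hay : B a y = 0) (haz : B a z = 0) (hyz : B y z = 0) (hz : B z z ≠ 0)
    (hD : ∀ s : L, B y y + s * s * B z z ≠ 0)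
    (hyS : y ∈ centreSet Q M (Q_eq_zero hB h2 hs)) (α β : L) :
    α • y + β • z ∈ centreSet Q M (Q_eq_zero hB h2 hs) := by
  classical
  set S := centreSet Q M (Q_eq_zero hB h2 hs)
  set κ := B y y with hκ
  set μ := B z z with hμ
  have h22 : (2 : L) ≠ 0 := hV.two
  have hκ0 : κ ≠ 0 := by simpa using hD 0
  have hzy : B z y = 0 := by rw [hV.symm, hyz]
  -- `-1` is a square, so `κ μ` is none
  obtain ⟨i, hi⟩ : IsSquare (-1 : L) := FiniteField.isSquare_neg_one_iff.2 (by
    have h1 : Fintype.card L = Fintype.card F ^ 2 := by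
      rw [← hr]; exact Module.card_eq_pow_finrank
    have h3 : Fintype.card F % 2 = 1 := FiniteField.odd_card_of_char_ne_two fun h => h2 (by
      haveI := ringChar.of_eq h
      exact CharTwo.two_eq_zero)
    obtain ⟨t, ht⟩ : ∃ t, Fintype.card F = 2 * t + 1 := ⟨Fintype.card F / 2, by omega⟩
    rw [h1, ht, show (2 * t + 1) ^ 2 = 4 * (t * t + t) + 1 by ring]
    omega)
  have hns : ∀ r : L, κ * μ ≠ r * r := by
    intro r h
    have hr0 : r ≠ 0 := fun h0 => mul_ne_zero hκ0 hz (by rw [h, h0, mul_zero])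
    refine hD (i * κ / r) ?_
    field_simp
    linear_combination (-(κ * κ * μ)) * hi - κ * h
  have hDs : ∀ s : L, κ + s * s * μ ≠ 0 := hD
  have hDp : ∀ s : L, κ + s ^ 2 * μ ≠ 0 := fun s => by rw [pow_two]; exact hD s
  -- reflections
  have hrefl : ∀ u : ι → F, B u u ≠ 0 → ∃ g : (ι → F) ≃ₗ[F] (ι → F),
      (∀ (k : L) x, g (k • x) = k • g x) ∧ (∀ x x', B (g x) (g x') = B x x') ∧ g⁻¹ = g ∧
      ∀ x, g x = x - (2 * B x u / B u u) • u := by
    intro u hu
    set f : (ι → F) →ₗ[L] (ι → F) :=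
      LinearMap.id - ((2 / B u u) • B.flip u).smulRight u with hf
    have hfx : ∀ x, f x = x - (2 * B x u / B u u) • u := fun x => by
      simp [hf, mul_div_right_comm]
    have hfB : ∀ x x', B (f x) (f x') = B x x' := fun x x' => by
      simp only [hfx, map_sub, map_smul, LinearMap.sub_apply, LinearMap.smul_apply, smul_eq_mul,
        hV.symm u x']
      field_simp
      ring
    obtain ⟨g, hg, hgl, hgB⟩ := hV.exists_equiv f hfB
    refine ⟨g, hgl, hgB, ?_, fun x => by rw [hg, hfx]⟩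
    refine inv_eq_of_mul_eq_one_right (LinearEquiv.ext fun x => ?_)
    show g (g x) = x
    simp only [hg, hfx, map_sub, map_smul, LinearMap.sub_apply, LinearMap.smul_apply, smul_eq_mul]
    match_scalars <;> field_simp <;> ring
  -- an element of `M` fixing `a` keeps the centre set
  have hkeep : ∀ g ∈ M.map app, g a = a → ∀ x ∈ S, g x ∈ S := by
    rintro _ ⟨g, hg, rfl⟩ hga x hx
    obtain ⟨h, -, rfl⟩ := Orth.mem_omegaGL_iff.1 (hMΩ hg)
    rw [app_eq_ap] at hga ⊢
    exact centreSet_map (Q_eq_zero hB h2 hs) hg (Q_eq_zero hB h2 hs) hga hx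
  obtain ⟨h, hhl, hhB, hhi, hh⟩ := hrefl y hκ0
  -- the two rotations
  have hrot : ∀ s : L, ∃ G : L, G = 2 * κ / (κ + s * s * μ) ∧ ∀ α β : L,
      (α • y + β • z ∈ S →
        ((G - 1) * ((G - 1) * α - G * (s * μ / κ) * β) - G * (s * μ / κ) * (G * s * α + (G - 1) * β)) • y
          + (G * s * ((G - 1) * α - G * (s * μ / κ) * β) + (G - 1) * (G * s * α + (G - 1) * β)) • z ∈ S ∧
        (2 - 16 * (s * s) * (κ * μ) / ((κ + s * s * μ) * (κ + s * s * μ))) • (α • y + β • z) ∈ S) := by
    intro s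
    refine ⟨_, rfl, fun α β hx => ?_⟩
    set G := 2 * κ / (κ + s * s * μ) with hG
    set u := y + s • z with hu
    have huu : B u u = κ + s * s * μ := by
      simp only [hu, map_add, map_smul, LinearMap.add_apply, LinearMap.smul_apply, smul_eq_mul, hyz,
        hzy, ← hκ, ← hμ]
      ring
    have hau : B a u = 0 := by simp [hu, hay, haz]
    obtain ⟨g, hgl, hgB, hgi, hg⟩ := hrefl u (by rw [huu]; exact hDs s)
    have hfix : g a = a ∧ h a = a := ⟨by rw [hg, hau]; simp, by rw [hh, hay]; simp⟩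
    have hg' : ∀ p q : L, g (p • y + q • z) =
        ((1 - G) * p - G * (s * μ / κ) * q) • y + (-(G * s) * p + (G - 1) * q) • z := by
      intro p q
      rw [hg, huu]
      simp only [hu, map_add, map_smul, LinearMap.add_apply, LinearMap.smul_apply, smul_eq_mul, hyz,
        hzy, ← hκ, ← hμ]
      have := hDs s
      have := hDp s
      match_scalars <;> simp only [hG] <;> field_simp <;> ring
    have hh' : ∀ p q : L, h (p • y + q • z) = (-p) • y + q • z := by
      intro p q
      rw [hh]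
      simp only [map_add, map_smul, LinearMap.add_apply, LinearMap.smul_apply, smul_eq_mul, hzy,
        ← hκ]
      match_scalars <;> field_simp <;> ring
    have h1 := hkeep _ (hV.comm g h hgl hgB hhl hhB)
      (by rw [hgi, hhi]; show g (h (g (h a))) = a; rw [hfix.2, hfix.1, hfix.2, hfix.1]) _ hx
    have h3 := hkeep _ (hV.comm h g hhl hhB hgl hgB)
      (by rw [hgi, hhi]; show h (g (h (g a))) = a; rw [hfix.1, hfix.2, hfix.1, hfix.2]) _ hx
    rw [hgi, hhi] at h1 h3
    change g (h (g (h (α • y + β • z)))) ∈ S at h1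
    change h (g (h (g (α • y + β • z)))) ∈ S at h3
    simp only [hg', hh'] at h1 h3
    constructor
    · convert h1 using 1
      match_scalars <;> ring
    · convert S.add_mem h1 h3 using 1
      have := hDs s
      have := hDp s
      match_scalars <;> simp only [hG] <;> field_simp <;> ring
  -- the multipliers
  let A : Subfield L :=
    { carrier := {l | ∀ α β : L, α • y + β • z ∈ S → l • (α • y + β • z) ∈ S}
      mul_mem' := fun {k l} hk hl α β hx => by
        have h1 := hl α β hx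
        rw [smul_add, smul_smul, smul_smul] at h1
        have h3 := hk _ _ h1
        convert h3 using 1
        module
      one_mem' := fun α β hx => by simpa using hx
      zero_mem' := fun α β _ => by rw [zero_smul]; exact S.zero_mem
      add_mem' := fun {k l} hk hl α β hx => by
        rw [add_smul]; exact S.add_mem (hk α β hx) (hl α β hx)
      neg_mem' := fun {k} hk α β hx => by rw [neg_smul]; exact S.neg_mem (hk α β hx)
      inv_mem' := fun l hl => by
        show ∀ α β : L, α • y + β • z ∈ S → l⁻¹ • (α • y + β • z) ∈ S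
        by_cases hl0 : l = 0
        · subst hl0; simpa using hl
        have hpow : ∀ n : ℕ, ∀ α β : L, α • y + β • z ∈ S → l ^ n • (α • y + β • z) ∈ S := by
          intro n
          induction n with
          | zero => intro α β hx; simpa using hx
          | succ n ih =>
            intro α β hx
            have h1 := hl α β hx
            rw [smul_add, smul_smul, smul_smul] at h1
            have h3 := ih _ _ h1
            rw [pow_succ]
            convert h3 using 1
            module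
        have hN := FiniteField.pow_card_sub_one_eq_one l hl0
        have hN1 : 1 < Fintype.card L := Fintype.one_lt_card
        rw [show l⁻¹ = l ^ (Fintype.card L - 2) from inv_eq_of_mul_eq_one_right (by
          rw [← pow_succ', show Fintype.card L - 2 + 1 = Fintype.card L - 1 by omega, hN])]
        exact hpow _ }
  let f : L → L := fun s => 16 * (s * s) * (κ * μ) / ((κ + s * s * μ) * (κ + s * s * μ))
  have hfA : ∀ s, f s ∈ A := fun s => by
    have h1 : (2 : L) - f s ∈ A := fun α β hx => by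
      obtain ⟨G, -, hG⟩ := hrot s
      exact (hG α β hx).2
    have h3 : (2 : L) ∈ A := by simpa using A.add_mem A.one_mem A.one_mem
    simpa using A.sub_mem h3 h1
  have h16 : (16 : L) ≠ 0 := by
    rw [show (16 : L) = 2 ^ 4 by norm_num]; exact pow_ne_zero _ h22
  have hf0 : ∀ s, s ≠ 0 → f s ≠ 0 ∧ ∀ r : L, f s ≠ r * r := fun s hs0 => by
    refine ⟨div_ne_zero (mul_ne_zero (mul_ne_zero h16 (mul_ne_zero hs0 hs0)) (mul_ne_zero hκ0 hz))
      (mul_ne_zero (hDs s) (hDs s)), fun r h => hns (r * (κ + s * s * μ) / (4 * s)) ?_⟩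
    have h4 : (4 : L) ≠ 0 := by rw [show (4 : L) = 2 ^ 2 by norm_num]; exact pow_ne_zero _ h22
    have := hDs s
    have := hDp s
    simp only [f] at h
    field_simp at h ⊢
    linear_combination h
  -- few preimages
  have hfib : ∀ s t : L, s ≠ 0 → f t = f s →
      t ∈ ({s, -s, κ / (s * μ), -(κ / (s * μ))} : Finset L) := by
    intro s t hs0 h
    have h4 : (t * (κ + s * s * μ) - s * (κ + t * t * μ)) *
        (t * (κ + s * s * μ) + s * (κ + t * t * μ)) = 0 := by
      have := hDs s; have := hDs t; have := hDp s; have := hDp t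
      simp only [f] at h
      field_simp at h
      have h' : t ^ 2 * (κ + μ * s ^ 2) ^ 2 = (κ + t ^ 2 * μ) ^ 2 * s ^ 2 :=
        (eq_div_iff (pow_ne_zero 2 (by rw [mul_comm μ]; exact hDp s))).1 h
      linear_combination h'
    simp only [Finset.mem_insert, Finset.mem_singleton]
    rcases mul_eq_zero.1 h4 with h5 | h5
    · have h6 : (t - s) * (κ - s * t * μ) = 0 := by linear_combination h5
      rcases mul_eq_zero.1 h6 with h7 | h7
      · exact .inl (sub_eq_zero.1 h7)
      · exact .inr (.inr (.inl (by field_simp; linear_combination -h7)))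
    · have h6 : (t + s) * (κ + s * t * μ) = 0 := by linear_combination h5
      rcases mul_eq_zero.1 h6 with h7 | h7
      · exact .inr (.inl (eq_neg_of_add_eq_zero_left h7))
      · exact .inr (.inr (.inr (by field_simp; linear_combination h7)))
  -- everything multiplies
  have hA : ∀ l, l ∈ A := by
    by_contra hne
    push Not at hne
    obtain ⟨l, hl⟩ := hne
    have hsq : Fintype.card A * Fintype.card A ≤ Fintype.card L := by
      rw [Module.card_eq_pow_finrank (K := A) (V := L), ← pow_two]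
      refine Nat.pow_le_pow_right Fintype.card_pos ?_
      by_contra h
      push Not at h
      have h1 : finrank A L = 1 := by
        have : 0 < finrank A L := Module.finrank_pos
        omega
      obtain ⟨c, hc⟩ := exists_smul_eq_of_finrank_eq_one h1 (x := (1 : L)) one_ne_zero l
      rw [Subfield.smul_def, smul_eq_mul, mul_one] at hc
      exact hl (hc ▸ c.2)
    set T : Finset L := Finset.univ.erase 0
    have himg : T.image f ⊆ (Finset.univ.filter (· ∈ A)).erase 0 := by
      intro x hx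
      obtain ⟨s, hs', rfl⟩ := Finset.mem_image.1 hx
      exact Finset.mem_erase.2 ⟨(hf0 s (Finset.ne_of_mem_erase hs')).1,
        Finset.mem_filter.2 ⟨Finset.mem_univ _, hfA s⟩⟩
    have hcount : T.card ≤ 4 * (T.image f).card :=
      Finset.card_le_mul_card_image T 4 fun x hx => by
        obtain ⟨s, hs', rfl⟩ := Finset.mem_image.1 hx
        refine le_trans (Finset.card_le_card (t := {s, -s, κ / (s * μ), -(κ / (s * μ))})
          fun t ht => hfib s t (Finset.ne_of_mem_erase hs') (Finset.mem_filter.1 ht).2) ?_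
        exact Finset.card_le_four
    have hle := Finset.card_le_card himg
    rw [Finset.card_erase_of_mem (Finset.mem_filter.2 ⟨Finset.mem_univ _, A.zero_mem⟩),
      ← Fintype.card_subtype] at hle
    rw [Finset.card_erase_of_mem (Finset.mem_univ _), Finset.card_univ] at hcount
    have h2A : 1 < Fintype.card A := Fintype.one_lt_card
    have hsub' : Fintype.card {x // x ∈ A} = Fintype.card A := Fintype.card_congr (Equiv.refl _)
    have ha : Fintype.card A ≤ 3 := by
      by_contra h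
      have h5 : 4 * Fintype.card A ≤ Fintype.card A * Fintype.card A :=
        Nat.mul_le_mul_right _ (by omega)
      omega
    have hsub : ({0, 1, -1} : Finset L) = Finset.univ.filter (· ∈ A) := by
      refine Finset.eq_of_subset_of_card_le (fun x hx => ?_) ?_
      · simp only [Finset.mem_insert, Finset.mem_singleton] at hx
        refine Finset.mem_filter.2 ⟨Finset.mem_univ _, ?_⟩
        rcases hx with rfl | rfl | rfl
        exacts [A.zero_mem, A.one_mem, A.neg_mem A.one_mem]
      · rw [← Fintype.card_subtype, Finset.card_eq_three.2 ⟨0, 1, -1, zero_ne_one,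
          (neg_ne_zero.2 one_ne_zero).symm, fun h => h22 (by linear_combination h), rfl⟩]
        exact ha
    obtain ⟨hne0, hnsq⟩ := hf0 1 one_ne_zero
    have h1 : f 1 ∈ ({0, 1, -1} : Finset L) := by
      rw [hsub]; exact Finset.mem_filter.2 ⟨Finset.mem_univ _, hfA 1⟩
    simp only [Finset.mem_insert, Finset.mem_singleton] at h1
    rcases h1 with h1 | h1 | h1
    exacts [hne0 h1, hnsq 1 (by rw [h1, one_mul]), hnsq i (by rw [h1, hi])]
  have hsc : ∀ (l α β : L), α • y + β • z ∈ S → (l * α) • y + (l * β) • z ∈ S := fun l α β hx => by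
    have h1 := hA l α β hx
    rwa [smul_add, smul_smul, smul_smul] at h1
  have hy1 : (1 : L) • y + (0 : L) • z ∈ S := by simpa using hyS
  obtain ⟨G, hG, hrot1⟩ := hrot 1
  obtain ⟨h1, -⟩ := hrot1 1 0 hy1
  simp only [one_mul, mul_one, mul_zero, sub_zero, add_zero] at h1
  set p := (G - 1) * (G - 1) - G * (μ / κ) * G
  set q := G * (G - 1) + (G - 1) * G with hq
  have hq0 : q ≠ 0 := by
    have hD1 : κ + μ ≠ 0 := by simpa using hDs 1
    have hG0 : G ≠ 0 := by
      rw [hG]; exact div_ne_zero (mul_ne_zero h22 hκ0) (hDs 1)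
    have hG1 : G - 1 ≠ 0 := fun h => by
      rw [hG] at h
      have h3 : κ = μ := by field_simp at h; linear_combination h
      exact hns κ (by rw [h3])
    rw [hq, show G * (G - 1) + (G - 1) * G = 2 * (G * (G - 1)) by ring]
    exact mul_ne_zero h22 (mul_ne_zero hG0 hG1)
  have hzS : ∀ l : L, (0 : L) • y + l • z ∈ S := fun l => by
    have h3 := S.sub_mem (hsc (l / q) p q h1) (hsc (l / q * p) 1 0 hy1)
    convert h3 using 1
    match_scalars <;> field_simp <;> ring
  have h3 := S.add_mem (hsc α 1 0 hy1) (hzS β)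
  convert h3 using 1
  module

/-- Degree two. -/
lemma centre_two (hr : finrank F L = 2)
    (hN : 5 ≤ finrank L (ι → F) ∨ finrank L (ι → F) = 4 ∧
      ∀ u v : ι → F, B u u = 0 → B v v = 0 → B u v = 0 → u ≠ 0 → ∃ l : L, v = l • u)
    (hroot : ∀ c, B c c = 0 → ∀ k l : L, (eich Q (k • c) (l • c) : GL ι F) ∈ M)
    {a : ι → F} (hs : B a a = 0) (ha : a ≠ 0) {w : ι → F} (hw : polar ⇑Q a w = 0) :
    w ∈ centreSet Q M (Q_eq_zero hB h2 hs) := by
  haveI : Module.Finite L (ι → F) := Module.Finite.of_finite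
  obtain ⟨a₀, ha₀, hs₀, ⟨y₁, hy₁, hy₁a, hy₁q⟩, hγ₀⟩ := config_two hB hMΩ h2 hV hr (by omega) hroot
  -- all vectors orthogonal over `L`
  have hperp : ∀ {a : ι → F} (hs : B a a = 0), a ≠ 0 → ∀ x, B a x = 0 →
      x ∈ centreSet Q M (Q_eq_zero hB h2 hs) := by
    intro a hs ha x hx
    set S := centreSet Q M (Q_eq_zero hB h2 hs)
    have hline : ∀ l : L, l • a ∈ S := fun l => ⟨by
      have := polar_line hB h2 hs (1 : L) l
      rwa [one_smul] at this, by simpa using hroot a hs 1 l⟩
    obtain ⟨_, ⟨g, hg, rfl⟩, -, hgB, hga⟩ := hV.exists_move ha₀ hs₀ ha hs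
    obtain ⟨h, -, rfl⟩ := Orth.mem_omegaGL_iff.1 (hMΩ hg)
    set y := ap h y₁ with hy
    have hyS : y ∈ S := centreSet_map (Q_eq_zero hB h2 hs₀) hg (Q_eq_zero hB h2 hs)
      (by rw [← app_eq_ap, hga]) hy₁
    have hyq : B y y ≠ 0 := by rw [hy, ← app_eq_ap, hgB]; exact hy₁q
    have hya : B a y = 0 := by rw [hy, ← app_eq_ap, ← hga, hgB, hy₁a]
    -- the invariance
    have hinv : ∀ c x, B c c = 0 → B c x = 0 → B a c = 0 → B a x = 0 →
        B y c • x - B y x • c - ((2 : L)⁻¹ * B x x * B y c) • c ∈ S := by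
      intro c x hc hcx hac hax
      obtain ⟨_, ⟨g', hg', rfl⟩, hgx⟩ := hV.siegel_mem hc hcx
      obtain ⟨h', -, rfl⟩ := Orth.mem_omegaGL_iff.1 (hMΩ hg')
      have hfix : ap h' a = a := by rw [← app_eq_ap, hgx, hac, hax]; simp
      have h1 := S.sub_mem
        (centreSet_map (Q_eq_zero hB h2 hs) hg' (Q_eq_zero hB h2 hs) hfix hyS) hyS
      convert h1 using 1
      rw [← app_eq_ap, hgx]; abel
    obtain ⟨a', haa', ha'a, hs'⟩ := hV.exists_partner ha hs
    set U := perpK B a a' with hU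
    have hUdim : finrank L (ι → F) ≤ finrank L U + 2 := finrank_perpK B a a'
    have hUnd := hV.perp_nondeg hs hs' (by rw [haa']; exact one_ne_zero)
    set y₀ := y - B y a' • a with hy₀
    have hy₀U : y₀ ∈ U := mem_perpK.2 ⟨by simp [hy₀, hya, hs],
      by simp only [hy₀, map_sub, map_smul, ha'a, smul_eq_mul, hV.symm a' y]; ring⟩
    have hy₀q : B y₀ y₀ = B y y := by
      simp [hy₀, hs, hya, hV.symm y a]
    have hyU : ∀ u ∈ U, B y u = B y₀ u := fun u hu => by
      simp [hy₀, (mem_perpK.1 hu).1]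
    have hsplit : ∀ {v : ι → F}, B v v ≠ 0 → v ∈ U → ∀ z ∈ U, z - (B v z / B v v) • v ∈ U ⊓
        LinearMap.ker (B v) := fun {v} hv hvU z hz => ⟨U.sub_mem hz (U.smul_mem _ hvU), by
      show B v _ = 0
      rw [map_sub, map_smul, smul_eq_mul, div_mul_cancel₀ _ hv, sub_self]⟩
    have hdimdrop : ∀ (W : Submodule L (ι → F)) v,
        finrank L W ≤ finrank L (W ⊓ LinearMap.ker (B v) : Submodule L (ι → F)) + 1 := by
      intro W v
      have h1 := Submodule.finrank_sup_add_finrank_inf_eq W (LinearMap.ker (B v))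
      have h3 := Submodule.finrank_le (W ⊔ LinearMap.ker (B v))
      have h4 := LinearMap.finrank_range_add_finrank_ker (B v)
      have h5 := Submodule.finrank_le (LinearMap.range (B v))
      rw [Module.finrank_self] at h5
      omega
    set U₁ := U ⊓ LinearMap.ker (B y₀)
    have hy₀0 : B y₀ y₀ ≠ 0 := by rw [hy₀q]; exact hyq
    have hU₁nd : ∀ z ∈ U₁, (∀ v ∈ U₁, B z v = 0) → z = 0 := fun z hz h => hUnd z hz.1 fun v hv => by
      have h1 := h _ (hsplit hy₀0 hy₀U v hv)
      have h2' : B z y₀ = 0 := by rw [hV.symm]; exact hz.2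
      rwa [map_sub, map_smul, h2', smul_zero, sub_zero] at h1
    have hy₀S : y₀ ∈ S := by
      have h3 := S.sub_mem hyS (hline (B y a'))
      exact h3
    have hUS : ∀ v ∈ U, v ∈ S := by
      rcases hN with hN | ⟨hN4, haniso⟩
      swap
      · -- an anisotropic plane
        letI := Fintype.ofFinite L
        have hU₁2 : finrank L U₁ ≤ 1 := by
          by_contra h
          obtain ⟨w, hw, hwq⟩ := hV.exists_norm U₁ (by omega) hU₁nd (-(B y₀ y₀))
          have hyw : B y₀ w = 0 := hw.2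
          have hs3 : B (y₀ + w) (y₀ + w) = 0 := by
            simp only [map_add, LinearMap.add_apply, hyw, hV.symm w y₀, hwq]; ring
          obtain ⟨l, hl⟩ := haniso a (y₀ + w) hs hs3
            (by rw [map_add, (mem_perpK.1 hy₀U).1, (mem_perpK.1 hw.1).1, add_zero]) ha
          have h0 : B a' (y₀ + w) = 0 := by
            rw [map_add, (mem_perpK.1 hy₀U).2, (mem_perpK.1 hw.1).2, add_zero]
          rw [hl, map_smul, ha'a, smul_eq_mul, mul_one] at h0
          have h4 : y₀ + w = 0 := by rw [hl, h0, zero_smul]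
          apply hy₀0
          have h5 : B y₀ (y₀ + w) = 0 := by rw [h4, map_zero]
          rwa [map_add, hyw, add_zero] at h5
        obtain ⟨z, hz, hz0⟩ := (Submodule.ne_bot_iff U₁).1 fun hb => by
          have h6 := hdimdrop U y₀
          have h7 : finrank L (U ⊓ LinearMap.ker (B y₀) : Submodule L (ι → F)) = 0 := by
            rw [show U ⊓ LinearMap.ker (B y₀) = U₁ from rfl, hb, finrank_bot]
          omega
        have hline1 : ∀ v ∈ U₁, ∃ β : L, β • z = v := by
          have h1 : finrank L U₁ = 1 := by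
            have : 1 ≤ finrank L U₁ := Submodule.one_le_finrank_iff.2 fun hb => hz0 (by
              rw [hb] at hz; exact (Submodule.mem_bot L).1 hz)
            omega
          intro v hv
          obtain ⟨β, hβ⟩ := exists_smul_eq_of_finrank_eq_one h1 (x := (⟨z, hz⟩ : U₁))
            (fun h => hz0 (congrArg Subtype.val h)) ⟨v, hv⟩
          exact ⟨β, congrArg Subtype.val hβ⟩
        have hzz : B z z ≠ 0 := fun h => hz0 (hU₁nd z hz fun v hv => by
          obtain ⟨β, rfl⟩ := hline1 v hv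
          rw [map_smul, h, smul_zero])
        have hD : ∀ s : L, B y₀ y₀ + s * s * B z z ≠ 0 := by
          intro s h
          have hyz : B y₀ z = 0 := hz.2
          have hs3 : B (y₀ + s • z) (y₀ + s • z) = 0 := by
            simp only [map_add, map_smul, LinearMap.add_apply, LinearMap.smul_apply, smul_eq_mul,
              hyz, hV.symm z y₀]
            linear_combination h
          obtain ⟨l, hl⟩ := haniso a (y₀ + s • z) hs hs3
            (by rw [map_add, map_smul, (mem_perpK.1 hy₀U).1, (mem_perpK.1 hz.1).1, smul_zero,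
              add_zero]) ha
          have h0 : B a' (y₀ + s • z) = 0 := by
            rw [map_add, map_smul, (mem_perpK.1 hy₀U).2, (mem_perpK.1 hz.1).2, smul_zero, add_zero]
          rw [hl, map_smul, ha'a, smul_eq_mul, mul_one] at h0
          have h4 : y₀ + s • z = 0 := by rw [hl, h0, zero_smul]
          apply hy₀0
          have h5 : B y₀ (y₀ + s • z) = 0 := by rw [h4, map_zero]
          rwa [map_add, map_smul, hyz, smul_zero, add_zero] at h5
        intro v hv
        obtain ⟨β, hβ⟩ := hline1 _ (hsplit hy₀0 hy₀U v hv)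
        have h8 := plane_mem hB hMΩ h2 hV hr hs (mem_perpK.1 hy₀U).1 (mem_perpK.1 hz.1).1 hz.2 hzz hD
          hy₀S (B y₀ v / B y₀ y₀) β
        rwa [hβ, add_sub_cancel] at h8
      obtain ⟨w₁, hw₁, hw₁q⟩ := hV.exists_norm U₁ (by
          have := hdimdrop U y₀
          show 2 ≤ finrank L (U ⊓ LinearMap.ker (B y₀) : Submodule L (ι → F))
          omega)
        hU₁nd (-(B y₀ y₀))
      have hw₁0 : B w₁ w₁ ≠ 0 := by rw [hw₁q]; exact neg_ne_zero.2 hy₀0
      set U₂ := U₁ ⊓ LinearMap.ker (B w₁)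
      have hU₂nd : ∀ z ∈ U₂, (∀ v ∈ U₂, B z v = 0) → z = 0 := fun z hz h => hU₁nd z hz.1 fun v hv => by
        have h1 := h (v - (B w₁ v / B w₁ w₁) • w₁)
          ⟨U₁.sub_mem hv (U₁.smul_mem _ hw₁), (hsplit hw₁0 hw₁.1 v hv.1).2⟩
        have h2' : B z w₁ = 0 := by rw [hV.symm]; exact hz.2
        rwa [map_sub, map_smul, h2', smul_zero, sub_zero] at h1
      obtain ⟨w₂, hw₂, hw₂q⟩ : ∃ w ∈ U₂, B w w ≠ 0 := by
        by_contra h
        push Not at h
        obtain ⟨x, hx, hx0⟩ := (Submodule.ne_bot_iff U₂).1 fun hb => by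
          have := hdimdrop U y₀
          have := hdimdrop U₁ w₁
          have : finrank L U₁ = finrank L (U ⊓ LinearMap.ker (B y₀) : Submodule L (ι → F)) := rfl
          have h0 : finrank L (U₁ ⊓ LinearMap.ker (B w₁) : Submodule L (ι → F)) = 0 := by
            rw [show U₁ ⊓ LinearMap.ker (B w₁) = U₂ from rfl, hb, finrank_bot]
          omega
        refine hx0 (hU₂nd x hx fun z hz => ?_)
        have h1 := h _ (U₂.add_mem hx hz)
        simp only [map_add, LinearMap.add_apply, h x hx, h z hz, zero_add, add_zero,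
          hV.symm z x] at h1
        exact (mul_eq_zero.1 (show (2 : L) * B x z = 0 by linear_combination h1)).resolve_left hV.two
      have hy₀w₁ : B y₀ w₁ = 0 := hw₁.2
      have hy₀w₂ : B y₀ w₂ = 0 := hw₂.1.2
      have hw₁w₂ : B w₁ w₂ = 0 := hw₂.2
      -- one singular vector gives its orthogonal
      have hpiece : ∀ s : L, (s = 1 ∨ s = -1) → ∀ v ∈ U, B (y₀ + s • w₁) v = 0 → v ∈ S := by
        intro s hs1 v hv hcv
        have hss : s * s = 1 := by rcases hs1 with rfl | rfl <;> ring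
        set c := y₀ + s • w₁ with hc
        have hcU : c ∈ U := U.add_mem hy₀U (U.smul_mem _ hw₁.1)
        have hcs : B c c = 0 := by
          simp only [hc, map_add, map_smul, LinearMap.add_apply, LinearMap.smul_apply, smul_eq_mul,
            hy₀w₁, hV.symm w₁ y₀, hw₁q]
          linear_combination -(B y₀ y₀) * hss
        have hyc : B y c = B y₀ y₀ := by rw [hyU c hcU]; simp [hc, hy₀w₁]
        have hcw : B c w₂ = 0 := by simp [hc, hy₀w₂, hw₁w₂]
        have hac : B a c = 0 := (mem_perpK.1 hcU).1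
        -- the line of `c`
        have hKc : ∀ k : L, k • c ∈ S := by
          intro k
          have hsq : ∀ p : L, (p * p * B w₂ w₂ * (B y₀ y₀)⁻¹) • c ∈ S := by
            intro p
            have hyw : B y w₂ = 0 := by rw [hyU w₂ hw₂.1.1, hy₀w₂]
            set κ := B y₀ y₀ with hκ
            -- scale the singular vector
            have h1 := hinv (κ⁻¹ • c) (p • w₂) (by simp [hcs]) (by simp [hcw]) (by simp [hac])
              (by simp [(mem_perpK.1 hw₂.1.1).1])
            have h3 := hinv (κ⁻¹ • c) (-(p • w₂)) (by simp [hcs]) (by simp [hcw]) (by simp [hac])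
              (by simp [(mem_perpK.1 hw₂.1.1).1])
            have h4 := S.neg_mem (S.add_mem h1 h3)
            convert h4 using 1
            simp only [map_smul, map_neg, LinearMap.neg_apply, LinearMap.smul_apply, smul_eq_mul,
              hyw, hyc, mul_zero, neg_zero, zero_smul, sub_zero, mul_one, neg_neg]
            match_scalars <;>
              first
                | ring1
                | (have h22 : (2 : L) ≠ 0 := hV.two; have hκ0 : κ ≠ 0 := hy₀0; field_simp; ring1)
          -- squares span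
          convert S.sub_mem (hsq ((k * B y₀ y₀ / B w₂ w₂ + 1) / 2))
            (hsq ((k * B y₀ y₀ / B w₂ w₂ - 1) / 2)) using 1
          rw [← sub_smul]
          congr 1
          have h22 : (2 : L) ≠ 0 := hV.two
          field_simp
          ring
        have hav : B a v = 0 := (mem_perpK.1 hv).1
        have hκ0 : B y₀ y₀ ≠ 0 := hy₀0
        have h1 := hinv c ((B y₀ y₀)⁻¹ • v) hcs (by simp [hcv]) hac (by simp [hav])
        have h3 := S.add_mem h1
          (hKc (B y ((B y₀ y₀)⁻¹ • v) + (2 : L)⁻¹ * B ((B y₀ y₀)⁻¹ • v) ((B y₀ y₀)⁻¹ • v) * B y c))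
        convert h3 using 1
        rw [hyc, smul_smul, mul_inv_cancel₀ hκ0, one_smul, add_smul]
        abel
      intro v hv
      set c₂ := y₀ + (-1 : L) • w₁
      have hcc : B (y₀ + (1 : L) • w₁) c₂ ≠ 0 := by
        simp only [c₂, map_add, map_smul, LinearMap.add_apply, LinearMap.smul_apply, smul_eq_mul,
          hy₀w₁, hV.symm w₁ y₀, hw₁q]
        intro h
        exact mul_ne_zero hV.two hy₀0 (by linear_combination h)
      have hc₂U : c₂ ∈ U := U.add_mem hy₀U (U.smul_mem _ hw₁.1)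
      have hc₂s : B c₂ c₂ = 0 := by
        simp only [c₂, map_add, map_smul, LinearMap.add_apply, LinearMap.smul_apply, smul_eq_mul,
          hy₀w₁, hV.symm w₁ y₀, hw₁q]
        ring
      set t := B (y₀ + (1 : L) • w₁) v / B (y₀ + (1 : L) • w₁) c₂
      have hdec : v = (v - t • c₂) + t • c₂ := by abel
      rw [hdec]
      refine S.add_mem (hpiece 1 (Or.inl rfl) _ (U.sub_mem hv (U.smul_mem _ hc₂U)) ?_)
        (hpiece (-1) (Or.inr rfl) _ (U.smul_mem _ hc₂U) ?_)
      · rw [map_sub, map_smul, smul_eq_mul, div_mul_cancel₀ _ hcc, sub_self]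
      · rw [map_smul, hc₂s, smul_zero]
    have hz : x - B x a' • a ∈ U := mem_perpK.2 ⟨by simp [hs, hx], by
      simp only [map_sub, map_smul, ha'a, smul_eq_mul, hV.symm a' x]; ring⟩
    have h5 := S.add_mem (hUS _ hz) (hline (B x a'))
    rwa [sub_add_cancel] at h5
  -- the remaining direction
  have hlamw : lam (B a w) = 0 := by rw [hB, hw]
  obtain ⟨y₂, hy₂, hy₂a⟩ := hγ₀ (fun v hv => hperp hs₀ ha₀ v hv) (B a w) hlamw
  obtain ⟨_, ⟨g, hg, rfl⟩, -, hgB, hga⟩ := hV.exists_move ha₀ hs₀ ha hs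
  obtain ⟨h, -, rfl⟩ := Orth.mem_omegaGL_iff.1 (hMΩ hg)
  have hy₂S := centreSet_map (Q_eq_zero hB h2 hs₀) hg (Q_eq_zero hB h2 hs)
    (by rw [← app_eq_ap, hga]) hy₂
  have h6 : w - ap h y₂ ∈ centreSet Q M (Q_eq_zero hB h2 hs) := hperp hs ha _ (by
    rw [map_sub, sub_eq_zero]
    nth_rewrite 2 [← hga]
    rw [← app_eq_ap, hgB, hy₂a])
  have h7 := (centreSet Q M (Q_eq_zero hB h2 hs)).add_mem h6 hy₂S
  rwa [sub_add_cancel] at h7

/-- Root elements of a singular line give all of `Ω`. -/
theorem omega_le_of_roots (hG : Orth.Good Q) (hn : 5 ≤ Fintype.card ι)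
    (hbig : finrank F L = 2 → 5 ≤ finrank L (ι → F) ∨ finrank L (ι → F) = 4 ∧
      ∀ u v : ι → F, B u u = 0 → B v v = 0 → B u v = 0 → u ≠ 0 → ∃ l : L, v = l • u)
    {a₁ : ι → F} (ha₁ : a₁ ≠ 0) (hs₁ : B a₁ a₁ = 0)
    (hroot : ∀ k l : L, ∃ g ∈ M.map app, ∀ x : ι → F,
      g x = x + lam (B x (k • a₁)) • (l • a₁) - lam (B x (l • a₁)) • (k • a₁)) :
    Geo.omegaGL ⇑Q ≤ M := by
  have hroot₁ : ∀ k l : L, (eich Q (k • a₁) (l • a₁) : GL ι F) ∈ M := fun k l =>
    eich_of_root hV.toOrCore hB hMΩ h2 hs₁ (hroot k l)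
  have hall : ∀ c, B c c = 0 → ∀ k l : L, (eich Q (k • c) (l • c) : GL ι F) ∈ M :=
    fun c hc => roots_all hV.toOrCore hB hMΩ h2 hs₁ (fun c hc0 hc => by
      obtain ⟨g, hg, hgl, -, hgc⟩ := hV.exists_move ha₁ hs₁ hc0 hc
      exact ⟨g, hg, hgl, 1, one_ne_zero, by rw [hgc, one_smul]⟩) hroot₁ hc
  rcases (by have := hV.deg.two_le; omega : finrank F L = 2 ∨ 3 ≤ finrank F L) with hr | hr
  · obtain ⟨a', haa', -, hs'⟩ := hV.exists_partner ha₁ hs₁
    obtain ⟨e, he⟩ := lam_ne_zero hV.lam_ne (one_ne_zero (α := L))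
    rw [mul_one] at he
    have he0 : e ≠ 0 := fun h => he (by rw [h, map_zero])
    have hcentre : ∀ (a : ι → F), a ≠ 0 → B a a = 0 → a ∈ Orth.eichCentres Q M := by
      intro a ha hs
      refine ⟨Q_eq_zero hB h2 hs, fun w => ?_⟩
      by_cases hw : polar ⇑Q a w = 0
      · exact (centre_two hB hMΩ h2 hV hr (hbig hr) hall hs ha hw).2
      · rw [Orth.eich_eq_one fun h => hw h.2]; exact one_mem M
    refine Orth.omegaGL_le_of_centres hG hn (hcentre a₁ ha₁ hs₁)
      (hcentre (e • a') (fun h => ?_) (by simp [hs'])) ?_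
    · have h1 : B a₁ (e • a') = 0 := by rw [h, map_zero]
      simp [haa', he0] at h1
    · rw [← hB, map_smul, haa', smul_eq_mul, mul_one]; exact he
  · exact omega_le_of_roots_three hV.toOrCore hB hMΩ h2 hG hn hr ha₁ hs₁ hall

omit hV hB hMΩ h2

/-- Between the normaliser of a self-adjoint field in `Ω` and `Ω` there is nothing, and some
element of `Ω` does not normalise the field. -/
theorem or_cases_aux {L : Type*} [Field L] [Finite L] [Algebra F L] {r : ℕ} (hr : r.Prime)
    (j : L →ₐ[F] Matrix ι ι F) (hdeg : finrank F L = r) (hG : Orth.Good Q) (h2 : (2 : F) ≠ 0)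
    (h3r : 3 * r ≤ Fintype.card ι) (hne : Fintype.card ι ≠ 3 * r) (h10 : r = 2 → 10 ≤ Fintype.card ι ∨
      Fintype.card ι = 8 ∧ ¬ Geo.IsPlusTypeOn ⇑Q ⊤)
    {K : Subalgebra F (Matrix ι ι F)} (hjK : ∀ x, x ∈ K ↔ ∃ l, j l = x)
    (hsa : Geo.IsSelfAdjointFor (polar ⇑Q) K) :
    (∀ M : Subgroup (GL ι F), Geo.subalgebraNormalizer K ⊓ Geo.omegaGL ⇑Q ≤ M →
      M ≤ Geo.omegaGL ⇑Q → M ≤ Geo.subalgebraNormalizer K ∨ Geo.omegaGL ⇑Q ≤ M) ∧
    (∃ g ∈ Geo.omegaGL ⇑Q, g ∉ Geo.subalgebraNormalizer K) := by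
  classical
  haveI : Module.Finite F L := Module.Finite.of_finite
  have := hr.two_le
  haveI : Nonempty ι := Fintype.card_pos_iff.1 (by omega)
  let ρ : L →+* ((ι → F) →ₗ[F] (ι → F)) :=
    (Matrix.toLinAlgEquiv' : Matrix ι ι F ≃ₐ[F] _).toAlgHom.toRingHom.comp j.toRingHom
  letI : Module L (ι → F) := Module.compHom _ ρ
  have hsmul : ∀ (k : L) (x : ι → F), k • x = j k *ᵥ x := fun k x => by
    show ρ k x = _
    simp [ρ]
  haveI : IsScalarTower F L (ι → F) := ⟨fun c k x => by
    rw [hsmul, hsmul, map_smul, Matrix.smul_mulVec]⟩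
  have hNdim : r * finrank L (ι → F) = Fintype.card ι := by
    have h := Module.finrank_mul_finrank F L (ι → F)
    rwa [Module.finrank_fintype_fun_eq_card, hdeg] at h
  obtain ⟨lam, hlam⟩ := Projective.exists_dual_ne_zero F (one_ne_zero (α := L))
  have hl : lam ≠ 0 := fun h => hlam (by rw [h]; rfl)
  obtain ⟨B, hB⟩ := exists_form (f := polar ⇑Q)
    ⟨fun x y v => Orth.pl_add_left Q x y v, fun c x v => Orth.pl_smul_left Q c x v,
      fun v x y => Orth.pl_add_right Q v x y, fun c v x => Orth.pl_smul_right Q c v x⟩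
    (L := L) (fun k u v => by
      rw [hsmul, hsmul]; exact hsa _ ((hjK _).2 ⟨k, rfl⟩) u v) hl
  have hadj : ∀ (k : L) u v, polar ⇑Q (k • u) v = polar ⇑Q u (k • v) := fun k u v => by
    rw [hsmul, hsmul]; exact hsa _ ((hjK _).2 ⟨k, rfl⟩) u v
  have hsymm : ∀ x y, B x y = B y x := fun x y => lam_ext hl fun k => by
    rw [← smul_eq_mul, ← smul_eq_mul, ← LinearMap.map_smul₂, hB, ← map_smul, hB, hadj,
      Orth.pl_comm, ← hadj, Orth.pl_comm]
  have hnd : ∀ x, (∀ y, B x y = 0) → x = 0 := fun x hx => hG.nd.1 x fun y => by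
    show polar ⇑Q x y = 0
    rw [← hB, hx, map_zero]
  have h2L : (2 : L) ≠ 0 := fun h => h2 (by
    apply (algebraMap F L).injective
    rw [map_ofNat, h, map_zero])
  have hdim : 4 ≤ finrank L (ι → F) := by
    by_contra h
    have h1 : r * finrank L (ι → F) ≤ r * 3 := Nat.mul_le_mul_left r (by omega)
    exact hne (by omega)
  have hn : 5 ≤ Fintype.card ι := by omega
  have hnorm : ∀ g : GL ι F, g ∈ Geo.subalgebraNormalizer K ↔ Norms L (app g) :=
    fun g => mem_normalizer_iff j hjK hsmul g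
  have happ : ∀ e : (ι → F) ≃ₗ[F] (ι → F), ∃ g : GL ι F, app g = e := fun e => by
    refine ⟨⟨LinearMap.toMatrix' (e : (ι → F) →ₗ[F] ι → F),
      LinearMap.toMatrix' (e.symm : (ι → F) →ₗ[F] ι → F), ?_, ?_⟩, ?_⟩
    · rw [← LinearMap.toMatrix'_comp]; simp
    · rw [← LinearMap.toMatrix'_comp]; simp
    · ext x : 1
      simp [app_apply, LinearMap.toMatrix'_mulVec]
  have hiso : ∀ g : GL ι F, (∀ x y, B (app g x) (app g y) = B x y) → g ∈ isometryGroup F ⇑Q := by
    intro g hg x _
    show Q (app g x) = Q x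
    have h1 := hB (app g x) (app g x)
    rw [hg, hB, Orth.pl_self, Orth.pl_self] at h1
    exact (mul_left_cancel₀ h2 h1).symm
  refine ⟨fun M hM hMΩ => ?_, ?_⟩
  · have hO : OrOvergroup B lam (M.map app) :=
      { deg := by rw [hdeg]; exact hr
        symm := hsymm
        nondeg := hnd
        lam_ne := hl
        two := h2L
        dim := hdim
        comm := fun g h hgl hgB hhl hhB => by
          obtain ⟨g', rfl⟩ := happ g
          obtain ⟨h', rfl⟩ := happ h
          refine ⟨g' * h' * g'⁻¹ * h'⁻¹, hM ⟨?_, ?_⟩, by simp⟩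
          · have hg0 : g' ∈ Geo.subalgebraNormalizer K := (hnorm g').2 fun k => ⟨k, hgl k⟩
            have hh0 : h' ∈ Geo.subalgebraNormalizer K := (hnorm h').2 fun k => ⟨k, hhl k⟩
            exact (Geo.subalgebraNormalizer K).mul_mem ((Geo.subalgebraNormalizer K).mul_mem
              ((Geo.subalgebraNormalizer K).mul_mem hg0 hh0)
              ((Geo.subalgebraNormalizer K).inv_mem hg0)) ((Geo.subalgebraNormalizer K).inv_mem hh0)
          · exact Orth.mem_omegaGL_iff.2 ⟨⁅(⟨g', hiso g' hgB⟩ : IsoGrp Q), ⟨h', hiso h' hhB⟩⁆,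
              Subgroup.commutator_mem_commutator (Subgroup.mem_top _) (Subgroup.mem_top _), rfl⟩
        pres := by
          rintro _ ⟨g, hg, rfl⟩ x y
          obtain ⟨h, -, rfl⟩ := Orth.mem_omegaGL_iff.1 (hMΩ hg)
          rw [hB, hB, app_eq_ap, app_eq_ap, Orth.polar_ap] }
    rcases hO.norms_or_roots with h | ⟨a₁, ha₁, hs₁, hroot⟩
    · exact Or.inl fun g hg => (hnorm g).2 (h _ ⟨g, hg, rfl⟩)
    · refine Or.inr (omega_le_of_roots hB hMΩ h2 hO hG hn (fun h => ?_) ha₁ hs₁ hroot)
      have h2r : r = 2 := hdeg.symm.trans h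
      rw [h2r] at hNdim
      rcases h10 h2r with h10' | ⟨h8, hminus⟩
      · exact Or.inl (by omega)
      refine Or.inr ⟨by omega, fun u v hu hv huv hu0 => ?_⟩
      by_contra hno
      have hvu : v ∉ L ∙ u := fun hm => hno <| by
        obtain ⟨l, hl⟩ := Submodule.mem_span_singleton.1 hm
        exact ⟨l, hl.symm⟩
      have hv0 : v ≠ 0 := fun e => hvu (by rw [e]; exact Submodule.zero_mem _)
      set P : Submodule L (ι → F) := (L ∙ u) ⊔ (L ∙ v) with hP
      haveI : Module.Finite L (ι → F) := Module.Finite.of_finite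
      have hPd : finrank L P = 2 := by
        have hinf : (L ∙ u) ⊓ (L ∙ v) = ⊥ := by
          rw [Submodule.eq_bot_iff]
          rintro x ⟨hx1, hx2⟩
          obtain ⟨c, rfl⟩ := Submodule.mem_span_singleton.1 hx2
          by_contra hx0
          have hc : c ≠ 0 := fun e => hx0 (by rw [e, zero_smul])
          refine hvu ?_
          have := Submodule.smul_mem _ c⁻¹ hx1
          rwa [inv_smul_smul₀ hc] at this
        have h1 := Submodule.finrank_sup_add_finrank_inf_eq (L ∙ u) (L ∙ v)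
        rw [hinf, finrank_bot, finrank_span_singleton hu0, finrank_span_singleton hv0] at h1
        exact h1
      refine hminus ⟨P.restrictScalars F, le_top, fun x hx => Q_eq_zero hB h2 ?_, ?_⟩
      · obtain ⟨x₁, hx₁, x₂, hx₂, rfl⟩ := Submodule.mem_sup.1 hx
        obtain ⟨c, rfl⟩ := Submodule.mem_span_singleton.1 hx₁
        obtain ⟨d, rfl⟩ := Submodule.mem_span_singleton.1 hx₂
        simp [hu, hv, huv, hsymm v u]
      · have h1 := Module.finrank_mul_finrank F L P
        rw [hdeg, h2r, hPd] at h1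
        have h3 : finrank F (P.restrictScalars F) = finrank F P :=
          LinearEquiv.finrank_eq ((Submodule.restrictScalarsEquiv F L (ι → F) P).restrictScalars F)
        rw [h3, finrank_top, Module.finrank_fintype_fun_eq_card]
        omega
  · have hO : OrOvergroup B lam ((Geo.omegaGL ⇑Q).map app) :=
      { deg := by rw [hdeg]; exact hr
        symm := hsymm
        nondeg := hnd
        lam_ne := hl
        two := h2L
        dim := hdim
        comm := fun g h hgl hgB hhl hhB => by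
          obtain ⟨g', rfl⟩ := happ g
          obtain ⟨h', rfl⟩ := happ h
          exact ⟨g' * h' * g'⁻¹ * h'⁻¹, Orth.mem_omegaGL_iff.2
            ⟨⁅(⟨g', hiso g' hgB⟩ : IsoGrp Q), ⟨h', hiso h' hhB⟩⁆,
              Subgroup.commutator_mem_commutator (Subgroup.mem_top _) (Subgroup.mem_top _), rfl⟩,
            by simp⟩
        pres := by
          rintro _ ⟨g, hg, rfl⟩ x y
          obtain ⟨h, -, rfl⟩ := Orth.mem_omegaGL_iff.1 hg
          rw [hB, hB, app_eq_ap, app_eq_ap, Orth.polar_ap] }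
    obtain ⟨w, -, hwq⟩ := hO.exists_norm (⊤ : Submodule L (ι → F))
      (by rw [finrank_top]; omega) (fun x _ h => hnd x fun y => h y Submodule.mem_top) 1
    obtain ⟨a, ha, hs, -⟩ := hO.exists_singular_perp (x := w) (by rw [hwq]; exact one_ne_zero)
    obtain ⟨a', haa', ha'a, -⟩ := hO.exists_partner ha hs
    obtain ⟨l, hl1⟩ : ∃ l : L, l ∉ F ∙ (1 : L) := by
      by_contra h
      push Not at h
      have h1 := Submodule.finrank_mono
        (show (⊤ : Submodule F L) ≤ F ∙ (1 : L) from fun x _ => h x)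
      rw [finrank_top, finrank_span_singleton one_ne_zero, hdeg] at h1
      omega
    obtain ⟨ω, hωl, hω⟩ := Submodule.exists_dual_map_eq_bot_of_notMem hl1 inferInstance
    have hω1 : ω 1 = 0 := by
      have := Submodule.mem_map_of_mem (f := ω) (Submodule.mem_span_singleton_self (R := F) (1 : L))
      rwa [hω, Submodule.mem_bot] at this
    obtain ⟨α, hα⟩ := lam_repr hl ((ω l)⁻¹ • ω)
    have e1 : lam α = 0 := by
      rw [← mul_one α, ← hα, LinearMap.smul_apply, hω1, smul_zero]
    have e2 : lam (α * l) = 1 := by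
      rw [← hα, LinearMap.smul_apply, smul_eq_mul, inv_mul_cancel₀ hωl]
    have hα0 : α ≠ 0 := fun h => by rw [h, zero_mul, map_zero] at e2; exact zero_ne_one e2
    refine ⟨(eich Q a (l • a) : GL ι F), Orth.eich_mem_omegaGL hG hn _ _, fun hN => ?_⟩
    obtain ⟨k', hk'⟩ := (hnorm _).1 hN l
    have hpl : polar ⇑Q a (l • a) = 0 := by
      have := polar_line hB h2 hs (1 : L) l
      rwa [one_smul] at this
    have h1 := hk' (α • a')
    rw [app_eq_ap, app_eq_ap, Orth.eich_ap (Q_eq_zero hB h2 hs) hpl,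
      Orth.eich_ap (Q_eq_zero hB h2 hs) hpl, Q_eq_zero hB h2 (x := l • a) (by simp [hs]),
      ← hB, ← hB, ← hB, ← hB] at h1
    simp only [map_smul, LinearMap.smul_apply, haa', smul_eq_mul, mul_one, zero_mul, add_zero, e1,
      zero_smul, one_smul, mul_comm l α, e2] at h1
    have h4 := congrArg (B a) h1
    simp only [map_add, map_sub, map_smul, LinearMap.map_smul_of_tower, smul_eq_mul, hs, haa',
      mul_one, mul_zero, smul_zero, add_zero, sub_zero] at h4
    have hk : k' = l := mul_right_cancel₀ hα0 h4.symm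
    have h5 := congrArg (B a') h1
    simp only [hk, map_add, map_sub, map_smul, LinearMap.map_smul_of_tower, smul_eq_mul, ha'a,
      mul_one] at h5
    rw [← Algebra.algebraMap_eq_smul_one] at h5
    set t := lam (l * (α * l))
    refine hl1 (Submodule.mem_span_singleton.2 ⟨2⁻¹ * t, ?_⟩)
    rw [← Algebra.algebraMap_eq_smul_one, map_mul, map_inv₀, map_ofNat,
      inv_mul_eq_iff_eq_mul₀ h2L]
    linear_combination -h5

/-- The same for a field subalgebra. -/
theorem or_cases' {r : ℕ} (hr : r.Prime) (hG : Orth.Good Q) (h2 : (2 : F) ≠ 0)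
    (h3r : 3 * r ≤ Fintype.card ι) (hne : Fintype.card ι ≠ 3 * r) (h10 : r = 2 → 10 ≤ Fintype.card ι ∨
      Fintype.card ι = 8 ∧ ¬ Geo.IsPlusTypeOn ⇑Q ⊤)
    {K : Subalgebra F (Matrix ι ι F)} (hK : Geo.IsFieldSubalgebra r K)
    (hsa : Geo.IsSelfAdjointFor (polar ⇑Q) K) :
    (∀ M : Subgroup (GL ι F), Geo.subalgebraNormalizer K ⊓ Geo.omegaGL ⇑Q ≤ M →
      M ≤ Geo.omegaGL ⇑Q → M ≤ Geo.subalgebraNormalizer K ∨ Geo.omegaGL ⇑Q ≤ M) ∧
    (∃ g ∈ Geo.omegaGL ⇑Q, g ∉ Geo.subalgebraNormalizer K) := by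
  haveI : Finite (Matrix ι ι F) := inferInstanceAs (Finite (ι → ι → F))
  have := hr.two_le
  haveI : Nonempty ι := Fintype.card_pos_iff.1 (by omega)
  have hA : IsField K := ⟨exists_pair_ne _, fun x y => Subtype.ext (hK.comm _ x.2 _ y.2),
    fun {x} hx => by
      obtain ⟨y, hy, h⟩ := hK.inv _ x.2 (fun h => hx (Subtype.ext h))
      exact ⟨⟨y, hy⟩, Subtype.ext h⟩⟩
  letI : Field K := hA.toField
  exact or_cases_aux (L := K) hr K.val hK.finrank_eq hG h2 h3r hne h10
    (fun x => ⟨fun h => ⟨⟨x, h⟩, rfl⟩, fun ⟨l, hl⟩ => hl ▸ l.2⟩) hsa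

/-- The same in dimension at least ten for degree two. -/
theorem or_cases {r : ℕ} (hr : r.Prime) (hG : Orth.Good Q) (h2 : (2 : F) ≠ 0)
    (h3r : 3 * r ≤ Fintype.card ι) (hne : Fintype.card ι ≠ 3 * r) (h10 : r = 2 → 10 ≤ Fintype.card ι)
    {K : Subalgebra F (Matrix ι ι F)} (hK : Geo.IsFieldSubalgebra r K)
    (hsa : Geo.IsSelfAdjointFor (polar ⇑Q) K) :
    (∀ M : Subgroup (GL ι F), Geo.subalgebraNormalizer K ⊓ Geo.omegaGL ⇑Q ≤ M →
      M ≤ Geo.omegaGL ⇑Q → M ≤ Geo.subalgebraNormalizer K ∨ Geo.omegaGL ⇑Q ≤ M) ∧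
    (∃ g ∈ Geo.omegaGL ⇑Q, g ∉ Geo.subalgebraNormalizer K) :=
  or_cases' hr hG h2 h3r hne (fun h => Or.inl (h10 h)) hK hsa

end Cfsg.Agent.FieldExtMax

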