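/-
Overgroups of the normaliser of an extension field `K` of odd prime degree in a special unitary
group over `F`: the setting, isometries, moves, and the unipotent elements centred on a line.

Main definitions: `UnOvergroup`, `Tun`.
Main results: `UnOvergroup.eichler_mem`, `UnOvergroup.exists_line_move`, `UnOvergroup.exists_scalar`,
`UnOvergroup.mem_conj`.
-/
import Cfsg.Agent.Lib.FieldExtMax.SpBase
import Cfsg.Agent.Lib.FieldExtMax.Lines
import Cfsg.Agent.Lib.Unitary.Form

set_option autoImplicit false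
set_option linter.unusedSectionVars false

namespace Cfsg.Agent.FieldExtMax

open Module
open Cfsg.Agent.Unitary

variable {F K V : Type*} [Field F] [Fintype F] [Field K] [Fintype K] [Algebra F K]
  [AddCommGroup V] [Module F V] [Module K V] [IsScalarTower F K V] [Finite V]

/-- `M` lies in the isometry group of `lam ∘ H` and contains the `K`-linear isometries of
determinant one. -/
structure UnOvergroup (q Q : ℕ) (H : V → V → K) (lam : Dual F K) (M : Subgroup (V ≃ₗ[F] V)) :
    Prop where
  cardF : Fintype.card F = q ^ 2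
  deg : (finrank F K).Prime
  odd : Odd (finrank F K)
  Qeq : Q = q ^ finrank F K
  herm : IsHerm Q H
  nd : Nondeg H
  dim : 2 ≤ finrank K V
  small : 3 ≤ q ∨ 3 ≤ finrank K V ∨ finrank F K ≠ 3
  tr : ∀ x, algebraMap F K (lam x) = ∑ i ∈ Finset.range (finrank F K), x ^ ((q ^ 2) ^ i)
  lam_ne : lam ≠ 0
  klin : ∀ f : V →ₗ[K] V, (∀ x y, H (f x) (f y) = H x y) → Algebra.norm F (LinearMap.det f) = 1 →
    ∃ g ∈ M, ∀ x, g x = f x
  pres : ∀ g ∈ M, ∀ x y, lam (H (g x) (g y)) = lam (H x y)

variable {q Q : ℕ} {H : V → V → K} {lam : Dual F K} {M : Subgroup (V ≃ₗ[F] V)}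

namespace UnOvergroup

variable (hM : UnOvergroup q Q H lam M)
include hM

lemma cardK : Fintype.card K = Q ^ 2 := by
  rw [hM.Qeq, ← pow_mul, mul_comm, pow_mul, ← hM.cardF]
  exact Module.card_eq_pow_finrank

lemma map_pow_Q (c : F) : algebraMap F K c ^ Q = algebraMap F K (c ^ q) := by
  obtain ⟨m, hm⟩ := hM.odd
  rw [← map_pow, hM.Qeq, hm]
  congr 1
  induction m generalizing c with
  | zero => simp
  | succ m _ =>
    clear hm
    have e : ∀ k, c ^ q ^ (2 * k + 1) = c ^ q := by
      intro k
      induction k with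
      | zero => simp
      | succ k ih =>
        rw [show 2 * (k + 1) + 1 = (2 * k + 1) + 1 + 1 by ring, pow_succ, pow_succ, pow_mul,
          pow_mul, ih, pow_q_pow_q hM.cardF]
    exact e _

lemma smul_pow_Q (c : F) (x : K) : (c • x) ^ Q = c ^ q • x ^ Q := by
  rw [Algebra.smul_def, mul_pow, hM.map_pow_Q, Algebra.smul_def]

lemma lam_pow (x : K) : lam (x ^ Q) = lam x ^ q := by
  apply (algebraMap F K).injective
  rw [← hM.map_pow_Q, hM.tr, hM.tr, ← conjHom_apply hM.cardK (∑ i ∈ Finset.range _, _), map_sum]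
  refine Finset.sum_congr rfl fun i _ => ?_
  simp only [conjHom_apply, ← pow_mul]
  ring_nf

lemma eq_of_lam {x y : K} (h : ∀ k, lam (k * x ^ Q) = lam (k * y ^ Q)) : x = y :=
  pow_q_injective hM.cardK (lam_ext hM.lam_ne h)

lemma H_smul_right (c : K) (x y : V) : H x (c • y) = c ^ Q * H x y := hM.herm.smul_right c x y

lemma f_symm (x y : V) : lam (H y x) = lam (H x y) ^ q := by rw [hM.herm.conj_symm x y, hM.lam_pow]

lemma lam_img {g : V ≃ₗ[F] V} (hg : g ∈ M) {a : V} (ha : H a a = 0) {x y : V}
    (hx : x ∈ img K a g) (hy : y ∈ img K a g) : lam (H x y) = 0 := by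
  obtain ⟨_, hu, rfl⟩ := hx
  obtain ⟨_, hv, rfl⟩ := hy
  obtain ⟨k, rfl⟩ := mem_line.1 hu
  obtain ⟨l, rfl⟩ := mem_line.1 hv
  show lam (H (g _) (g _)) = 0
  rw [hM.pres g hg, hM.herm.smul_left, hM.H_smul_right, ha, mul_zero, mul_zero, map_zero]

/-- A skew element with non-zero trace. -/
lemma exists_skew_lam : ∃ k : K, k + k ^ Q = 0 ∧ lam k ≠ 0 := by
  by_contra h
  push Not at h
  have hall : ∀ x : K, lam x = lam x ^ q := fun x => by
    have h1 := h (x - x ^ Q) (by
      rw [sub_pow_q hM.cardK, pow_q_pow_q hM.cardK]; ring)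
    rw [map_sub, hM.lam_pow, sub_eq_zero] at h1
    exact h1
  obtain ⟨k, hk⟩ := lam_ne_zero hM.lam_ne (one_ne_zero (α := K))
  rw [mul_one] at hk
  obtain ⟨d, hd0, hd⟩ := exists_skew hM.cardF
  have htriv : ∀ t : F, t ^ q = t := fun t => by
    have h1 := hall ((t / lam k) • k)
    rw [map_smul, smul_eq_mul, div_mul_cancel₀ _ hk] at h1
    exact h1.symm
  have h2 := card_fixed hM.cardF
  rw [Nat.card_congr (Equiv.subtypeUnivEquiv htriv), Nat.card_eq_fintype_card, hM.cardF] at h2
  have h3 := two_le_q hM.cardF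
  nlinarith

lemma exists_fun (ψ : Dual K V) : ∃ u, ∀ x, H x u = ψ x := by
  let Φ : V → Dual K V := fun u =>
    { toFun := fun x => H x u
      map_add' := fun x y => hM.herm.add_left x y u
      map_smul' := fun c x => hM.herm.smul_left c x u }
  have hinj : Function.Injective Φ := fun u v h => by
    refine sub_eq_zero.1 (hM.nd _ fun z => ?_)
    rw [hM.herm.eq_zero_symm hM.cardK, hM.herm.sub_right hM.cardK, sub_eq_zero]
    exact LinearMap.congr_fun h z
  haveI : Module.Finite K V := Module.Finite.of_finite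
  haveI : Finite (Dual K V) := Finite.of_injective _ DFunLike.coe_injective
  have hc : Nat.card V = Nat.card (Dual K V) := by
    rw [Module.natCard_eq_pow_finrank (K := K) (V := V),
      Module.natCard_eq_pow_finrank (K := K) (V := Dual K V), Subspace.dual_finrank_eq]
  obtain ⟨u, hu⟩ := ((Nat.bijective_iff_injective_and_card Φ).2 ⟨hinj, hc⟩).2 ψ
  exact ⟨u, fun x => by rw [← hu]; rfl⟩

lemma exists_perp {a x : V} (hx : x ∉ K ∙ a) : ∃ u, H a u = 0 ∧ H x u = 1 := by
  obtain ⟨ψ, hψ, hψx⟩ := exists_kfun hx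
  obtain ⟨u, hu⟩ := hM.exists_fun ψ
  exact ⟨u, by rw [hu, hψ a (Submodule.mem_span_singleton_self a)], by rw [hu, hψx]⟩

/-- An isotropic partner. -/
lemma exists_partner {a : V} (ha : a ≠ 0) (hs : H a a = 0) :
    ∃ a', H a a' = 1 ∧ H a' a = 1 ∧ H a' a' = 0 := by
  obtain ⟨ψ, hψ⟩ := exists_coord (K := K) ha
  obtain ⟨u, hu⟩ := hM.exists_fun ψ
  have hau : H a u = 1 := by rw [hu, hψ]
  have hua : H u a = 1 := by rw [hM.herm.conj_symm, hau, one_pow]
  obtain ⟨t, ht⟩ := exists_trace_eq hM.cardK (hM.herm.self_fixed u)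
  have hK := hM.cardK
  refine ⟨u - t • a, ?_, ?_, ?_⟩
  · rw [hM.herm.sub_right hK, hM.H_smul_right, hs, hau, mul_zero, sub_zero]
  · rw [hM.herm.sub_left, hM.herm.smul_left, hs, hua, mul_zero, sub_zero]
  · rw [hM.herm.sub_left, hM.herm.sub_right hK, hM.herm.sub_right hK, hM.herm.smul_left,
      hM.herm.smul_left, hM.H_smul_right, hM.H_smul_right, hs, hau, hua]
    linear_combination -ht

/-- An isotropic vector with non-zero product with two isotropic vectors. -/
lemma exists_common {a b : V} (ha : a ≠ 0) (hs : H a a = 0) (hb : b ≠ 0) (hs' : H b b = 0)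
    (hab : H a b = 0) : ∃ c, H c c = 0 ∧ H a c ≠ 0 ∧ H b c ≠ 0 := by
  have hK := hM.cardK
  obtain ⟨a', haa', -, hs1⟩ := hM.exists_partner ha hs
  obtain ⟨b', hbb', -, hs2⟩ := hM.exists_partner hb hs'
  by_cases h1 : H b a' = 0
  · by_cases h2 : H a b' = 0
    · obtain ⟨t, ht⟩ := exists_trace_eq hK (hM.herm.self_fixed (a' + b'))
      have hba : H b a = 0 := (hM.herm.eq_zero_symm hK).1 hab
      have h3 : H (a' + b') a = 1 := by
        rw [hM.herm.conj_symm a (a' + b'), hM.herm.add_right hK, haa', h2, add_zero, one_pow]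
      refine ⟨a' + b' - t • a, ?_, ?_, ?_⟩
      · rw [hM.herm.sub_left, hM.herm.sub_right hK, hM.herm.sub_right hK, hM.herm.smul_left,
          hM.herm.smul_left, hM.H_smul_right, hM.H_smul_right, hs, h3,
          hM.herm.conj_symm (a' + b') a, h3, one_pow]
        linear_combination -ht
      · rw [hM.herm.sub_right hK, hM.herm.add_right hK, hM.H_smul_right, hs, haa', h2]
        simp
      · rw [hM.herm.sub_right hK, hM.herm.add_right hK, hM.H_smul_right, hba, h1, hbb']
        simp
    · exact ⟨b', hs2, h2, by rw [hbb']; exact one_ne_zero⟩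
  · exact ⟨a', hs1, by rw [haa']; exact one_ne_zero, h1⟩

lemma ktrans_mem {k : K} (hk : k + k ^ Q = 0) {a : V} (ha : H a a = 0) :
    ∃ g ∈ M, ∀ x, g x = x + (k * H x a) • a := by
  let φ : Dual K V :=
    { toFun := fun x => k * H x a
      map_add' := fun x y => by rw [hM.herm.add_left, mul_add]
      map_smul' := fun c x => by
        rw [hM.herm.smul_left, RingHom.id_apply, smul_eq_mul, mul_left_comm] }
  have hφ : φ a = 0 := by show k * H a a = 0; rw [ha, mul_zero]
  refine hM.klin (LinearMap.transvection φ a) (fun x y => ?_)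
    (by rw [LinearMap.transvection.det, hφ, add_zero, map_one])
  simp only [LinearMap.transvection.apply]
  show H (x + (k * H x a) • a) (y + (k * H y a) • a) = _
  rw [hM.herm.add_left, hM.herm.smul_left, hM.herm.add_right hM.cardK,
    hM.herm.add_right hM.cardK, hM.H_smul_right, hM.H_smul_right, ha, mul_pow,
    ← hM.herm.conj_symm y a]
  linear_combination H x a * H a y * hk

/-- Eichler elements. -/
lemma eichler_mem {a b : V} (ha : H a a = 0) (hab : H a b = 0) {k : K}
    (hk : k + k ^ Q + H b b = 0) :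
    ∃ g ∈ M, ∀ x, g x = x + H x a • b + (k * H x a - H x b) • a := by
  have hK := hM.cardK
  have hba : H b a = 0 := (hM.herm.eq_zero_symm hK).1 hab
  let φ₁ : Dual K V :=
    { toFun := fun x => H x a
      map_add' := fun x y => hM.herm.add_left x y a
      map_smul' := fun c x => hM.herm.smul_left c x a }
  let φ₂ : Dual K V :=
    { toFun := fun x => k * H x a - H x b
      map_add' := fun x y => by rw [hM.herm.add_left, hM.herm.add_left]; ring
      map_smul' := fun c x => by
        rw [hM.herm.smul_left, hM.herm.smul_left, RingHom.id_apply, smul_eq_mul]; ring }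
  have h1 : φ₁ b = 0 := hba
  have h2 : φ₂ a = 0 := by show k * H a a - H a b = 0; rw [ha, hab, mul_zero, sub_zero]
  let T₁ := LinearMap.transvection φ₁ b
  let T₂ := LinearMap.transvection φ₂ a
  have hx : ∀ x, (T₁ ∘ₗ T₂) x = x + H x a • b + (k * H x a - H x b) • a := fun x => by
    show T₁ (T₂ x) = _
    simp only [T₁, T₂, LinearMap.transvection.apply]
    show x + (k * H x a - H x b) • a + H (x + (k * H x a - H x b) • a) a • b = _
    rw [hM.herm.add_left, hM.herm.smul_left, ha, mul_zero, add_zero]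
    abel
  obtain ⟨g, hg, hgx⟩ := hM.klin (T₁ ∘ₗ T₂) (fun x y => by
    rw [hx, hx]
    simp only [hM.herm.add_left, hM.herm.smul_left, hM.herm.add_right hK, hM.H_smul_right, ha, hab,
      hba, sub_pow_q hK, mul_pow, ← hM.herm.conj_symm]
    linear_combination H x a * H a y * hk)
    (by rw [LinearMap.det_comp, LinearMap.transvection.det, LinearMap.transvection.det, h1, h2]
        simp)
  exact ⟨g, hg, fun x => (hgx x).trans (hx x)⟩

/-- `K`-linear isometries in `M` are transitive on isotropic lines. -/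
lemma exists_line_move {a b : V} (ha : a ≠ 0) (hs : H a a = 0) (hb : b ≠ 0) (hs' : H b b = 0) :
    ∃ g ∈ M, (∀ (k : K) x, g (k • x) = k • g x) ∧ (∀ x y, H (g x) (g y) = H x y) ∧
      ∃ l : K, l ≠ 0 ∧ g a = l • b := by
  have hK := hM.cardK
  have gen : ∀ a b : V, H a a = 0 → H b b = 0 → H b a ≠ 0 → ∃ g ∈ M,
      (∀ (k : K) x, g (k • x) = k • g x) ∧ (∀ x y, H (g x) (g y) = H x y) ∧
      ∃ l : K, l ≠ 0 ∧ g a = l • b := by
    intro a b hs hs' hab
    obtain ⟨k, hk, hk0⟩ := hM.exists_skew_lam
    have hk0' : k ≠ 0 := fun h => hk0 (by rw [h, map_zero])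
    set l := k / H b a with hl
    have hl0 : l ≠ 0 := div_ne_zero hk0' hab
    have hz : l * H b a = k := div_mul_cancel₀ _ hab
    have hz' : H a b * l ^ Q = -k := by
      rw [hM.herm.conj_symm b a, ← mul_pow, mul_comm, hz]; linear_combination hk
    have hz0 : -k ≠ 0 := neg_ne_zero.2 hk0'
    have hc : H (l • b - a) (l • b - a) = 0 := by
      rw [hM.herm.sub_left, hM.herm.sub_right hK, hM.herm.sub_right hK, hM.herm.smul_left,
        hM.herm.smul_left, hM.H_smul_right, hM.H_smul_right, hs, hs', hz, mul_comm _ (H a b), hz']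
      ring
    obtain ⟨g, hg, hgx⟩ := hM.ktrans_mem (k := (-k)⁻¹)
      (by rw [inv_pow, neg_pow_q hK, eq_neg_of_add_eq_zero_right hk, neg_neg, inv_neg,
        neg_add_cancel]) hc
    refine ⟨g, hg, fun c x => ?_, fun x y => ?_, l, hl0, ?_⟩
    · rw [hgx, hgx, hM.herm.smul_left]; module
    · rw [hgx, hgx, hM.herm.add_left, hM.herm.smul_left, hM.herm.add_right hK,
        hM.herm.add_right hK, hM.H_smul_right, hM.H_smul_right, hc, mul_pow,
        ← hM.herm.conj_symm y, inv_pow, neg_pow_q hK, eq_neg_of_add_eq_zero_right hk, neg_neg,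
        inv_neg]
      ring
    · rw [hgx, hM.herm.sub_right hK, hM.H_smul_right, hs, sub_zero, mul_comm _ (H a b), hz',
        inv_mul_cancel₀ hz0, one_smul, add_sub_cancel]
  by_cases hab : H b a = 0
  · obtain ⟨c, hc, hbc, hac⟩ := hM.exists_common hb hs' ha hs hab
    have hca : H c a ≠ 0 := fun h => hac ((hM.herm.eq_zero_symm hK).1 h)
    obtain ⟨g₁, hg₁, hl₁, hH₁, l₁, hl₁0, he₁⟩ := gen a c hs hc hca
    obtain ⟨g₂, hg₂, hl₂, hH₂, l₂, hl₂0, he₂⟩ := gen c b hc hs' hbc
    refine ⟨g₂ * g₁, mul_mem hg₂ hg₁, fun k x => by simp [hl₁, hl₂],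
      fun x y => by simp [hH₁, hH₂], l₁ * l₂, mul_ne_zero hl₁0 hl₂0, ?_⟩
    show g₂ (g₁ a) = _
    rw [he₁, hl₂, he₂, smul_smul]
  · exact gen a b hs hs' hab

/-- Scalars on an isotropic line, with a compensation in dimension at least three. -/
lemma exists_scalar {a : V} (ha : a ≠ 0) (hs : H a a = 0) {e : K} (he : e ≠ 0)
    (hN : Algebra.norm F e ^ q = Algebra.norm F e ∨ 3 ≤ finrank K V) :
    ∃ g ∈ M, MapsBy g a (mulL F e) := by
  classical
  have hK := hM.cardK
  haveI : Module.Finite K V := Module.Finite.of_finite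
  haveI : Module.Finite F K := Module.Finite.of_finite
  obtain ⟨a', haa', ha'a, hs'⟩ := hM.exists_partner ha hs
  set e' : K := (e ^ Q)⁻¹ with he'
  have heQ : e ^ Q ≠ 0 := pow_ne_zero _ he
  have hee : e * e' ^ Q = 1 := by
    rw [he', inv_pow, pow_q_pow_q hK, mul_inv_cancel₀ he]
  have hee' : e' * e ^ Q = 1 := inv_mul_cancel₀ heQ
  let φ₁ : Dual K V :=
    { toFun := fun x => (e - 1) * H x a'
      map_add' := fun x y => by rw [hM.herm.add_left, mul_add]
      map_smul' := fun c x => by
        rw [hM.herm.smul_left, RingHom.id_apply, smul_eq_mul, mul_left_comm] }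
  let φ₂ : Dual K V :=
    { toFun := fun x => (e' - 1) * H x a
      map_add' := fun x y => by rw [hM.herm.add_left, mul_add]
      map_smul' := fun c x => by
        rw [hM.herm.smul_left, RingHom.id_apply, smul_eq_mul, mul_left_comm] }
  let T := LinearMap.transvection φ₁ a ∘ₗ LinearMap.transvection φ₂ a'
  have hT : ∀ x, T x = x + ((e' - 1) * H x a) • a' + ((e - 1) * H x a') • a := fun x => by
    show LinearMap.transvection φ₁ a (LinearMap.transvection φ₂ a' x) = _
    simp only [LinearMap.transvection.apply]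
    show x + ((e' - 1) * H x a) • a' +
      ((e - 1) * H (x + ((e' - 1) * H x a) • a') a') • a = _
    rw [hM.herm.add_left, hM.herm.smul_left, hs', mul_zero, add_zero]
  have hiso : ∀ x y, H (T x) (T y) = H x y := fun x y => by
    simp only [hT, hM.herm.add_left, hM.herm.smul_left, hM.herm.add_right hK, hM.H_smul_right, hs,
      hs', haa', ha'a, mul_pow, sub_pow_q hK, one_pow, ← hM.herm.conj_symm]
    linear_combination (H x a * H a' y) * hee' + (H x a' * H a y) * hee
  have hdet : LinearMap.det T = e * e' := by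
    rw [LinearMap.det_comp, LinearMap.transvection.det, LinearMap.transvection.det]
    show (1 + (e - 1) * H a a') * (1 + (e' - 1) * H a' a) = _
    rw [haa', ha'a]; ring
  have hTa : ∀ l : K, T (l • a) = (e * l) • a := fun l => by
    rw [hT, hM.herm.smul_left, hM.herm.smul_left, hs, haa']
    module
  rcases hN with hN | hN
  · obtain ⟨g, hg, hgx⟩ := hM.klin T hiso (by
      have hQn : Algebra.norm F (e ^ Q) = Algebra.norm F e := by
        obtain ⟨m, hm⟩ := hM.odd
        rw [map_pow, hM.Qeq]
        have : ∀ k, Algebra.norm F e ^ q ^ k = Algebra.norm F e := fun k => by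
          induction k with
          | zero => simp
          | succ k ih => rw [pow_succ, pow_mul, ih, hN]
        exact this _
      rw [hdet, map_mul, he']
      have h1 : Algebra.norm F (e ^ Q)⁻¹ * Algebra.norm F (e ^ Q) = 1 := by
        rw [← map_mul, inv_mul_cancel₀ heQ, map_one]
      rw [hQn] at h1
      rw [mul_comm]; exact h1)
    exact ⟨g, hg, fun l => (hgx _).trans (hTa l)⟩
  · -- compensate on an anisotropic vector orthogonal to both
    obtain ⟨z, hza, hza', hzz⟩ : ∃ z, H z a = 0 ∧ H z a' = 0 ∧ H z z ≠ 0 := by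
      by_contra hcon
      push Not at hcon
      let W : Submodule K V :=
        { carrier := {z | H z a = 0 ∧ H z a' = 0}
          add_mem' := fun {x y} hx hy => ⟨by rw [hM.herm.add_left, hx.1, hy.1, add_zero],
            by rw [hM.herm.add_left, hx.2, hy.2, add_zero]⟩
          zero_mem' := ⟨hM.herm.zero_left _, hM.herm.zero_left _⟩
          smul_mem' := fun c x hx => ⟨by rw [hM.herm.smul_left, hx.1, mul_zero],
            by rw [hM.herm.smul_left, hx.2, mul_zero]⟩ }
      have hiW : ∀ z : W, H (z : V) (z : V) = 0 := fun z => hcon z z.2.1 z.2.2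
      have hsplit : ∀ y, y - H y a' • a - H y a • a' ∈ W := fun y => ⟨by
          rw [hM.herm.sub_left, hM.herm.sub_left, hM.herm.smul_left, hM.herm.smul_left, hs, ha'a]
          ring, by
          rw [hM.herm.sub_left, hM.herm.sub_left, hM.herm.smul_left, hM.herm.smul_left, hs', haa']
          ring⟩
      have hW : ∀ z : W, (z : V) = 0 := fun z => hM.nd _ fun y => by
        have h1 := (hM.herm.comap W.subtype).eq_zero_of_isotropic hK hiW z ⟨_, hsplit y⟩
        simp only [Submodule.coe_subtype, hM.herm.sub_right hK, hM.H_smul_right, z.2.1, z.2.2,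
          mul_zero, sub_zero] at h1
        exact h1
      have hspan : (⊤ : Submodule K V) ≤ Submodule.span K {a, a'} := fun y _ => by
        have h1 := hW ⟨_, hsplit y⟩
        refine Submodule.mem_span_pair.2 ⟨H y a', H y a, ?_⟩
        change y - H y a' • a - H y a • a' = 0 at h1
        rw [sub_sub, sub_eq_zero] at h1
        exact h1.symm
      have h1 := Submodule.finrank_mono hspan
      rw [finrank_top] at h1
      have h2 := finrank_span_finset_le_card (R := K) ({a, a'} : Finset V)
      rw [Finset.coe_insert, Finset.coe_singleton] at h2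
      have h3 : ({a, a'} : Finset V).card ≤ 2 := Finset.card_le_two
      unfold Set.finrank at h2
      omega
    set d : K := (e * e')⁻¹ with hd
    have hd1 : d * d ^ Q = 1 := by
      rw [hd, inv_pow, ← mul_inv, mul_pow,
        show e * e' * (e ^ Q * e' ^ Q) = e * e' ^ Q * (e' * e ^ Q) by ring, hee, hee', one_mul,
        inv_one]
    let φ₃ : Dual K V :=
      { toFun := fun x => (d - 1) / H z z * H x z
        map_add' := fun x y => by rw [hM.herm.add_left, mul_add]
        map_smul' := fun c x => by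
          rw [hM.herm.smul_left, RingHom.id_apply, smul_eq_mul, mul_left_comm] }
    let T₃ := LinearMap.transvection φ₃ z
    have hT₃ : ∀ x, T₃ x = x + ((d - 1) / H z z * H x z) • z := fun x =>
      LinearMap.transvection.apply _ _ _
    have hiso₃ : ∀ x y, H (T₃ x) (T₃ y) = H x y := fun x y => by
      simp only [hT₃, hM.herm.add_left, hM.herm.smul_left, hM.herm.add_right hK, hM.H_smul_right,
        mul_pow, div_pow, sub_pow_q hK, one_pow, hM.herm.self_fixed, ← hM.herm.conj_symm]
      field_simp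
      linear_combination (H x z * H z y) * hd1
    obtain ⟨g, hg, hgx⟩ := hM.klin (T₃ ∘ₗ T) (fun x y => by
        show H (T₃ (T x)) (T₃ (T y)) = _
        rw [hiso₃, hiso])
      (by
        rw [LinearMap.det_comp, hdet, LinearMap.transvection.det]
        show Algebra.norm F ((1 + (d - 1) / H z z * H z z) * (e * e')) = 1
        rw [div_mul_cancel₀ _ hzz, add_sub_cancel, hd,
          inv_mul_cancel₀ (mul_ne_zero he (inv_ne_zero heQ)), map_one])
    refine ⟨g, hg, fun l => ?_⟩
    rw [hgx]
    show T₃ (T (l • a)) = _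
    rw [hTa, hT₃, hM.herm.smul_left, (hM.herm.eq_zero_symm hK).1 hza, mul_zero, mul_zero, zero_smul,
      add_zero]
    rfl

omit hM in
/-- The maps `P` for which `x ↦ x + P (H x a) • a` lies in `M`. -/
def Tun (hM : UnOvergroup q Q H lam M) {a : V} (hs : H a a = 0) : AddSubgroup (Module.End F K) where
  carrier := {P | ∃ g ∈ M, ∀ x, g x = x + P (H x a) • a}
  zero_mem' := ⟨1, one_mem M, fun x => by simp⟩
  add_mem' := by
    rintro P R ⟨g, hg, hgx⟩ ⟨h, hh, hhx⟩
    refine ⟨g * h, mul_mem hg hh, fun x => ?_⟩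
    show g (h x) = _
    rw [hgx, hhx, hM.herm.add_left, hM.herm.smul_left, hs, mul_zero, add_zero,
      LinearMap.add_apply, add_smul]
    abel
  neg_mem' := by
    rintro P ⟨g, hg, hgx⟩
    refine ⟨g⁻¹, inv_mem hg, fun x => ?_⟩
    apply g.injective
    show g (g.symm x) = g _
    rw [LinearEquiv.apply_symm_apply, hgx, LinearMap.neg_apply, hM.herm.add_left,
      hM.herm.smul_left, hs, mul_zero, add_zero, neg_smul]
    abel

lemma mem_mulL {a : V} (hs : H a a = 0) {k : K} (hk : k + k ^ Q = 0) :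
    mulL F k ∈ hM.Tun hs := hM.ktrans_mem hk hs

/-- Conjugation by a stabiliser of the line. -/
lemma mem_conj {a : V} (hs : H a a = 0) {g : V ≃ₗ[F] V} (hg : g ∈ M) {A R : Module.End F K}
    (hA : MapsBy g a A) (hR : ∀ k α, lam (A k * α ^ Q) = lam (k * R α ^ Q))
    {P : Module.End F K} (hP : P ∈ hM.Tun hs) : A ∘ₗ P ∘ₗ R ∈ hM.Tun hs := by
  obtain ⟨u, hu, hux⟩ := hP
  refine ⟨g * u * g⁻¹, mul_mem (mul_mem hg hu) (inv_mem hg), fun x => ?_⟩
  have hgi : g (g⁻¹ x) = x := g.apply_symm_apply x
  have hB : H (g⁻¹ x) a = R (H x a) := by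
    refine hM.eq_of_lam fun k => ?_
    rw [← hR, ← hM.herm.conj_symm, ← hM.herm.smul_left, ← hM.pres g hg, hgi, hA,
      hM.herm.smul_left, ← hM.herm.conj_symm]
  show g (u (g⁻¹ x)) = _
  rw [hux, map_add, hA, hgi, hB]
  rfl

lemma scalar_conj {a : V} (hs : H a a = 0) {g : V ≃ₗ[F] V} (hg : g ∈ M) {e : K}
    (hA : MapsBy g a (mulL F e)) {P : Module.End F K} (hP : P ∈ hM.Tun hs) :
    mulL F e ∘ₗ P ∘ₗ mulL F (e ^ Q) ∈ hM.Tun hs :=
  hM.mem_conj hs hg hA (fun k α => by
    simp only [LinearMap.mulLeft_apply, mul_pow, pow_q_pow_q hM.cardK]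
    congr 1
    ring) hP

/-- `Tun` is stable under the fixed scalars. -/
lemma mem_fixed_smul {a : V} (ha : a ≠ 0) (hs : H a a = 0) {s : F} (hsq : s ^ q = s)
    {P : Module.End F K} (hP : P ∈ hM.Tun hs) : s • P ∈ hM.Tun hs := by
  letI := Fintype.ofFinite (fixedField hM.cardF)
  letI : Module (fixedField hM.cardF) (Module.End F K) :=
    Module.compHom _ (fixedField hM.cardF).subtype
  refine mem_of_sq_smul_mem (F := fixedField hM.cardF) (hM.Tun hs) (fun t R hR => ?_) ⟨s, hsq⟩ hP
  show ((t : F) * t) • R ∈ hM.Tun hs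
  by_cases ht : (t : F) = 0
  · rw [ht, mul_zero, zero_smul]; exact zero_mem _
  obtain ⟨g, hg, hge⟩ := hM.exists_scalar ha hs (e := algebraMap F K t) (by simpa using ht)
    (Or.inl (by rw [Algebra.norm_algebraMap, ← pow_mul, mul_comm, pow_mul,
      (mem_fixedField hM.cardF).1 t.2]))
  convert hM.scalar_conj hs hg hge hR using 1
  refine LinearMap.ext fun x => ?_
  have htq : (t : F) ^ q = t := (mem_fixedField hM.cardF).1 t.2
  simp only [LinearMap.smul_apply, LinearMap.comp_apply, LinearMap.mulLeft_apply, hM.map_pow_Q,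
    htq]
  rw [← Algebra.smul_def, ← Algebra.smul_def, map_smul, smul_smul]

end UnOvergroup

end Cfsg.Agent.FieldExtMax
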