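/-
Tools for the unitary extension field normaliser: sums of two powers of `q`, the span of
characters of the multiplicative group, and singular combinations of hermitian matrices.

Main results: `exps_inj`, `exps_inj_succ`, `span_characters`, `exists_det_zero`.
-/
import Cfsg.Agent.Lib.Unitary.Field
import Mathlib.FieldTheory.Finite.Trace
import Mathlib.LinearAlgebra.LinearIndependent.Basic
import Mathlib.Algebra.MvPolynomial.CommRing

set_option autoImplicit false
set_option linter.unusedSectionVars false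

namespace Cfsg.Agent.FieldExtMax

open Module
open Cfsg.Agent.Unitary

/-- A sum of two different powers of `q` determines them. -/
theorem exps_inj {q a b c d : ℕ} (hq : 2 ≤ q) (hab : a ≠ b) (hcd : c ≠ d)
    (h : q ^ a + q ^ b = q ^ c + q ^ d) : (a = c ∧ b = d) ∨ (a = d ∧ b = c) := by
  have key : ∀ {a b c d : ℕ}, a < b → c < d → q ^ a + q ^ b = q ^ c + q ^ d → a = c ∧ b = d := by
    have low : ∀ {a b c d : ℕ}, a < c → a < b → c < d → q ^ a + q ^ b ≠ q ^ c + q ^ d := by
      intro a b c d hac hab hcd h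
      have h1 : q ^ (a + 1) ∣ q ^ c + q ^ d :=
        Nat.dvd_add (pow_dvd_pow q (by omega)) (pow_dvd_pow q (by omega))
      rw [← h, Nat.dvd_add_left (pow_dvd_pow q (by omega : a + 1 ≤ b))] at h1
      have h2 := Nat.le_of_dvd (by positivity) h1
      have h3 : q ^ a < q ^ (a + 1) := Nat.pow_lt_pow_right (by omega) (by omega)
      omega
    intro a b c d hab hcd h
    rcases lt_trichotomy a c with h1 | h1 | h1
    · exact absurd h (low h1 hab hcd)
    · subst h1
      exact ⟨rfl, Nat.pow_right_injective hq (Nat.add_left_cancel h)⟩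
    · exact absurd h.symm (low h1 hcd hab)
  rcases Nat.lt_or_gt_of_ne hab with h1 | h1 <;> rcases Nat.lt_or_gt_of_ne hcd with h2 | h2
  · exact Or.inl (key h1 h2 h)
  · exact Or.inr (key h1 h2 (by rw [h]; ring))
  · exact Or.inr ((key h1 h2 (by rw [← h]; ring)).symm)
  · exact Or.inl (key h1 h2 (by rw [add_comm, h, add_comm])).symm

lemma exps_lt {q a b L : ℕ} (hq : 2 ≤ q) (hab : a ≠ b) (ha : a < L) (hb : b < L) (hL : 3 ≤ L) :
    q ^ a + q ^ b < q ^ L - 1 := by
  have key : ∀ {a b : ℕ}, a < b → b < L → q ^ a + q ^ b < q ^ L - 1 := by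
    intro a b hab hb
    obtain ⟨m, rfl⟩ : ∃ m, L = m + 3 := ⟨L - 3, by omega⟩
    have h1 : q ^ a ≤ q ^ (m + 1) := Nat.pow_le_pow_right (by omega) (by omega)
    have h2 : q ^ b ≤ q ^ (m + 2) := Nat.pow_le_pow_right (by omega) (by omega)
    have h3 : q ^ (m + 3) = q * q * q ^ (m + 1) := by ring
    have h4 : q ^ (m + 2) = q * q ^ (m + 1) := by ring
    have h5 : 2 ≤ q ^ (m + 1) := hq.trans (Nat.le_self_pow (by omega) q)
    have h6 : 2 * q * q ^ (m + 1) ≤ q * q * q ^ (m + 1) :=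
      Nat.mul_le_mul_right _ (Nat.mul_le_mul_right q hq)
    have h7 : 2 * q ^ (m + 1) ≤ q * q ^ (m + 1) := Nat.mul_le_mul_right _ hq
    rw [Nat.mul_assoc] at h6
    omega
  rcases Nat.lt_or_gt_of_ne hab with h | h
  · exact key h hb
  · rw [add_comm]; exact key h ha

/-- A sum of two powers of `q` of different parity modulo `q ^ 2`. -/
lemma pair_low (q : ℕ) {a b : ℕ} (hab : (a + b) % 2 = 1) :
    ∃ u X : ℤ, (q : ℤ) ^ a + q ^ b = u + q ^ 2 * X ∧
      (u = 1 + q ∨ u = 0 ∨ (u = 1 ∧ ∃ k, X = (q : ℤ) ^ (2 * k + 1)) ∨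
        (u = q ∧ ∃ k, X = (q : ℤ) ^ (2 * k))) := by
  have key : ∀ {a b : ℕ}, a < b → (a + b) % 2 = 1 →
      ∃ u X : ℤ, (q : ℤ) ^ a + q ^ b = u + q ^ 2 * X ∧
        (u = 1 + q ∨ u = 0 ∨ (u = 1 ∧ ∃ k, X = (q : ℤ) ^ (2 * k + 1)) ∨
          (u = q ∧ ∃ k, X = (q : ℤ) ^ (2 * k))) := by
    intro a b hlt hab
    rcases a with _ | _ | a
    · rcases b with _ | _ | b
      · omega
      · exact ⟨1 + q, 0, by ring, Or.inl rfl⟩
      · obtain ⟨k, rfl⟩ : ∃ k, b = 2 * k + 1 := ⟨b / 2, by omega⟩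
        exact ⟨1, (q : ℤ) ^ (2 * k + 1), by ring, Or.inr (Or.inr (Or.inl ⟨rfl, k, rfl⟩))⟩
    · obtain ⟨k, rfl⟩ : ∃ k, b = 2 * k + 2 := ⟨(b - 2) / 2, by omega⟩
      exact ⟨q, (q : ℤ) ^ (2 * k), by ring, Or.inr (Or.inr (Or.inr ⟨rfl, k, rfl⟩))⟩
    · obtain ⟨c, rfl⟩ : ∃ c, b = c + 2 := ⟨b - 2, by omega⟩
      exact ⟨0, (q : ℤ) ^ a + q ^ c, by ring, Or.inr (Or.inl rfl)⟩
  rcases Nat.lt_or_gt_of_ne (show a ≠ b by omega) with h | h
  · exact key h hab
  · rw [add_comm ((q : ℤ) ^ a)]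
    exact key h (by omega)

lemma low_false {q : ℕ} (hq : 3 ≤ q) (c X : ℤ) (hc : c ≠ 0) (hc1 : c < (q : ℤ) ^ 2)
    (hc2 : -(q : ℤ) ^ 2 < c) (h : c = (q : ℤ) ^ 2 * X) : False := by
  have : (q : ℤ) ^ 2 > 0 := by positivity
  rcases lt_trichotomy X 0 with hX | hX | hX
  · nlinarith
  · subst hX; simp at h; exact hc h
  · nlinarith

/-- Sums of two powers of `q` of different parity differ by no multiple of
`(q ^ (2 r) - 1) / (q + 1)`. -/
theorem exps_ne {q r a b c d : ℕ} (hq : 3 ≤ q) (hr : 3 ≤ r) (hab : (a + b) % 2 = 1)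
    (hcd : (c + d) % 2 = 1) {M : ℤ}
    (hM : M = ∑ k ∈ Finset.range r, ((q : ℤ) ^ 2) ^ k) :
    (q : ℤ) ^ a + q ^ b ≠ q ^ c + q ^ d + (q - 1) * M := by
  intro h
  obtain ⟨r', rfl⟩ : ∃ r', r = r' + 2 := ⟨r - 2, by omega⟩
  obtain ⟨Y, hY⟩ : ∃ Y : ℤ, M = 1 + (q : ℤ) ^ 2 * (1 + (q : ℤ) ^ 2 * Y) := by
    refine ⟨∑ k ∈ Finset.range r', ((q : ℤ) ^ 2) ^ k, ?_⟩
    rw [hM, Finset.sum_range_succ', Finset.sum_range_succ']
    simp only [pow_succ', ← Finset.mul_sum]
    ring
  have hq' : (3 : ℤ) ≤ q := by exact_mod_cast hq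
  have q2 : (q : ℤ) ^ 2 ≥ 3 * q := by nlinarith
  -- one reduction modulo `q ^ 2`
  obtain ⟨u, X, hu, hu'⟩ := pair_low q hab
  obtain ⟨v, X', hv, hv'⟩ := pair_low q hcd
  rw [hu, hv, hY] at h
  have hz : u - v - ((q : ℤ) - 1) =
      q ^ 2 * (X' - X + ((q : ℤ) - 1) * (1 + (q : ℤ) ^ 2 * Y)) := by linear_combination h
  by_cases h0 : u = q ∧ v = 1
  · -- reduce once more
    obtain ⟨rfl, rfl⟩ := h0
    rcases hu' with hh | hh | ⟨hh, -⟩ | ⟨-, k, rfl⟩
    · omega
    · omega
    · omega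
    rcases hv' with hh | hh | ⟨-, k', rfl⟩ | ⟨hh, -⟩
    · omega
    · omega
    swap
    · omega
    have hz' : (q : ℤ) ^ (2 * k' + 1) - q ^ (2 * k) +
        ((q : ℤ) - 1) * (1 + (q : ℤ) ^ 2 * Y) = 0 :=
      (mul_eq_zero.1 (hz.symm.trans (sub_self _))).resolve_left (by positivity)
    rcases k with _ | k <;> rcases k' with _ | k'
    · exact low_false hq (2 * q - 2) (-(((q : ℤ) - 1) * Y)) (by omega) (by omega) (by omega)
        (by linear_combination hz')
    · exact low_false hq (q - 2) (-((q : ℤ) ^ (2 * k' + 1) + ((q : ℤ) - 1) * Y)) (by omega)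
        (by omega) (by omega) (by linear_combination hz')
    · exact low_false hq (2 * q - 1) ((q : ℤ) ^ (2 * k) - ((q : ℤ) - 1) * Y) (by omega) (by omega)
        (by omega) (by linear_combination hz')
    · exact low_false hq (q - 1) ((q : ℤ) ^ (2 * k) - (q : ℤ) ^ (2 * k' + 1) - ((q : ℤ) - 1) * Y)
        (by omega) (by omega) (by omega) (by linear_combination hz')
  · rcases hu' with rfl | rfl | ⟨rfl, -⟩ | ⟨rfl, -⟩ <;>
      rcases hv' with rfl | rfl | ⟨rfl, -⟩ | ⟨rfl, -⟩ <;>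
      first
        | exact h0 ⟨rfl, rfl⟩
        | exact low_false hq _ _ (by omega) (by omega) (by omega) hz

/-- The same sums are determined modulo `(q ^ (2 r) - 1) / (q + 1)`. -/
theorem exps_inj_succ {q r a b c d : ℕ} (hq : 3 ≤ q) (hr : 3 ≤ r) (ha : a < 2 * r) (hb : b < 2 * r)
    (hc : c < 2 * r) (hd : d < 2 * r) (hab : (a + b) % 2 = 1) (hcd : (c + d) % 2 = 1)
    (h : (q + 1) * (q ^ a + q ^ b) ≡ (q + 1) * (q ^ c + q ^ d) [MOD q ^ (2 * r) - 1]) :
    (a = c ∧ b = d) ∨ (a = d ∧ b = c) := by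
  refine exps_inj (q := q) (by omega) (by omega) (by omega) ?_
  set M : ℤ := ∑ k ∈ Finset.range r, ((q : ℤ) ^ 2) ^ k with hM
  have hg : M * ((q : ℤ) ^ 2 - 1) = (q : ℤ) ^ (2 * r) - 1 := by
    rw [hM, geom_sum_mul, pow_mul]
  have hq' : (3 : ℤ) ≤ q := by exact_mod_cast hq
  have hpos : 1 ≤ q ^ (2 * r) := Nat.one_le_pow _ _ (by omega)
  obtain ⟨t, ht⟩ := (Nat.modEq_iff_dvd.1 h)
  rw [Nat.cast_sub hpos] at ht
  push_cast at ht
  rw [← hg] at ht
  have ht' : ((q : ℤ) ^ c + q ^ d) - (q ^ a + q ^ b) = t * ((q - 1) * M) := by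
    refine mul_left_cancel₀ (by omega : (q : ℤ) + 1 ≠ 0) ?_
    linear_combination ht
  have hbd : ∀ {a b : ℕ}, (a + b) % 2 = 1 → a < 2 * r → b < 2 * r →
      (q : ℤ) ^ a + q ^ b < 2 * ((q - 1) * M) := by
    intro a b hab ha hb
    obtain ⟨m, hm⟩ : ∃ m, 2 * r = m + 2 := ⟨2 * r - 2, by omega⟩
    have h2 : (q : ℤ) ^ a + q ^ b ≤ q ^ m + q ^ (m + 1) := by
      rcases Nat.lt_or_gt_of_ne (show a ≠ b by omega) with h | h
      · exact add_le_add (pow_le_pow_right₀ (by omega) (by omega))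
          (pow_le_pow_right₀ (by omega) (by omega))
      · rw [add_comm]
        exact add_le_add (pow_le_pow_right₀ (by omega) (by omega))
          (pow_le_pow_right₀ (by omega) (by omega))
    have h3 : (q : ℤ) ^ m + q ^ (m + 1) = (q + 1) * q ^ m := by ring
    have h4 : ((q : ℤ) - 1) * M * (q + 1) = q ^ m * q ^ 2 - 1 := by
      rw [← pow_add, ← hm, ← hg]; ring
    have h5 : (3 : ℤ) ≤ (q : ℤ) ^ m := hq'.trans (le_self_pow₀ (by omega) (by omega))
    have h6 : ((q : ℤ) + 1) * ((q + 1) * q ^ m) < 2 * (q ^ m * q ^ 2 - 1) := by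
      have h7 : (2 : ℤ) * q + 4 ≤ q * q + 1 := by nlinarith
      have h8 : (2 : ℤ) ≤ q * q - 2 * q - 1 := by nlinarith
      nlinarith [mul_le_mul h8 h5 (by norm_num) (by linarith)]
    rw [h3] at h2
    refine lt_of_le_of_lt h2 ?_
    refine lt_of_mul_lt_mul_left ?_ (by omega : (0 : ℤ) ≤ q + 1)
    rw [show ((q : ℤ) + 1) * (2 * ((q - 1) * M)) = 2 * ((q - 1) * M * (q + 1)) by ring, h4]
    exact h6
  have hMpos : 0 ≤ ((q : ℤ) - 1) * M := mul_nonneg (by omega) (by
    rw [hM]; exact Finset.sum_nonneg fun k _ => by positivity)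
  have hp1 := hbd hab ha hb
  have hp2 := hbd hcd hc hd
  have e1 : (0 : ℤ) ≤ (q : ℤ) ^ a + q ^ b := by positivity
  have e2 : (0 : ℤ) ≤ (q : ℤ) ^ c + q ^ d := by positivity
  have ht2 : t = -1 ∨ t = 0 ∨ t = 1 := by
    have : t < 2 := by
      by_contra hcon
      nlinarith [mul_le_mul_of_nonneg_right (not_lt.1 hcon) hMpos]
    have : -2 < t := by
      by_contra hcon
      nlinarith [mul_le_mul_of_nonneg_right (not_lt.1 hcon) hMpos]
    omega
  rcases ht2 with rfl | rfl | rfl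
  · exact absurd (show (q : ℤ) ^ a + q ^ b = q ^ c + q ^ d + (q - 1) * M by linarith)
      (exps_ne hq hr hab hcd hM)
  · exact_mod_cast (show (q : ℤ) ^ a + q ^ b = q ^ c + q ^ d by linarith)
  · exact absurd (show (q : ℤ) ^ c + q ^ d = q ^ a + q ^ b + (q - 1) * M by linarith)
      (exps_ne hq hr hcd hab hM)

section Span

variable {F K : Type*} [Field F] [Fintype F] [Field K] [Fintype K] [Algebra F K]

lemma pow_red {q r : ℕ} (hK : Fintype.card K = q ^ (2 * r)) (x : K) (a : ℕ) :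
    x ^ q ^ a = x ^ q ^ (a % (2 * r)) := by
  have h : ∀ k (y : K), y ^ q ^ (2 * r * k) = y := fun k => by
    induction k with
    | zero => simp
    | succ k ih =>
      intro y
      rw [mul_add, mul_one, pow_add, pow_mul, ← hK, FiniteField.pow_card, ih]
  conv_lhs => rw [← Nat.mod_add_div a (2 * r), pow_add, pow_mul, h]

/-- An additive group of tuples stable under the fixed scalars and under a group of characters
with distinct conjugates contains everything. -/
theorem span_characters {q r h ε : ℕ} (hF : Fintype.card F = q ^ 2) (hdeg : finrank F K = r)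
    (hr : r.Prime) (hh : r = 2 * h + 1) (hε : ε = 1 ∨ (ε = q + 1 ∧ 3 ≤ q))
    (T : AddSubgroup (Fin h → K)) (hT : ∀ s : F, s ^ q = s → ∀ a ∈ T, s • a ∈ T)
    {a : Fin h → K} (ha : ∀ i, a i ≠ 0)
    (hchar : ∀ x : K, x ≠ 0 →
      (fun i : Fin h => a i * (x ^ ε) ^ (1 + q ^ (r + 2 * ((i : ℕ) + 1)))) ∈ T) :
    ∀ b, b ∈ T := by
  classical
  have hq2 := two_le_q hF
  set F₀ := fixedField hF
  haveI : Fintype F₀ := Fintype.ofFinite _
  haveI : Module.Finite F₀ K := Module.Finite.of_finite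
  have hsm : ∀ (s : F₀) (x : K), s • x = (s : F) • x := fun _ _ => rfl
  have hK : Fintype.card K = q ^ (2 * r) := by
    rw [pow_mul, ← hF, ← hdeg]; exact Module.card_eq_pow_finrank
  have hF₀ : Nat.card F₀ = q := card_fixedField hF
  have hdim : finrank F₀ K = 2 * r := by
    have h1 := Module.natCard_eq_pow_finrank (K := F₀) (V := K)
    rw [hF₀, Nat.card_eq_fintype_card, hK] at h1
    exact (Nat.pow_right_injective hq2 h1).symm
  let T' : Submodule F₀ (Fin h → K) :=
    { T.toAddSubmonoid with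
      smul_mem' := fun s x hx => by
        have e : s • x = (s : F) • x := funext fun i => hsm s _
        rw [e]
        exact hT s ((mem_fixedField hF).1 s.2) x hx }
  intro b
  show b ∈ T'
  by_contra hb
  obtain ⟨φ, hφb, hφ⟩ := Submodule.exists_dual_map_eq_bot_of_notMem hb inferInstance
  have hφ0 : ∀ x ∈ T', φ x = 0 := fun x hx => by
    have := Submodule.mem_map_of_mem (f := φ) hx
    rwa [hφ, Submodule.mem_bot] at this
  -- the functional as a trace
  haveI : FiniteDimensional F₀ K := Module.Finite.of_finite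
  have hnd := traceForm_nondegenerate F₀ K
  choose w hw using fun i : Fin h =>
    ((Algebra.traceForm F₀ K).toDual hnd).surjective (φ ∘ₗ LinearMap.single F₀ (fun _ : Fin h => K) i)
  have hφtr : ∀ x : Fin h → K, φ x = ∑ i, Algebra.trace F₀ K (w i * x i) := fun x => by
    conv_lhs => rw [← Finset.univ_sum_single x, map_sum]
    refine Finset.sum_congr rfl fun i _ => ?_
    have h1 := LinearMap.congr_fun (hw i) (x i)
    rw [LinearMap.BilinForm.toDual_def, Algebra.traceForm_apply, LinearMap.comp_apply,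
      LinearMap.coe_single] at h1
    exact h1.symm
  let N : Fin h × Fin (2 * r) → ℕ := fun p =>
    ε * ((q : ℕ) ^ (p.2 : ℕ) + q ^ (((p.2 : ℕ) + r + 2 * ((p.1 : ℕ) + 1)) % (2 * r)))
  let ψ : Fin h × Fin (2 * r) → (Kˣ →* K) := fun p =>
    (Units.coeHom K).comp (powMonoidHom (N p))
  have hψ : Function.Injective ψ := by
    rintro ⟨i, j⟩ ⟨i', j'⟩ he
    obtain ⟨g, hg⟩ := IsCyclic.exists_generator (α := Kˣ)
    have h1 := DFunLike.congr_fun he g
    simp only [ψ, MonoidHom.comp_apply, powMonoidHom_apply, Units.coeHom_apply] at h1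
    have h2 := pow_eq_pow_iff_modEq.1 (Units.val_injective h1)
    rw [orderOf_eq_card_of_forall_mem_zpowers hg, Nat.card_eq_fintype_card, Fintype.card_units,
      hK] at h2
    have hij : ∀ (i : Fin h) (j : Fin (2 * r)),
        (j : ℕ) < 2 * r ∧ ((j : ℕ) + r + 2 * ((i : ℕ) + 1)) % (2 * r) < 2 * r ∧
        ((j : ℕ) + ((j : ℕ) + r + 2 * ((i : ℕ) + 1)) % (2 * r)) % 2 = 1 := fun i j =>
      ⟨j.2, Nat.mod_lt _ (by omega), by
        have := Nat.mod_add_div ((j : ℕ) + r + 2 * ((i : ℕ) + 1)) (2 * r)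
        rw [mul_assoc] at this
        omega⟩
    have hh1 : (i : ℕ) < h := i.2
    obtain ⟨b1, b2, b3⟩ := hij i j
    obtain ⟨c1, c2, c3⟩ := hij i' j'
    have hpair : ((j : ℕ) = j' ∧ ((j : ℕ) + r + 2 * ((i : ℕ) + 1)) % (2 * r) =
        ((j' : ℕ) + r + 2 * ((i' : ℕ) + 1)) % (2 * r)) ∨
        ((j : ℕ) = ((j' : ℕ) + r + 2 * ((i' : ℕ) + 1)) % (2 * r) ∧
          ((j : ℕ) + r + 2 * ((i : ℕ) + 1)) % (2 * r) = j') := by
      simp only [N] at h2
      rcases hε with rfl | ⟨rfl, hq3⟩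
      · rw [one_mul, one_mul] at h2
        refine exps_inj hq2 ?_ ?_ (Nat.ModEq.eq_of_lt_of_lt h2 ?_ ?_)
        · intro hh; rw [← hh] at b3; omega
        · intro hh; rw [← hh] at c3; omega
        · exact exps_lt hq2 (show (j : ℕ) ≠ ((j : ℕ) + r + 2 * ((i : ℕ) + 1)) % (2 * r) by
            intro hh; rw [← hh] at b3; omega)
            b1 b2 (by omega)
        · exact exps_lt hq2 (show (j' : ℕ) ≠ ((j' : ℕ) + r + 2 * ((i' : ℕ) + 1)) % (2 * r) by
            intro hh; rw [← hh] at c3; omega)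
            c1 c2 (by omega)
      · exact exps_inj_succ hq3 (by have := hr.two_le; omega) b1 b2 c1 c2 b3 c3 h2
    have hi : (i : ℕ) < h := i.2
    have hi' : (i' : ℕ) < h := i'.2
    have h3 := Nat.mod_add_div ((j : ℕ) + r + 2 * ((i : ℕ) + 1)) (2 * r)
    have h4 := Nat.mod_add_div ((j' : ℕ) + r + 2 * ((i' : ℕ) + 1)) (2 * r)
    rcases hpair with ⟨e1, e2⟩ | ⟨e1, e2⟩
    · rw [e2] at h3
      have e3 : ((j : ℕ) + r + 2 * ((i : ℕ) + 1)) / (2 * r) =
          ((j' : ℕ) + r + 2 * ((i' : ℕ) + 1)) / (2 * r) := by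
        rcases Nat.lt_trichotomy (((j : ℕ) + r + 2 * ((i : ℕ) + 1)) / (2 * r))
          (((j' : ℕ) + r + 2 * ((i' : ℕ) + 1)) / (2 * r)) with hlt | heq | hlt
        · have := Nat.mul_le_mul_left (2 * r) (Nat.succ_le_of_lt hlt)
          rw [Nat.mul_succ] at this
          omega
        · exact heq
        · have := Nat.mul_le_mul_left (2 * r) (Nat.succ_le_of_lt hlt)
          rw [Nat.mul_succ] at this
          omega
      rw [e3] at h3
      exact Prod.ext (Fin.ext (show (i : ℕ) = i' by omega)) (Fin.ext e1)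
    · rw [e2] at h3
      rw [← e1] at h4
      set u := ((j : ℕ) + r + 2 * ((i : ℕ) + 1)) / (2 * r)
      set v := ((j' : ℕ) + r + 2 * ((i' : ℕ) + 1)) / (2 * r)
      have h5 : 2 * r * (u + v) = 2 * r + 2 * ((i : ℕ) + i' + 2) := by linear_combination h3 + h4
      rcases Nat.lt_trichotomy (u + v) 1 with hlt | heq | hlt
      · rw [Nat.lt_one_iff.1 hlt, mul_zero] at h5; omega
      · rw [heq, mul_one] at h5; omega
      · have := Nat.mul_le_mul_left (2 * r) (show 2 ≤ u + v by omega)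
        omega
  have hli := (linearIndependent_monoidHom Kˣ K).comp ψ hψ
  have hsum : ∑ p : Fin h × Fin (2 * r), (w p.1 * a p.1) ^ q ^ (p.2 : ℕ) • (ψ p : Kˣ → K) = 0 := by
    funext x
    have h1 := hφ0 _ (hchar x x.ne_zero)
    rw [hφtr] at h1
    have h2 := congrArg (algebraMap F₀ K) h1
    rw [map_zero, map_sum] at h2
    rw [Pi.zero_apply, ← h2, Fintype.sum_prod_type, Finset.sum_apply]
    refine Finset.sum_congr rfl fun i _ => ?_
    rw [FiniteField.algebraMap_trace_eq_sum_pow, hdim, hF₀, Finset.sum_apply,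
      ← Fin.sum_univ_eq_sum_range]
    refine Finset.sum_congr rfl fun j _ => ?_
    simp only [Pi.smul_apply, smul_eq_mul, ψ, MonoidHom.comp_apply, powMonoidHom_apply,
      Units.coeHom_apply, Units.val_pow_eq_pow_val, N]
    simp only [mul_pow, ← pow_mul]
    rw [show q ^ (j : ℕ) = q ^ (j : ℕ) from rfl, mul_assoc ((w i) ^ q ^ (j : ℕ))]
    congr 2
    rw [mul_assoc ε, pow_mul _ ε, add_mul, one_mul, pow_add, pow_add, ← pow_red hK, ← pow_add q]
    congr 3
    ring
  have hzero : ∀ p : Fin h × Fin (2 * r), (w p.1 * a p.1) ^ q ^ (p.2 : ℕ) = 0 :=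
    Fintype.linearIndependent_iff.1 hli _ hsum
  have hw0 : ∀ i, w i = 0 := fun i => by
    have h1 := hzero (i, ⟨0, by have := hr.pos; omega⟩)
    rw [pow_zero, pow_one, mul_eq_zero] at h1
    exact h1.resolve_right (ha i)
  exact hφb (by rw [hφtr]; simp [hw0])

/-- In a space of more than `d` hermitian `d × d` matrices over the fixed field some non-trivial
combination is singular. -/
theorem exists_det_zero {F₀ : Type*} [Field F₀] [Fintype F₀] {q d N : ℕ}
    (hF : Fintype.card F = q ^ 2) (ι : F₀ →+* F) (hι : ∀ s, ι s ^ q = ι s)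
    (hF₀ : Fintype.card F₀ = q) (A : Fin N → Matrix (Fin d) (Fin d) F)
    (hA : ∀ k i j, A k j i = A k i j ^ q) (hd : d < N) (h0 : 0 < d) :
    ∃ c : Fin N → F₀, c ≠ 0 ∧ (∑ k, ι (c k) • A k).det = 0 := by
  classical
  by_contra hcon
  push Not at hcon
  let P : MvPolynomial (Fin N) F :=
    (Matrix.of fun i j => ∑ k, MvPolynomial.X k * MvPolynomial.C (A k i j)).det
  have hP : ∀ c : Fin N → F₀, MvPolynomial.eval (fun k => ι (c k)) P = (∑ k, ι (c k) • A k).det := by
    intro c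
    show MvPolynomial.eval _ (Matrix.det _) = _
    rw [RingHom.map_det]
    congr 1
    ext i j
    simp [Matrix.sum_apply]
  have hfix : ∀ c : Fin N → F₀, (∑ k, ι (c k) • A k).det ^ q = (∑ k, ι (c k) • A k).det := by
    intro c
    rw [← conjHom_apply hF, RingHom.map_det, ← Matrix.det_transpose]
    congr 1
    ext i j
    simp [Matrix.sum_apply, hι, ← hA, mul_pow, map_sum]
  have hdegP : P.totalDegree ≤ d := by
    simp only [P, Matrix.det_apply]
    refine (MvPolynomial.totalDegree_finset_sum _ _).trans (Finset.sup_le fun σ _ => ?_)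
    refine (MvPolynomial.totalDegree_smul_le _ _).trans ?_
    refine (MvPolynomial.totalDegree_finset_prod _ _).trans ?_
    refine (Finset.sum_le_card_nsmul _ _ 1 fun i _ => ?_).trans (by simp)
    simp only [Matrix.of_apply]
    refine (MvPolynomial.totalDegree_finset_sum (R := F) (σ := Fin N) _ _).trans
      (Finset.sup_le fun k _ => ?_)
    refine (MvPolynomial.totalDegree_mul _ _).trans ?_
    rw [MvPolynomial.totalDegree_X, MvPolynomial.totalDegree_C]
  have hq := two_le_q hF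
  -- the sum over all points of a polynomial of low degree vanishes
  have hzero : ∑ c : Fin N → F₀, MvPolynomial.eval (fun k => ι (c k)) (P ^ (q - 1)) = 0 := by
    simp only [MvPolynomial.eval_eq']
    rw [Finset.sum_comm]
    refine Finset.sum_eq_zero fun e he => ?_
    rw [← Finset.mul_sum]
    obtain ⟨k, hk⟩ : ∃ k, e k < q - 1 := by
      by_contra hk
      push Not at hk
      have h1 := (MvPolynomial.le_totalDegree he).trans (MvPolynomial.totalDegree_pow P (q - 1))
      rw [Finsupp.sum_fintype _ _ (fun _ => rfl)] at h1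
      have h2 : N * (q - 1) ≤ ∑ k, e k := by
        have := Finset.sum_le_sum (fun k (_ : k ∈ (Finset.univ : Finset (Fin N))) => hk k)
        simpa using this
      have h3 : (q - 1) * P.totalDegree ≤ (q - 1) * d := Nat.mul_le_mul_left _ hdegP
      have h4 : (q - 1) * d < N * (q - 1) := by
        rw [mul_comm N]; exact Nat.mul_lt_mul_of_pos_left hd (by omega)
      omega
    rw [show (∑ c : Fin N → F₀, ∏ i, ι (c i) ^ e i) = ∏ i, ∑ x : F₀, ι x ^ e i by
      rw [Fintype.prod_sum]]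
    rw [Finset.prod_eq_zero (Finset.mem_univ k), mul_zero]
    simp only [← map_pow, ← map_sum]
    rw [FiniteField.sum_pow_lt_card_sub_one (K := F₀) (e k) (by rw [hF₀]; exact hk), map_zero]
  have hval : ∀ c : Fin N → F₀, MvPolynomial.eval (fun k => ι (c k)) (P ^ (q - 1)) =
      if c = 0 then 0 else 1 := by
    intro c
    rw [map_pow, hP]
    split_ifs with hc
    · subst hc
      have : (∑ k, ι ((0 : Fin N → F₀) k) • A k) = 0 := by simp
      haveI hne : Nonempty (Fin d) := ⟨⟨0, h0⟩⟩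
      rw [this, Matrix.det_zero, zero_pow (by omega)]
    · exact (fixed_iff hF (hcon c hc)).1 (hfix c)
  rw [Finset.sum_congr rfl (fun c _ => hval c), Finset.sum_ite, Finset.sum_const_zero, zero_add,
    Finset.sum_const, nsmul_eq_mul, mul_one] at hzero
  have hc : (Finset.univ.filter fun c : Fin N → F₀ => ¬ c = 0).card = q ^ N - 1 := by
    rw [Finset.filter_ne', Finset.card_erase_of_mem (Finset.mem_univ _), Finset.card_univ,
      Fintype.card_fun, hF₀, Fintype.card_fin]
  rw [hc, Nat.cast_sub (Nat.one_le_pow _ _ (by omega)), Nat.cast_pow] at hzero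
  have hq0 : (q : F) = 0 := by
    obtain ⟨p, m, hp, hchar, rfl, hm⟩ := exists_prime_pow hF
    rw [Nat.cast_pow, CharP.cast_eq_zero, zero_pow (by omega)]
  rw [hq0, zero_pow (by omega), zero_sub, Nat.cast_one, neg_eq_zero] at hzero
  exact one_ne_zero hzero

end Span

end Cfsg.Agent.FieldExtMax
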