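/-
Two images of an isotropic line meeting properly give two transvections of the line with one axis.

Main results: `UnOvergroup.pair_of_meet`.
-/
import Cfsg.Agent.Lib.FieldExtMax.UnBase
import Cfsg.Agent.Lib.FieldExtMax.UnSpan
import Cfsg.Agent.Lib.FieldExtMax.SpLines

set_option autoImplicit false
set_option linter.unusedSectionVars false

namespace Cfsg.Agent.FieldExtMax

open Module
open Cfsg.Agent.Unitary

variable {F K V : Type*} [Field F] [Fintype F] [Field K] [Fintype K] [Algebra F K]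
  [AddCommGroup V] [Module F V] [Module K V] [IsScalarTower F K V] [Finite V]

variable {q Q : ℕ} {H : V → V → K} {lam : Dual F K} {M : Subgroup (V ≃ₗ[F] V)}

namespace UnOvergroup

variable (hM : UnOvergroup q Q H lam M)
include hM

lemma smul_skew {s : F} (hs : s ^ q = s) {k : K} (hk : k + k ^ Q = 0) :
    s • k + (s • k) ^ Q = 0 := by
  rw [hM.smul_pow_Q, hs, ← smul_add, hk, smul_zero]

/-- The skew elements span over `F`. -/
lemma skew_span (W : Submodule F K) (h : ∀ k : K, k + k ^ Q = 0 → k ∈ W) : W = ⊤ := by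
  obtain ⟨d, hd0, hd⟩ := exists_skew hM.cardF
  obtain ⟨u, hu⟩ := exists_trace_eq hM.cardF (one_pow q)
  refine eq_top_iff.2 fun x _ => ?_
  have hsk : ∀ y : K, y - y ^ Q + (y - y ^ Q) ^ Q = 0 := fun y => by
    rw [sub_pow_q hM.cardK, pow_q_pow_q hM.cardK]; ring
  -- a scalar outside the fixed field
  obtain ⟨w, hw⟩ : ∃ w : F, w ^ q ≠ w := by
    by_contra hc
    push Not at hc
    have h2 := card_fixed hM.cardF
    rw [Nat.card_congr (Equiv.subtypeUnivEquiv hc), Nat.card_eq_fintype_card, hM.cardF] at h2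
    have := two_le_q hM.cardF
    nlinarith
  have e : x = (w - w ^ q)⁻¹ • ((w • x - (w • x) ^ Q) - w ^ q • (x - x ^ Q)) := by
    rw [eq_inv_smul_iff₀ (sub_ne_zero.2 (Ne.symm hw)), hM.smul_pow_Q, smul_sub, sub_smul]
    abel
  rw [e]
  exact W.smul_mem _ (W.sub_mem (h _ (hsk _)) (W.smul_mem _ (h _ (hsk _))))

/-- Two fixed-field independent skew elements are independent over `F`. -/
lemma skew_indep {k₁ k₂ : K} (h₁ : k₁ + k₁ ^ Q = 0) (h₂ : k₂ + k₂ ^ Q = 0) (h0 : k₁ ≠ 0)
    {t : F} (h : k₂ = t • k₁) : t ^ q = t := by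
  rw [h, hM.smul_pow_Q, eq_neg_of_add_eq_zero_right h₁, smul_neg, ← sub_eq_add_neg, ← sub_smul,
    smul_eq_zero, sub_eq_zero] at h₂
  exact (h₂.resolve_right h0).symm

/-- A subspace orthogonal to `A` of complementary dimension is its orthogonal. -/
lemma eq_perp (W A : Submodule F K) (hdim : finrank F W + finrank F A = finrank F K)
    (hle : ∀ l ∈ W, ∀ y ∈ A, lam (l * y ^ Q) = 0) (l : K) :
    l ∈ W ↔ ∀ y ∈ A, lam (l * y ^ Q) = 0 := by
  haveI : Module.Finite F K := Module.Finite.of_finite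
  have hK := hM.cardK
  let b := Module.finBasis F A
  let Λ : K →ₗ[F] (Fin (finrank F A) → F) := LinearMap.pi fun j => lam ∘ₗ mulL F ((b j : K) ^ Q)
  have hΛ : ∀ l j, Λ l j = lam (l * (b j : K) ^ Q) := fun l j => by
    show lam ((b j : K) ^ Q * l) = _
    rw [mul_comm]
  have hsurj : LinearMap.range Λ = ⊤ := by
    by_contra hne
    obtain ⟨z, -, hz⟩ := SetLike.exists_of_lt (lt_top_iff_ne_top.2 hne)
    obtain ⟨φ, hφz, hφ⟩ := Submodule.exists_dual_map_eq_bot_of_notMem hz inferInstance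
    have hsingle : ∀ (v : Fin (finrank F A) → F), φ v = ∑ j, v j * φ (Pi.single j 1) := fun v => by
      conv_lhs => rw [pi_eq_sum_univ' v, map_sum]
      simp [map_smul]
    have hcomb : ∑ j, φ (Pi.single j 1) • (b j : K) ^ Q = 0 := by
      by_contra hne0
      obtain ⟨l, hl⟩ := lam_ne_zero hM.lam_ne hne0
      refine hl ?_
      have h0 : φ (Λ l) = 0 := by
        have := Submodule.mem_map_of_mem (f := φ) (LinearMap.mem_range_self Λ l)
        rwa [hφ, Submodule.mem_bot] at this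
      rw [← h0, hsingle, Finset.mul_sum, map_sum]
      refine Finset.sum_congr rfl fun j _ => ?_
      rw [mul_smul_comm, map_smul, smul_eq_mul, hΛ, mul_comm]
    have hcomb' : ∑ j, φ (Pi.single j 1) ^ q • (b j : K) = 0 := by
      have := congrArg (Cfsg.Agent.Unitary.conjHom hK) hcomb
      rw [map_sum, map_zero] at this
      rw [← this]
      refine Finset.sum_congr rfl fun j _ => ?_
      rw [conjHom_apply, hM.smul_pow_Q, pow_q_pow_q hK]
    have hcomb'' : ∑ j, φ (Pi.single j 1) ^ q • b j = 0 := by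
      apply Subtype.ext
      simpa using hcomb'
    have h0 := Fintype.linearIndependent_iff.1 b.linearIndependent _ hcomb''
    exact hφz (by simp [hsingle z, (fun j => (pow_q_eq_zero hM.cardF).1 (h0 j))])
  have hker : W = LinearMap.ker Λ := by
    refine Submodule.eq_of_le_of_finrank_le (fun l hl => ?_) ?_
    · rw [LinearMap.mem_ker]
      funext j
      rw [hΛ]
      exact hle l hl _ (b j).2
    · have h1 := LinearMap.finrank_range_add_finrank_ker Λ
      rw [hsurj, finrank_top, Module.finrank_fin_fun] at h1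
      omega
  refine ⟨fun hl => hle l hl, fun h => ?_⟩
  rw [hker, LinearMap.mem_ker]
  funext j
  rw [hΛ]
  exact h _ (b j).2

/-- Skew elements with a singular pairing on `A` fill all but `finrank A` dimensions. -/
lemma singular_bound (A : Submodule F K) (hA : 0 < finrank F A)
    (Sk Sm : Submodule (fixedField hM.cardF) K) (hSk : ∀ k ∈ Sk, k + k ^ Q = 0)
    (hle : Sm ≤ Sk)
    (hsing : ∀ k, k + k ^ Q = 0 → ∀ Y ∈ A, Y ≠ 0 → (∀ y ∈ A, lam (k * Y * y ^ Q) = 0) → k ∈ Sm) :
    finrank (fixedField hM.cardF) Sk ≤ finrank (fixedField hM.cardF) Sm + finrank F A := by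
  haveI : Module.Finite F K := Module.Finite.of_finite
  haveI : Fintype (fixedField hM.cardF) := Fintype.ofFinite _
  haveI : Module.Finite (fixedField hM.cardF) K := Module.Finite.of_finite
  have hK := hM.cardK
  by_contra hlt
  push Not at hlt
  obtain ⟨C, hC⟩ := Submodule.exists_isCompl Sm
  set C' := C ⊓ Sk
  have hsup : Sm ⊔ C' = Sk := by
    rw [← sup_inf_assoc_of_le C hle, hC.sup_eq_top, top_inf_eq]
  have hCdim : finrank F A < finrank (fixedField hM.cardF) C' := by
    have h1 := Submodule.finrank_sup_add_finrank_inf_eq Sm C'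
    rw [hsup] at h1
    omega
  let e := Module.finBasis (fixedField hM.cardF) C'
  let b := Module.finBasis F A
  obtain ⟨z, hz0, hz⟩ := exists_skew hM.cardF
  have hek : ∀ i, (e i : K) + (e i : K) ^ Q = 0 := fun i => hSk _ (e i).2.2
  obtain ⟨c, hc, hdet⟩ := exists_det_zero hM.cardF (fixedField hM.cardF).subtype
    (fun s => (mem_fixedField hM.cardF).1 s.2)
    (Fintype.card_eq_nat_card.trans (card_fixedField hM.cardF))
    (fun i => Matrix.of fun p p' => z * lam ((e i : K) * (b p : K) * (b p' : K) ^ Q))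
    (fun i p p' => by
      simp only [Matrix.of_apply, mul_pow, hz, ← hM.lam_pow, pow_q_pow_q hK,
        eq_neg_of_add_eq_zero_right (hek i), neg_mul, map_neg, mul_neg, neg_neg]
      congr 2
      ring)
    hCdim hA
  obtain ⟨y, hy0, hy⟩ := Matrix.exists_vecMul_eq_zero_iff.2 hdet
  set k : C' := ∑ i, c i • e i with hk
  have hk0 : k ≠ 0 := fun h => hc (funext (Fintype.linearIndependent_iff.1 e.linearIndependent c h))
  set Y : A := ∑ p, y p • b p with hY
  have hY0 : Y ≠ 0 := fun h => hy0 (funext (Fintype.linearIndependent_iff.1 b.linearIndependent y h))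
  have hkK : (k : K) = ∑ i, (c i : F) • (e i : K) := by
    rw [hk, Submodule.coe_sum]
    exact Finset.sum_congr rfl fun i _ => rfl
  have hYK : (Y : K) = ∑ p, y p • (b p : K) := by
    rw [hY, Submodule.coe_sum]
    exact Finset.sum_congr rfl fun i _ => rfl
  have hkY : ∀ p', lam ((k : K) * (Y : K) * (b p' : K) ^ Q) = 0 := fun p' => by
    have h3 : ∑ p, y p * ∑ i, (c i : F) * (z * lam ((e i : K) * (b p : K) * (b p' : K) ^ Q)) = 0 := by
      have := congrFun hy p'
      simpa [Matrix.vecMul, dotProduct, Matrix.sum_apply, Finset.mul_sum] using this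
    refine (mul_eq_zero.1 ?_).resolve_left hz0
    rw [← h3, hkK, hYK]
    simp only [Finset.sum_mul, Finset.mul_sum, map_sum, smul_mul_assoc, mul_smul_comm, map_smul,
      smul_eq_mul]
    refine Finset.sum_congr rfl fun p _ => Finset.sum_congr rfl fun i _ => ?_
    ring
  have hmem : (k : K) ∈ Sm := by
    refine hsing _ (hSk _ k.2.2) _ Y.2 (fun h => hY0 (Subtype.ext h)) fun y' hy' => ?_
    have h2 : y' = ∑ p, b.repr ⟨y', hy'⟩ p • (b p : K) := by
      have := congrArg Subtype.val (b.sum_repr ⟨y', hy'⟩)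
      simp only [Submodule.coe_sum, Submodule.coe_smul] at this
      exact this.symm
    rw [h2, sum_pow_q hK, Finset.mul_sum, map_sum]
    refine Finset.sum_eq_zero fun p' _ => ?_
    rw [hM.smul_pow_Q, mul_smul_comm, map_smul, hkY, smul_zero]
  exact hk0 (Subtype.ext ((Submodule.disjoint_def.1 hC.disjoint) _ hmem k.2.1))

/-- Case of a second line orthogonal to the first. -/
lemma pair_of_perp {a : V} (ha : a ≠ 0) (hs : H a a = 0) {g : V ≃ₗ[F] V} (hgM : g ∈ M)
    (hgne : img K a g ≠ line F K a) (hmeet : img K a g ⊓ line F K a ≠ ⊥)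
    (hmax' : ∀ h ∈ M, img K a h ≠ line F K a →
      finrank F (img K a h ⊓ line F K a : Submodule F V)
        ≤ finrank F (img K a g ⊓ line F K a : Submodule F V))
    (hperp : ∀ x ∈ img K a g, H x a = 0) :
    ∃ δ v₁ v₂ : K, δ ≠ 0 ∧ v₁ ≠ 0 ∧ v₂ ≠ 0 ∧ (∀ t : F, v₂ ≠ t • v₁) ∧ lam (δ * v₁) = 0 ∧
      lam (δ * v₂) = 0 ∧ Trs lam M a δ v₁ ∧ Trs lam M a δ v₂ := by
  haveI : Module.Finite F K := Module.Finite.of_finite
  have hK := hM.cardK
  have hnle : ¬ img K a g ≤ line F K a := fun h =>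
    hgne (Submodule.eq_of_le_of_finrank_eq h (by rw [finrank_img ha, finrank_line ha]))
  obtain ⟨x₁, hx₁, hx₁L⟩ := SetLike.not_le_iff_exists.1 hnle
  obtain ⟨b, hab, hxb⟩ := hM.exists_perp (a := a) (x := x₁)
    (fun h => hx₁L (mem_line_iff_span.2 h))
  let ψ : Dual K V :=
    { toFun := fun x => H x b
      map_add' := fun x y => hM.herm.add_left x y b
      map_smul' := fun c x => hM.herm.smul_left c x b }
  have hψa : ψ a = 0 := hab
  have hψx : ψ x₁ ≠ 0 := by show H x₁ b ≠ 0; rw [hxb]; exact one_ne_zero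
  obtain ⟨δ, hδ, htr⟩ := trs_of_translations hM.deg hM.lam_ne ha hgM hgne hmeet hmax' ψ hψa hx₁
    hψx fun k => by
      set c := (-k) ^ Q with hc
      have hab' : H a (c • b) = 0 := by rw [hM.H_smul_right, hab, mul_zero]
      obtain ⟨t, ht⟩ := exists_trace_eq hK (c := -H (c • b) (c • b))
        (by rw [neg_pow_q hK, hM.herm.self_fixed])
      obtain ⟨u, hu, hux⟩ := hM.eichler_mem hs hab' (k := t) (by rw [ht, neg_add_cancel])
      refine ⟨u, hu, fun x hx => ?_, fun x hx => ?_⟩
      · obtain ⟨l, rfl⟩ := mem_line.1 hx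
        rw [hux, hM.herm.smul_left, hs, hM.herm.smul_left, hab']
        simp
      · rw [hux, hperp x hx, hM.H_smul_right, hc, pow_q_pow_q hK]
        show _ = x + (k * H x b) • a
        module
  set Kr := LinearMap.ker (lam ∘ₗ mulL F δ) with hKr
  have hdim : 2 ≤ finrank F Kr := by
    have h1 := LinearMap.finrank_range_add_finrank_ker (lam ∘ₗ mulL F δ)
    have h2 := Submodule.finrank_le (LinearMap.range (lam ∘ₗ mulL F δ))
    rw [Module.finrank_self] at h2
    rw [← hKr] at h1
    obtain ⟨m, hm⟩ := hM.odd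
    have := hM.deg.two_le
    omega
  obtain ⟨v₁, hv₁, hv₁0⟩ := (Submodule.ne_bot_iff Kr).1
    (fun h => by rw [h, finrank_bot] at hdim; omega)
  obtain ⟨v₂, hv₂, hv₂'⟩ : ∃ v ∈ Kr, v ∉ F ∙ v₁ := by
    by_contra h
    push Not at h
    have h1 := Submodule.finrank_mono (show Kr ≤ F ∙ v₁ from h)
    rw [finrank_span_singleton hv₁0] at h1
    omega
  exact ⟨δ, v₁, v₂, hδ, hv₁0, fun h => hv₂' (h ▸ zero_mem _),
    fun t h => hv₂' (Submodule.mem_span_singleton.2 ⟨t, h.symm⟩), hv₁, hv₂, htr _ hv₁, htr _ hv₂⟩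

/-- Two images of an isotropic line meeting properly. -/
theorem pair_of_meet {a : V} (ha : a ≠ 0) (hs : H a a = 0)
    (hbad : ∃ g ∈ M, img K a g ≠ line F K a ∧ img K a g ⊓ line F K a ≠ ⊥) :
    ∃ δ v₁ v₂ : K, δ ≠ 0 ∧ v₁ ≠ 0 ∧ v₂ ≠ 0 ∧ (∀ t : F, v₂ ≠ t • v₁) ∧ lam (δ * v₁) = 0 ∧
      lam (δ * v₂) = 0 ∧ Trs lam M a δ v₁ ∧ Trs lam M a δ v₂ := by
  classical
  obtain ⟨g₁, hg₁, hne₁, hbot₁⟩ := hbad
  haveI : Finite (V ≃ₗ[F] V) := Finite.of_injective _ DFunLike.coe_injective
  letI := Fintype.ofFinite (V ≃ₗ[F] V)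
  let bad := Finset.univ.filter fun g => g ∈ M ∧ img K a g ≠ line F K a
  obtain ⟨g, hg, hmax⟩ := Finset.exists_max_image bad
    (fun g => finrank F (img K a g ⊓ line F K a : Submodule F V)) ⟨g₁, by simp [bad, hg₁, hne₁]⟩
  obtain ⟨hgM, hgne⟩ := (Finset.mem_filter.1 hg).2
  have hmax' := fun h (hh : h ∈ M) (hhne : img K a h ≠ line F K a) =>
    hmax h (Finset.mem_filter.2 ⟨Finset.mem_univ _, hh, hhne⟩)
  have hmeet : img K a g ⊓ line F K a ≠ ⊥ := fun h => hbot₁ (by
    have := hmax' g₁ hg₁ hne₁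
    rw [h, finrank_bot] at this
    exact Submodule.finrank_eq_zero.1 (Nat.le_zero.1 this))
  by_cases hperp : ∀ x ∈ img K a g, H x a = 0
  · exact hM.pair_of_perp ha hs hgM hgne hmeet hmax' hperp
  push Not at hperp
  obtain ⟨x₁, hx₁, hψx₁⟩ := hperp
  have hK := hM.cardK
  have hF := hM.cardF
  haveI : Module.Finite F K := Module.Finite.of_finite
  set r := finrank F K with hr
  set L' := img K a g with hL'
  set W := L' ⊓ line F K a with hW
  set w := finrank F W with hw
  have hw1 : 1 ≤ w := Nat.one_le_iff_ne_zero.2 fun h => hmeet (Submodule.finrank_eq_zero.1 h)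
  have hnle : ¬ L' ≤ line F K a := fun h =>
    hgne (Submodule.eq_of_le_of_finrank_eq h (by rw [finrank_img ha, finrank_line ha]))
  have hwr : w < r := by
    rcases lt_or_ge w r with h | h
    · exact h
    · exfalso
      have h1 : W = L' := Submodule.eq_of_le_of_finrank_le inf_le_left
        (by rw [finrank_img ha]; exact h)
      exact hnle (h1 ▸ inf_le_right)
  let ψ : Dual K V :=
    { toFun := fun x => H x a
      map_add' := fun x y => hM.herm.add_left x y a
      map_smul' := fun c x => hM.herm.smul_left c x a }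
  have hψ : ∀ x, ψ x = H x a := fun x => rfl
  have hψL : ∀ x ∈ line F K a, ψ x = 0 := fun x hx => by
    obtain ⟨c, rfl⟩ := mem_line.1 hx
    simp [hψ, hM.herm.smul_left, hs]
  let sp : K →ₗ[F] V := (LinearMap.toSpanSingleton K V a).restrictScalars F
  have hsp : ∀ l, sp l = l • a := fun l => rfl
  have hspinj : Function.Injective sp := fun _ _ h => smul_inj ha h
  let γ : K →ₗ[F] V := (g : V →ₗ[F] V) ∘ₗ sp
  have hγinj : Function.Injective γ := fun _ _ h => hspinj (g.injective h)
  have hγL : ∀ l, γ l ∈ L' := fun l => ⟨l • a, mem_line.2 ⟨l, rfl⟩, rfl⟩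
  have hL'γ : ∀ x ∈ L', ∃ l, γ l = x := fun x ⟨y, hy, hyx⟩ => by
    obtain ⟨l, rfl⟩ := mem_line.1 hy
    exact ⟨l, hyx⟩
  let χ : K →ₗ[F] K := ψ.restrictScalars F ∘ₗ γ
  have hχ : ∀ l, χ l = ψ (γ l) := fun l => rfl
  let A : Submodule F K := LinearMap.range χ
  let W' : Submodule F K := L'.comap sp
  have hmapW : W'.map sp = W := by
    rw [Submodule.map_comap_eq, inf_comm]; rfl
  have hW' : finrank F W' = w := by
    rw [hw, (Submodule.equivMapOfInjective sp hspinj W').finrank_eq, hmapW]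
  set Z : Submodule F V := (LinearMap.ker χ).map γ with hZdef
  have hZdim : finrank F Z + finrank F A = r := by
    rw [hZdef, ← (Submodule.equivMapOfInjective γ hγinj (LinearMap.ker χ)).finrank_eq, add_comm,
      LinearMap.finrank_range_add_finrank_ker]
  have hWZ : W ≤ Z := by
    rintro x ⟨hx, hxl⟩
    obtain ⟨l, rfl⟩ := hL'γ x hx
    exact ⟨l, by show ψ (γ l) = 0; exact hψL _ hxl, rfl⟩
  -- translations
  have hu' : ∀ k : K, ∃ u : V ≃ₗ[F] V, k + k ^ Q = 0 → u ∈ M ∧
      (∀ x ∈ line F K a, u x = x) ∧ ∀ x, u x = x + (k * ψ x) • a := by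
    intro k
    by_cases hk : k + k ^ Q = 0
    · obtain ⟨u, hu, hux⟩ := hM.ktrans_mem hk hs
      exact ⟨u, fun _ => ⟨hu, fun x hx => by
        rw [hux, ← hψ, hψL x hx, mul_zero, zero_smul, add_zero], hux⟩⟩
    · exact ⟨1, fun h => absurd h hk⟩
  choose u hu using hu'
  -- a further common vector gives translations within the line
  have heq : ∀ k, k + k ^ Q = 0 → (∃ l, (k * χ l) ∈ W' ∧ χ l ≠ 0) →
      ∀ x ∈ L', k * ψ x ∈ W' := by
    rintro k hk ⟨l, hlW, hl0⟩
    obtain ⟨huM, hufix, hux⟩ := hu k hk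
    have hgoal : img K a (u k * g) = L' := by
      by_contra hne
      have h1 : img K a (g⁻¹ * (u k * g)) ≠ line F K a := fun h => hne (by
        have := congrArg (Submodule.map (g : V →ₗ[F] V)) h
        rw [← img_mul, mul_inv_cancel_left] at this
        exact this)
      have h2 := hmax' _ (mul_mem (inv_mem hgM) (mul_mem huM hgM)) h1
      rw [← finrank_img_inf] at h2
      have hx : γ l ∉ W := fun h => hl0 (hψL _ h.2)
      have hle : W ⊔ F ∙ γ l ≤ img K a (u k * g) ⊓ img K a g := by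
        refine sup_le (le_inf ?_ inf_le_left) ((Submodule.span_singleton_le_iff_mem _ _).2
          ⟨?_, hγL l⟩)
        · rintro x ⟨hxL, hxl⟩
          rw [img_mul]
          exact ⟨x, hxL, hufix x hxl⟩
        · rw [img_mul]
          refine ⟨γ l - (k * χ l) • a, L'.sub_mem (hγL l) hlW, ?_⟩
          show u k _ = γ l
          rw [map_sub, hux, hufix _ (mem_line.2 ⟨_, rfl⟩), ← hχ, add_sub_cancel_right]
      have hlt : W < W ⊔ F ∙ γ l := lt_of_le_of_ne le_sup_left fun h => hx
        (h.symm ▸ Submodule.mem_sup_right (Submodule.mem_span_singleton_self _))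
      exact absurd ((Submodule.finrank_mono hle).trans h2)
        (not_le.2 (Submodule.finrank_lt_finrank_of_lt hlt))
    intro x hx
    have h1 : u k x ∈ L' := by rw [← hgoal, img_mul]; exact ⟨x, hx, rfl⟩
    rw [hux] at h1
    have := L'.sub_mem h1 hx
    rw [add_sub_cancel_left] at this
    exact this
  -- the common part is the kernel
  have hZW : Z = W := by
    refine (le_antisymm hWZ ?_).symm
    by_contra hlt
    obtain ⟨_, ⟨m, hm, rfl⟩, hmW⟩ := SetLike.not_le_iff_exists.1 hlt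
    -- every translation fixes a vector of the second line off the first
    have hall : ∀ k, k + k ^ Q = 0 → k * ψ x₁ ∈ W' := by
      intro k hk
      obtain ⟨huM, hufix, hux⟩ := hu k hk
      have hfixm : u k (γ m) = γ m := by
        rw [hux, ← hχ, LinearMap.mem_ker.1 hm, mul_zero, zero_smul, add_zero]
      have hgoal : img K a (u k * g) = L' := by
        by_contra hne
        have h1 : img K a (g⁻¹ * (u k * g)) ≠ line F K a := fun h => hne (by
          have := congrArg (Submodule.map (g : V →ₗ[F] V)) h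
          rw [← img_mul, mul_inv_cancel_left] at this
          exact this)
        have h2 := hmax' _ (mul_mem (inv_mem hgM) (mul_mem huM hgM)) h1
        rw [← finrank_img_inf] at h2
        have hle : W ⊔ F ∙ γ m ≤ img K a (u k * g) ⊓ img K a g := by
          refine sup_le (le_inf ?_ inf_le_left) ((Submodule.span_singleton_le_iff_mem _ _).2
            ⟨?_, hγL m⟩)
          · rintro x ⟨hxL, hxl⟩
            rw [img_mul]
            exact ⟨x, hxL, hufix x hxl⟩
          · rw [img_mul]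
            exact ⟨γ m, hγL m, hfixm⟩
        have hlt' : W < W ⊔ F ∙ γ m := lt_of_le_of_ne le_sup_left fun h => hmW
          (h.symm ▸ Submodule.mem_sup_right (Submodule.mem_span_singleton_self _))
        exact absurd ((Submodule.finrank_mono hle).trans h2)
          (not_le.2 (Submodule.finrank_lt_finrank_of_lt hlt'))
      have h1 : u k x₁ ∈ L' := by rw [← hgoal, img_mul]; exact ⟨x₁, hx₁, rfl⟩
      rw [hux] at h1
      have := L'.sub_mem h1 hx₁
      rw [add_sub_cancel_left] at this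
      exact this
    have htop : W'.comap (LinearMap.mulRight F (ψ x₁)) = ⊤ := hM.skew_span _ hall
    have hW'top : W' = ⊤ := eq_top_iff.2 fun y _ => by
      have h1 : y / ψ x₁ ∈ W'.comap (LinearMap.mulRight F (ψ x₁)) := by rw [htop]; trivial
      simpa [div_mul_cancel₀ _ (show ψ x₁ ≠ 0 from hψx₁)] using h1
    rw [hW'top, finrank_top] at hW'
    omega
  rw [hZW, ← hw] at hZdim
  set d := finrank F A with hd
  -- the common part is orthogonal to the values
  have hperp : ∀ l, l ∈ W' ↔ ∀ y ∈ A, lam (l * y ^ Q) = 0 := by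
    refine hM.eq_perp W' A (by rw [hW']; exact hZdim) fun l hl y hy => ?_
    obtain ⟨m, rfl⟩ := hy
    rw [hχ, hψ, ← hM.herm.conj_symm, ← hM.herm.smul_left]
    exact hM.lam_img hgM hs hl (hγL m)
  -- the translations stabilising the second line
  set F₀ := fixedField hF
  haveI : Fintype F₀ := Fintype.ofFinite _
  haveI : Module.Finite F₀ K := Module.Finite.of_finite
  let Sk : Submodule F₀ K :=
    { carrier := {k | k + k ^ Q = 0}
      zero_mem' := by
        show (0 : K) + 0 ^ Q = 0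
        rw [zero_pow_q hK, add_zero]
      add_mem' := fun {x y} hx hy => by
        show x + y + (x + y) ^ Q = 0
        rw [add_pow_q hK]
        have hx' : x + x ^ Q = 0 := hx
        have hy' : y + y ^ Q = 0 := hy
        linear_combination hx' + hy' 
      smul_mem' := fun s x hx => hM.smul_skew ((mem_fixedField hF).1 s.2) hx }
  let Sm : Submodule F₀ K :=
    { carrier := {k | k + k ^ Q = 0 ∧ ∀ x ∈ L', k * ψ x ∈ W'}
      zero_mem' := ⟨Sk.zero_mem, fun x _ => by simp⟩
      add_mem' := fun {x y} hx hy => ⟨Sk.add_mem hx.1 hy.1, fun z hz => by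
        rw [add_mul]; exact W'.add_mem (hx.2 z hz) (hy.2 z hz)⟩
      smul_mem' := fun s x hx => ⟨Sk.smul_mem s hx.1, fun z hz => by
        show ((s : F) • x) * ψ z ∈ W'
        rw [smul_mul_assoc]; exact W'.smul_mem _ (hx.2 z hz)⟩ }
  have hqF : Nat.card F₀ = q := card_fixedField hF
  have hq2 := two_le_q hF
  have hSk : finrank F₀ Sk = r := by
    have h1 := Module.natCard_eq_pow_finrank (K := F₀) (V := Sk)
    rw [hqF] at h1
    have h2 : Nat.card Sk = q ^ r := (card_trace_zero hK).trans hM.Qeq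
    rw [h2] at h1
    exact (Nat.pow_right_injective hq2 h1).symm
  have hSm : r ≤ finrank F₀ Sm + d := by
    have hd0 : 0 < d := by
      rw [hd]
      refine Nat.pos_of_ne_zero fun h => ?_
      obtain ⟨l, hl⟩ := hL'γ x₁ hx₁
      have : χ l ∈ (⊥ : Submodule F K) := by
        rw [← Submodule.finrank_eq_zero.1 h]; exact ⟨l, rfl⟩
      rw [Submodule.mem_bot, hχ, hl] at this
      exact hψx₁ this
    refine le_trans hSk.ge (hM.singular_bound A hd0 Sk Sm (fun k hk => hk) (fun k hk => hk.1) ?_)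
    intro k hk Y hY hY0 hkY
    obtain ⟨l, rfl⟩ := hY
    exact ⟨hk, heq _ hk ⟨l, (hperp _).2 hkY, hY0⟩⟩
  -- their span
  let S : Submodule F K :=
    { carrier := {s | ∀ x ∈ L', s * ψ x ∈ W'}
      zero_mem' := fun x _ => by simp
      add_mem' := fun {s t} hs ht x hx => by rw [add_mul]; exact W'.add_mem (hs x hx) (ht x hx)
      smul_mem' := fun c s hs x hx => by rw [smul_mul_assoc]; exact W'.smul_mem c (hs x hx) }
  obtain ⟨om, hom⟩ : ∃ w : F, w ^ q ≠ w := by
    by_contra hc
    push Not at hc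
    have h2 := card_fixed hF
    rw [Nat.card_congr (Equiv.subtypeUnivEquiv hc), Nat.card_eq_fintype_card, hF] at h2
    nlinarith
  have hsw : r - d ≤ finrank F S := by
    have hinj : Nat.card (Sm × Sm) ≤ Nat.card S := by
      refine Nat.card_le_card_of_injective
        (fun p => (⟨(p.1 : K) + om • (p.2 : K), S.add_mem p.1.2.2 (S.smul_mem om p.2.2.2)⟩ : S))
        fun p p' h => ?_
      have h1 : ((p.1 : K) - p'.1) = om • ((p'.2 : K) - p.2) := by
        rw [smul_sub]; linear_combination congrArg Subtype.val h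
      by_cases h2 : (p'.2 : K) - p.2 = 0
      · rw [h2, smul_zero, sub_eq_zero] at h1
        exact Prod.ext (Subtype.ext h1) (Subtype.ext (sub_eq_zero.1 h2).symm)
      · exact absurd (hM.skew_indep (Sm.sub_mem p'.2.2 p.2.2).1 (Sm.sub_mem p.1.2 p'.1.2).1 h2 h1)
          hom
    rw [Nat.card_prod, Module.natCard_eq_pow_finrank (K := F₀) (V := Sm),
      Module.natCard_eq_pow_finrank (K := F) (V := S), hqF, Nat.card_eq_fintype_card (α := F), hF,
      ← pow_add, ← pow_mul] at hinj
    have := (Nat.pow_le_pow_iff_right hq2).1 hinj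
    omega
  have hAne : A ≠ ⊥ := by
    obtain ⟨l, hl⟩ := hL'γ x₁ hx₁
    exact (Submodule.ne_bot_iff _).2 ⟨χ l, ⟨l, rfl⟩, by rw [hχ, hl]; exact hψx₁⟩
  have hSne : S ≠ ⊥ := fun h => by
    rw [h, finrank_bot] at hsw
    omega
  have hCD := product_bound hM.deg (A := S) (B := A) (W := W') hSne hAne (by
    rintro s hs' _ ⟨l, rfl⟩
    exact hs' _ (hγL l))
  rw [hW', ← hr, ← hd] at hCD
  have hd1 : d = 1 := by omega
  -- the axis
  obtain ⟨α, hα0, hαall⟩ := finrank_eq_one_iff'.1 hd1
  have hα0' : (α : K) ≠ 0 := fun h => hα0 (Subtype.ext h)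
  obtain ⟨ε, hε⟩ : ∃ ε : Dual F K, ε α = 1 := by
    obtain ⟨ε, hε⟩ := Projective.exists_dual_ne_zero F hα0'
    exact ⟨(ε α)⁻¹ • ε, by simp [hε]⟩
  obtain ⟨δ, hδ⟩ := lam_repr hM.lam_ne (ε ∘ₗ χ)
  have hform : ∀ l, χ l = lam (δ * l) • (α : K) := by
    intro l
    obtain ⟨c, hc⟩ := hαall ⟨χ l, l, rfl⟩
    have hc' : c • (α : K) = χ l := congrArg Subtype.val hc
    rw [← hδ l]
    show χ l = ε (χ l) • (α : K)
    rw [← hc', map_smul, hε, smul_eq_mul, mul_one]
  have hδ0 : δ ≠ 0 := fun h => by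
    obtain ⟨l, hl⟩ := α.2
    exact hα0' (by rw [← hl, hform, h, zero_mul, map_zero, zero_smul])
  obtain ⟨lα, hlα⟩ := α.2
  have hget : ∀ k ∈ Sm, ∃ v : K, γ v = (k * (α : K)) • a ∧ lam (δ * v) = 0 ∧
      Trs lam M a δ v := by
    intro k hk
    have h1 : (k * (α : K)) • a ∈ L' := by rw [← hlα]; exact hk.2 _ (hγL lα)
    obtain ⟨v, hv⟩ := hL'γ _ h1
    have hvl : lam (δ * v) = 0 := by
      have : χ v = 0 := by rw [hχ, hv]; exact hψL _ (mem_line.2 ⟨_, rfl⟩)
      rw [hform, smul_eq_zero] at this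
      exact this.resolve_right hα0'
    obtain ⟨huM, -, hux⟩ := hu k hk.1
    refine ⟨v, hv, hvl, g⁻¹ * u k * g, mul_mem (mul_mem (inv_mem hgM) huM) hgM, fun l => ?_⟩
    apply g.injective
    show g (g.symm (u k (γ l))) = γ _
    rw [LinearEquiv.apply_symm_apply, hux]
    show _ = γ (l + lam (δ * l) • v)
    rw [map_add γ, map_smul γ, hv, ← hχ, hform, mul_smul_comm, smul_assoc]
  have hS2 : 2 ≤ finrank F₀ Sm := by
    obtain ⟨m, hm⟩ := hM.odd
    have := hM.deg.two_le
    omega
  obtain ⟨k₁, hk₁, hk₁0⟩ := (Submodule.ne_bot_iff Sm).1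
    (fun h => by rw [h, finrank_bot] at hS2; omega)
  obtain ⟨k₂, hk₂, hk₂'⟩ : ∃ k ∈ Sm, k ∉ F₀ ∙ k₁ := by
    by_contra h
    push Not at h
    have h1 := Submodule.finrank_mono (show Sm ≤ F₀ ∙ k₁ from h)
    rw [finrank_span_singleton hk₁0] at h1
    omega
  have hk₂0 : k₂ ≠ 0 := fun h => hk₂' (h ▸ zero_mem _)
  obtain ⟨v₁, hv₁, hvl₁, ht₁⟩ := hget k₁ hk₁
  obtain ⟨v₂, hv₂, hvl₂, ht₂⟩ := hget k₂ hk₂
  have hv0 : ∀ {k v : K}, k ≠ 0 → γ v = (k * (α : K)) • a → v ≠ 0 := fun hk hv h => by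
    rw [h, map_zero, eq_comm, smul_eq_zero] at hv
    exact (mul_ne_zero hk hα0') (hv.resolve_right ha)
  refine ⟨δ, v₁, v₂, hδ0, hv0 hk₁0 hv₁, hv0 hk₂0 hv₂, fun t ht => ?_, hvl₁, hvl₂, ht₁, ht₂⟩
  rw [ht, map_smul, hv₁, ← smul_assoc, ← smul_mul_assoc] at hv₂
  have h4 : k₂ = t • k₁ := (mul_right_cancel₀ hα0' (smul_inj ha hv₂)).symm
  refine hk₂' (Submodule.mem_span_singleton.2
    ⟨⟨t, (mem_fixedField hF).2 (hM.skew_indep hk₁.1 hk₂.1 hk₁0 h4)⟩, h4.symm⟩)

end UnOvergroup

end Cfsg.Agent.FieldExtMax
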