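/-
Two transvections of an isotropic line with one axis give every hermitian map of that line.

Main definitions: `Hm`, `frobMap`, `pieces`.
Main results: `UnOvergroup.centres_of_pair`.
-/
import Cfsg.Agent.Lib.FieldExtMax.UnBase
import Cfsg.Agent.Lib.FieldExtMax.UnSpan
import Cfsg.Agent.Lib.FieldExtMax.SpLines
import Mathlib.Dynamics.PeriodicPts.Lemmas

set_option autoImplicit false
set_option linter.unusedSectionVars false

namespace Cfsg.Agent.FieldExtMax

open Module
open Cfsg.Agent.Unitary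

variable {F K V : Type*} [Field F] [Fintype F] [Field K] [Fintype K] [Algebra F K]
  [AddCommGroup V] [Module F V] [Module K V] [IsScalarTower F K V] [Finite V]

/-- Splitting a sum over `0, …, 2 h` into `0` and the pairs `(i, 2 h + 1 - i)`. -/
lemma sum_pairs {N : Type*} [AddCommMonoid N] (f : ℕ → N) (h : ℕ) :
    ∑ i ∈ Finset.range (2 * h + 1), f i =
      f 0 + ∑ i : Fin h, (f ((i : ℕ) + 1) + f (2 * h + 1 - ((i : ℕ) + 1))) := by
  rw [Finset.sum_range_succ', add_comm, two_mul, Finset.sum_range_add, Finset.sum_add_distrib,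
    Fin.sum_univ_eq_sum_range (fun i => f (i + 1)),
    Fin.sum_univ_eq_sum_range (fun i => f (h + h + 1 - (i + 1)))]
  congr 2
  rw [← Finset.sum_range_reflect]
  refine Finset.sum_congr rfl fun i hi => ?_
  rw [Finset.mem_range] at hi
  congr 1
  omega

/-- An element fixed by the Frobenius of `F` comes from `F`. -/
lemma mem_base_of_pow {x : K} (hx : x ^ Fintype.card F = x) : ∃ t : F, algebraMap F K t = x := by
  classical
  let P : Polynomial K := Polynomial.X ^ Fintype.card F - Polynomial.X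
  have hP : P ≠ 0 := FiniteField.X_pow_card_sub_X_ne_zero K Fintype.one_lt_card
  have hsub : Finset.univ.image (algebraMap F K) ⊆ P.roots.toFinset := by
    intro y hy
    obtain ⟨t, -, rfl⟩ := Finset.mem_image.1 hy
    rw [Multiset.mem_toFinset, Polynomial.mem_roots hP, Polynomial.IsRoot.def]
    simp [P, ← map_pow, FiniteField.pow_card]
  have hcard : P.roots.toFinset.card ≤ (Finset.univ.image (algebraMap F K)).card := by
    rw [Finset.card_image_of_injective _ (algebraMap F K).injective, Finset.card_univ]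
    refine (Multiset.toFinset_card_le _).trans ((Polynomial.card_roots' _).trans ?_)
    exact le_of_eq (FiniteField.X_pow_card_sub_X_natDegree_eq K Fintype.one_lt_card)
  have hx' : x ∈ P.roots.toFinset := by
    rw [Multiset.mem_toFinset, Polynomial.mem_roots hP, Polynomial.IsRoot.def]
    simp [P, hx]
  rw [← Finset.eq_of_subset_of_card_le hsub hcard] at hx'
  obtain ⟨t, -, ht⟩ := Finset.mem_image.1 hx'
  exact ⟨t, ht⟩

/-- The map `α ↦ lam (α * p ^ Q) • p'`. -/
noncomputable def Hm (lam : Dual F K) (Q : ℕ) (p p' : K) : Module.End F K :=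
  (lam ∘ₗ mulL F (p ^ Q)).smulRight p'

lemma Hm_apply (lam : Dual F K) (Q : ℕ) (p p' α : K) :
    Hm lam Q p p' α = lam (p ^ Q * α) • p' := rfl

variable {q Q : ℕ} {H : V → V → K} {lam : Dual F K} {M : Subgroup (V ≃ₗ[F] V)}

namespace UnOvergroup

variable (hM : UnOvergroup q Q H lam M)
include hM

lemma pow_e_add (x y : K) (i : ℕ) :
    (x + y) ^ (q ^ 2) ^ i = x ^ (q ^ 2) ^ i + y ^ (q ^ 2) ^ i := by
  induction i with
  | zero => simp
  | succ i ih =>
    obtain ⟨p, hp⟩ := CharP.exists K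
    haveI : CharP F p := (algebraMap F K).charP (algebraMap F K).injective p
    haveI := Fact.mk (CharP.char_is_prime K p)
    obtain ⟨k, hp', hk⟩ := FiniteField.card F p
    rw [pow_succ, pow_mul, ih, pow_mul, pow_mul, ← hM.cardF, hk, add_pow_char_pow]

lemma map_pow_e (c : F) (i : ℕ) : algebraMap F K c ^ (q ^ 2) ^ i = algebraMap F K c := by
  rw [← map_pow, ← hM.cardF, FiniteField.pow_card_pow]

/-- The power map `α ↦ α ^ ((q ^ 2) ^ i)`. -/
def frobMap (i : ℕ) : Module.End F K where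
  toFun x := x ^ (q ^ 2) ^ i
  map_add' x y := hM.pow_e_add x y i
  map_smul' c x := by
    rw [Algebra.smul_def, mul_pow, hM.map_pow_e, RingHom.id_apply, Algebra.smul_def]

lemma frobMap_apply (i : ℕ) (x : K) : hM.frobMap i x = x ^ (q ^ 2) ^ i := rfl

lemma pow_period (x : K) (a : ℕ) : x ^ q ^ a = x ^ q ^ (a % (2 * finrank F K)) := by
  refine pow_red ?_ x a
  rw [hM.cardK, hM.Qeq, ← pow_mul, mul_comm]

omit hM in
/-- The partner coefficient. -/
noncomputable def partner (_hM : UnOvergroup q Q H lam M) (i : ℕ) (a : K) : K := -(a ^ Q) ^ (q ^ 2) ^ (finrank F K - i)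

/-- The skew maps with coefficients `a` and their partners. -/
noncomputable def pieces {h : ℕ} (a : Fin h → K) : Module.End F K :=
  ∑ i : Fin h, (mulL F (a i) ∘ₗ hM.frobMap ((i : ℕ) + 1) +
    mulL F (hM.partner ((i : ℕ) + 1) (a i)) ∘ₗ hM.frobMap (finrank F K - ((i : ℕ) + 1)))

lemma partner_add (i : ℕ) (a b : K) : hM.partner i (a + b) = hM.partner i a + hM.partner i b := by
  rw [partner, partner, partner, add_pow_q hM.cardK, hM.pow_e_add]
  ring

lemma partner_smul (i : ℕ) {s : F} (hs : s ^ q = s) (a : K) :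
    hM.partner i (s • a) = s • hM.partner i a := by
  rw [partner, partner, hM.smul_pow_Q, hs, Algebra.smul_def, mul_pow, hM.map_pow_e, Algebra.smul_def,
    mul_neg]

lemma pieces_add {h : ℕ} (a b : Fin h → K) : hM.pieces (a + b) = hM.pieces a + hM.pieces b := by
  rw [pieces, pieces, pieces, ← Finset.sum_add_distrib]
  refine Finset.sum_congr rfl fun i _ => LinearMap.ext fun x => ?_
  simp only [Pi.add_apply, hM.partner_add, LinearMap.add_apply, LinearMap.comp_apply,
    LinearMap.mulLeft_apply, add_mul]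
  abel

lemma pieces_smul {h : ℕ} {s : F} (hs : s ^ q = s) (a : Fin h → K) :
    hM.pieces (s • a) = s • hM.pieces a := by
  rw [pieces, pieces, Finset.smul_sum]
  refine Finset.sum_congr rfl fun i _ => LinearMap.ext fun x => ?_
  simp only [Pi.smul_apply, hM.partner_smul _ hs, LinearMap.add_apply, LinearMap.comp_apply,
    LinearMap.smul_apply, LinearMap.mulLeft_apply, smul_mul_assoc, smul_add]

/-- The expansion of a skew combination of rank at most two. -/
lemma Hm_expand {c : F} (hc : c + c ^ q = 0) (v w : K) {h : ℕ} (hh : finrank F K = 2 * h + 1) :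
    c • (Hm lam Q v w + Hm lam Q w v) =
      mulL F (algebraMap F K c * (v ^ Q * w + w ^ Q * v)) + hM.pieces (fun i : Fin h =>
        algebraMap F K c * ((v ^ Q) ^ (q ^ 2) ^ ((i : ℕ) + 1) * w +
          (w ^ Q) ^ (q ^ 2) ^ ((i : ℕ) + 1) * v)) := by
  set f : ℕ → K := fun i =>
    algebraMap F K c * ((v ^ Q) ^ (q ^ 2) ^ i * w + (w ^ Q) ^ (q ^ 2) ^ i * v) with hf
  have hcQ : algebraMap F K c ^ Q = -algebraMap F K c := by
    rw [hM.map_pow_Q, eq_neg_of_add_eq_zero_right hc, map_neg]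
  have hback : ∀ (x : K) (i : ℕ), i ≤ finrank F K →
      (((x ^ Q) ^ (q ^ 2) ^ i) ^ Q) ^ (q ^ 2) ^ (finrank F K - i) = x := by
    intro x i hi
    rw [← pow_mul, ← pow_mul, ← pow_mul, hM.Qeq, ← pow_mul, ← pow_mul, ← pow_add, ← pow_add,
      ← pow_add, hM.pow_period,
      show finrank F K + (2 * i + (finrank F K + 2 * (finrank F K - i))) = 2 * finrank F K * 2 by
        omega,
      Nat.mul_mod_right, pow_zero, pow_one]
  have hpart : ∀ i, i ≤ finrank F K → f (finrank F K - i) = hM.partner i (f i) := by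
    intro i hi
    have hneg : ∀ y : K, (-y) ^ (q ^ 2) ^ (finrank F K - i) = -(y ^ (q ^ 2) ^ (finrank F K - i)) :=
      fun y => (hM.frobMap (finrank F K - i)).map_neg y
    simp only [partner, hf]
    rw [mul_pow, hcQ, add_pow_q hM.cardK, neg_mul, hneg, mul_pow, hM.map_pow_e, hM.pow_e_add,
      mul_pow, mul_pow, mul_pow, mul_pow, hback v i hi, hback w i hi]
    ring
  have hsplit : c • (Hm lam Q v w + Hm lam Q w v) =
      ∑ i ∈ Finset.range (finrank F K), mulL F (f i) ∘ₗ hM.frobMap i := by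
    refine LinearMap.ext fun x => ?_
    simp only [LinearMap.smul_apply, LinearMap.add_apply, Hm_apply, LinearMap.sum_apply,
      LinearMap.comp_apply, LinearMap.mulLeft_apply, hM.frobMap_apply, hf]
    rw [Algebra.smul_def, Algebra.smul_def, Algebra.smul_def, hM.tr, hM.tr, Finset.sum_mul,
      Finset.sum_mul, ← Finset.sum_add_distrib, Finset.mul_sum]
    refine Finset.sum_congr rfl fun i _ => ?_
    rw [mul_pow, mul_pow]
    ring
  rw [hsplit, hh, sum_pairs, pieces]
  congr 1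
  · refine LinearMap.ext fun x => ?_
    simp [hf, hM.frobMap_apply]
  · refine Finset.sum_congr rfl fun i _ => ?_
    rw [← hh, hpart _ (by omega)]

lemma pieces_conj {h : ℕ} (hh : finrank F K = 2 * h + 1) (a : Fin h → K) (e : K) :
    mulL F e ∘ₗ hM.pieces a ∘ₗ mulL F (e ^ Q) =
      hM.pieces (fun i => a i * e ^ (1 + q ^ (finrank F K + 2 * ((i : ℕ) + 1)))) := by
  refine LinearMap.ext fun x => ?_
  simp only [pieces, LinearMap.comp_apply, LinearMap.sum_apply, LinearMap.add_apply,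
    LinearMap.mulLeft_apply, hM.frobMap_apply, Finset.mul_sum]
  refine Finset.sum_congr rfl fun i _ => ?_
  have hi : (i : ℕ) + 1 ≤ finrank F K := by have := i.2; omega
  have e1 : (e ^ Q) ^ (q ^ 2) ^ ((i : ℕ) + 1) = e ^ q ^ (finrank F K + 2 * ((i : ℕ) + 1)) := by
    rw [← pow_mul e, hM.Qeq, ← pow_mul q, ← pow_add]
  have e2 : ((e ^ q ^ (finrank F K + 2 * ((i : ℕ) + 1))) ^ Q) ^
      (q ^ 2) ^ (finrank F K - ((i : ℕ) + 1)) = e := by
    rw [hM.Qeq, ← pow_mul q, ← pow_mul, ← pow_mul, ← pow_add, ← pow_add, hM.pow_period,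
      show finrank F K + 2 * ((i : ℕ) + 1) + (finrank F K + 2 * (finrank F K - ((i : ℕ) + 1))) =
        2 * finrank F K * 2 by omega, Nat.mul_mod_right, pow_zero, pow_one]
  generalize q ^ (finrank F K + 2 * ((i : ℕ) + 1)) = N at e1 e2 ⊢
  simp only [partner]
  rw [mul_pow (e ^ Q) x, mul_pow (e ^ Q) x, e1, pow_add e, pow_one, mul_pow (a i), mul_pow e,
    mul_pow (a i ^ Q), mul_pow (e ^ Q), e2]
  ring

/-- Scalars up to `F`, with exponent one or `q + 1`. -/
lemma exists_monoid_scalar {a : V} (ha : a ≠ 0) (hs : H a a = 0) :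
    ∃ ε : ℕ, (ε = 1 ∨ (ε = q + 1 ∧ 3 ≤ q)) ∧ ∀ x : K, x ≠ 0 →
      ∃ c : F, c ≠ 0 ∧ ∃ g ∈ M, MapsBy g a (mulL F (c • x ^ ε)) := by
  haveI : Module.Finite F K := Module.Finite.of_finite
  have hne : ∀ {c : F} {x : K} {ε : ℕ}, c ≠ 0 → x ≠ 0 → c • x ^ ε ≠ 0 := fun hc hx =>
    smul_ne_zero hc (pow_ne_zero _ hx)
  by_cases hdim : 3 ≤ finrank K V
  · refine ⟨1, Or.inl rfl, fun x hx => ⟨1, one_ne_zero, hM.exists_scalar ha hs
      (hne one_ne_zero hx) (Or.inr hdim)⟩⟩
  by_cases hq : 3 ≤ q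
  · refine ⟨q + 1, Or.inr ⟨rfl, hq⟩, fun x hx => ⟨1, one_ne_zero, hM.exists_scalar ha hs
      (hne one_ne_zero hx) (Or.inl ?_)⟩⟩
    rw [one_smul, map_pow, pow_q_succ_fixed hM.cardF]
  · have hr3 : finrank F K ≠ 3 := by
      rcases hM.small with h | h | h
      · exact absurd h hq
      · exact absurd h hdim
      · exact h
    refine ⟨1, Or.inl rfl, fun x hx => ?_⟩
    set t := Algebra.norm F x with ht
    have ht0 : t ≠ 0 := by rw [ht, Ne, Algebra.norm_eq_zero_iff]; exact hx
    refine ⟨(t ^ finrank F K)⁻¹, inv_ne_zero (pow_ne_zero _ ht0),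
      hM.exists_scalar ha hs (hne (inv_ne_zero (pow_ne_zero _ ht0)) hx) (Or.inl ?_)⟩
    have hq2 : q = 2 := le_antisymm (by omega) (two_le_q hM.cardF)
    have ht3 : t ^ 3 = 1 := by
      have := FiniteField.pow_card_sub_one_eq_one t ht0
      rwa [hM.cardF, hq2] at this
    obtain ⟨k, hk⟩ : ∃ k, finrank F K * finrank F K = 3 * k + 1 := by
      refine ⟨finrank F K * finrank F K / 3, ?_⟩
      have h3 : ¬ 3 ∣ finrank F K := fun hd =>
        hr3 ((Nat.prime_dvd_prime_iff_eq Nat.prime_three hM.deg).1 hd).symm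
      have : finrank F K * finrank F K % 3 = 1 := by
        rw [Nat.mul_mod]
        have : finrank F K % 3 = 1 ∨ finrank F K % 3 = 2 := by omega
        rcases this with h | h <;> rw [h]
      omega
    rw [pow_one, Algebra.smul_def, map_mul, Algebra.norm_algebraMap, inv_pow, ← pow_mul, hk,
      pow_succ, pow_mul, ht3, one_pow, one_mul, ← ht, inv_mul_cancel₀ ht0, one_pow]

/-- A pair of transvections of the line with one axis gives all the rank one skew maps. -/
theorem centres_of_pair {a : V} (ha : a ≠ 0) (hs : H a a = 0) {δ v₁ v₂ : K} (hδ : δ ≠ 0)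
    (hv₁ : v₁ ≠ 0) (hv₂ : v₂ ≠ 0) (hind : ∀ t : F, v₂ ≠ t • v₁) (h₁ : lam (δ * v₁) = 0)
    (h₂ : lam (δ * v₂) = 0) (t₁ : Trs lam M a δ v₁) (t₂ : Trs lam M a δ v₂)
    (l : K) {c : F} (hc : c + c ^ q = 0) :
    ∃ g ∈ M, ∀ x, g x = x + (c * lam (H x a * l ^ Q)) • l • a := by
  classical
  have hK := hM.cardK
  obtain ⟨h, hh'⟩ := hM.odd
  have hh : finrank F K = 2 * h + 1 := hh'
  -- transvections of the line give rank two maps
  obtain ⟨k₀, hk₀, hk₀l⟩ := hM.exists_skew_lam
  set n₀ := δ * δ ^ Q with hn₀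
  have hn₀0 : n₀ ≠ 0 := mul_ne_zero hδ (pow_ne_zero _ hδ)
  set k := k₀ / n₀ with hkdef
  have hk : k + k ^ Q = 0 := by
    have hfix : n₀ ^ Q = n₀ := by rw [hn₀, mul_pow, pow_q_pow_q hK, mul_comm]
    rw [hkdef, div_pow, hfix, ← add_div, hk₀, zero_div]
  set c₀ := lam (δ * (k * δ ^ Q)) with hc₀def
  have hkn : δ * (k * δ ^ Q) = k₀ := by rw [hkdef, hn₀]; field_simp
  have hc₀ : c₀ ≠ 0 := by rw [hc₀def, hkn]; exact hk₀l
  have hc₀s : c₀ + c₀ ^ q = 0 := by
    rw [hc₀def, hkn, ← hM.lam_pow, ← map_add, hk₀, map_zero]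
  have hD : ∀ v, Trs lam M a δ v → ∀ hv : lam (δ * v) = 0,
      (lam ∘ₗ mulL F (δ * k)).smulRight v + (lam ∘ₗ mulL F (v ^ Q)).smulRight (k * δ ^ Q) +
        c₀ • Hm lam Q v v ∈ hM.Tun hs := by
    intro v hv _
    obtain ⟨g, hg, hgA⟩ := hv
    set R : Module.End F K := 1 + (lam ∘ₗ mulL F (v ^ Q)).smulRight (δ ^ Q) with hR
    have hadj : ∀ k α, lam ((1 + (lam ∘ₗ mulL F δ).smulRight v : Module.End F K) k * α ^ Q) =
        lam (k * R α ^ Q) := fun k α => by
      simp only [hR, LinearMap.add_apply, Module.End.one_apply, LinearMap.smulRight_apply,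
        LinearMap.comp_apply, LinearMap.mulLeft_apply, add_mul, smul_mul_assoc, map_add, map_smul,
        smul_eq_mul, add_pow_q hK, hM.smul_pow_Q, mul_add, mul_smul_comm, ← hM.lam_pow, mul_pow,
        pow_q_pow_q hK]
      rw [mul_comm k δ]
      ring
    have h := (hM.Tun hs).sub_mem (hM.mem_conj hs hg hgA hadj (hM.mem_mulL hs hk))
      (hM.mem_mulL hs hk)
    convert h using 1
    refine LinearMap.ext fun α => ?_
    simp only [hR, hc₀def, LinearMap.sub_apply, LinearMap.add_apply, LinearMap.comp_apply,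
      Module.End.one_apply, LinearMap.smulRight_apply, LinearMap.mulLeft_apply,
      LinearMap.smul_apply, Hm_apply, mul_add, mul_smul_comm, map_add, map_smul, smul_eq_mul,
      mul_assoc δ k]
    module
  have t₁₂ : Trs lam M a δ (v₁ + v₂) := by
    obtain ⟨g₁, hg₁, e₁⟩ := t₁
    obtain ⟨g₂, hg₂, e₂⟩ := t₂
    refine ⟨g₁ * g₂, mul_mem hg₁ hg₂, fun l => ?_⟩
    show g₁ (g₂ (l • a)) = _
    rw [e₂, e₁]
    simp only [LinearMap.add_apply, Module.End.one_apply, LinearMap.smulRight_apply,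
      LinearMap.comp_apply, LinearMap.mulLeft_apply, mul_add, mul_smul_comm, map_add, map_smul,
      h₂, smul_zero, add_zero, smul_add]
    congr 1
    module
  have hP : c₀ • (Hm lam Q v₁ v₂ + Hm lam Q v₂ v₁) ∈ hM.Tun hs := by
    have h := (hM.Tun hs).sub_mem ((hM.Tun hs).sub_mem
      (hD _ t₁₂ (by rw [mul_add, map_add, h₁, h₂, add_zero])) (hD _ t₁ h₁)) (hD _ t₂ h₂)
    convert h using 1
    refine LinearMap.ext fun α => ?_
    simp only [LinearMap.sub_apply, LinearMap.add_apply, LinearMap.comp_apply,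
      LinearMap.smulRight_apply, LinearMap.mulLeft_apply, LinearMap.smul_apply, Hm_apply,
      add_pow_q hK, add_mul, map_add]
    module
  -- all pieces
  set a₀ : Fin h → K := fun i => algebraMap F K c₀ * ((v₁ ^ Q) ^ (q ^ 2) ^ ((i : ℕ) + 1) * v₂ +
    (v₂ ^ Q) ^ (q ^ 2) ^ ((i : ℕ) + 1) * v₁) with ha₀def
  have hskew : ∀ {c : F}, c + c ^ q = 0 → ∀ v w : K,
      algebraMap F K c * (v ^ Q * w + w ^ Q * v) +
        (algebraMap F K c * (v ^ Q * w + w ^ Q * v)) ^ Q = 0 := fun {c} hc v w => by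
    rw [mul_pow, add_pow_q hK, mul_pow, mul_pow, pow_q_pow_q hK, pow_q_pow_q hK, hM.map_pow_Q,
      eq_neg_of_add_eq_zero_right hc, map_neg]
    ring
  have ha₀P : hM.pieces a₀ ∈ hM.Tun hs := by
    have h := (hM.Tun hs).sub_mem hP (hM.mem_mulL hs (hskew hc₀s v₁ v₂))
    rwa [hM.Hm_expand hc₀s v₁ v₂ hh, add_sub_cancel_left] at h
  have hne : ∀ i, a₀ i ≠ 0 := by
    intro i h0
    simp only [ha₀def, mul_eq_zero, map_eq_zero, hc₀, false_or] at h0
    set E := (q ^ 2) ^ ((i : ℕ) + 1) with hE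
    set ρ := v₂ / v₁ with hρ
    have hρE : (ρ ^ Q) ^ E = -ρ := by
      rw [hρ, div_pow, div_pow, neg_div', div_eq_div_iff
        (pow_ne_zero _ (pow_ne_zero _ hv₁)) hv₁]
      linear_combination h0
    have hρ2 : ρ ^ (q ^ 2) ^ (2 * ((i : ℕ) + 1)) = ρ := by
      have h1 : (((ρ ^ Q) ^ E) ^ Q) ^ E = ρ := by
        rw [hρE, neg_pow_q hK]
        have : ∀ y : K, (-y) ^ E = -(y ^ E) := fun y => (hM.frobMap ((i : ℕ) + 1)).map_neg y
        rw [this, hρE, neg_neg]
      conv_rhs => rw [← h1]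
      rw [hE, hM.Qeq]
      simp only [← pow_mul, ← pow_add]
      rw [hM.pow_period]
      conv_rhs => rw [hM.pow_period]
      congr 2
      rw [show finrank F K + 2 * ((i : ℕ) + 1) + finrank F K + 2 * ((i : ℕ) + 1) =
        2 * (2 * ((i : ℕ) + 1)) + 2 * finrank F K by ring, Nat.add_mod_right]
    have hper : ∀ n, (fun y : K => y ^ q ^ 2)^[n] ρ = ρ ^ (q ^ 2) ^ n := fun n => by
      induction n with
      | zero => simp
      | succ n ih => rw [Function.iterate_succ_apply', ih, ← pow_mul, ← pow_succ]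
    have p1 : Function.IsPeriodicPt (fun y : K => y ^ q ^ 2) (2 * ((i : ℕ) + 1)) ρ :=
      (hper _).trans hρ2
    have p2 : Function.IsPeriodicPt (fun y : K => y ^ q ^ 2) (finrank F K) ρ := by
      refine (hper _).trans ?_
      rw [← pow_mul q, hM.pow_period, Nat.mod_self, pow_zero, pow_one]
    have hg : Nat.gcd (2 * ((i : ℕ) + 1)) (finrank F K) = 1 := by
      refine Nat.Coprime.symm ((Nat.Prime.coprime_iff_not_dvd hM.deg).2 fun hd => ?_)
      have hi := i.2
      rcases (Nat.Prime.dvd_mul hM.deg).1 hd with h2 | h2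
      · have := Nat.le_of_dvd (by omega) h2
        omega
      · have := Nat.le_of_dvd (by omega) h2
        omega
    have h1 := p1.gcd p2
    rw [hg] at h1
    have h1' : ρ ^ q ^ 2 = ρ := h1
    rw [← hM.cardF] at h1'
    obtain ⟨t, ht⟩ := mem_base_of_pow h1'
    exact hind t (by rw [Algebra.smul_def, ht, hρ, div_mul_cancel₀ _ hv₁])
  obtain ⟨ε, hε, hscal⟩ := hM.exists_monoid_scalar ha hs
  let T : AddSubgroup (Fin h → K) :=
    (hM.Tun hs).comap (AddMonoidHom.mk' (fun b => hM.pieces b) hM.pieces_add)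
  have hall : ∀ b, b ∈ T := by
    refine span_characters hM.cardF rfl hM.deg hh hε T (fun s hs' b hb => ?_) hne fun x hx => ?_
    · show hM.pieces (s • b) ∈ hM.Tun hs
      rw [hM.pieces_smul hs']
      exact hM.mem_fixed_smul ha hs hs' hb
    · obtain ⟨d, hd, g, hg, hge⟩ := hscal x hx
      show hM.pieces _ ∈ hM.Tun hs
      have h := hM.scalar_conj hs hg hge ha₀P
      have hfix : ((d ^ (q + 1))⁻¹ : F) ^ q = (d ^ (q + 1))⁻¹ := by
        rw [inv_pow, pow_q_succ_fixed hM.cardF]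
      have h' := hM.mem_fixed_smul ha hs hfix h
      convert h' using 1
      rw [← hM.pieces_conj hh a₀ (x ^ ε)]
      refine LinearMap.ext fun y => ?_
      simp only [LinearMap.smul_apply, LinearMap.comp_apply, LinearMap.mulLeft_apply,
        hM.smul_pow_Q, smul_mul_assoc, map_smul, mul_smul_comm, smul_smul]
      rw [pow_succ d q]
      field_simp
      rw [one_smul]
  -- the rank one element
  obtain ⟨c', hc', hc'2⟩ : ∃ c' : F, c' + c' ^ q = 0 ∧
      c • Hm lam Q l l ∈ hM.Tun hs := by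
    refine ⟨c, hc, ?_⟩
    obtain ⟨u, hu⟩ := exists_trace_eq hM.cardF (one_pow q)
    have h3 : c • (Hm lam Q (u • l) l + Hm lam Q l (u • l)) ∈ hM.Tun hs := by
      rw [hM.Hm_expand hc (u • l) l hh]
      exact (hM.Tun hs).add_mem (hM.mem_mulL hs (hskew hc (u • l) l)) (hall _)
    convert h3 using 1
    refine LinearMap.ext fun y => ?_
    simp only [LinearMap.smul_apply, LinearMap.add_apply, Hm_apply, hM.smul_pow_Q,
      smul_mul_assoc, map_smul, smul_eq_mul]
    match_scalars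
    linear_combination -(c * lam (l ^ Q * y)) * hu
  obtain ⟨g, hg, hgx⟩ := hc'2
  refine ⟨g, hg, fun x => ?_⟩
  rw [hgx, LinearMap.smul_apply, Hm_apply, smul_smul c, smul_assoc, mul_comm (l ^ Q)]

end UnOvergroup

end Cfsg.Agent.FieldExtMax
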