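/-
An overgroup whose isotropic lines have trivially meeting images normalises the field.

Main results: `UnOvergroup.isotropic_img`, `UnOvergroup.norms_of_good`.
-/
import Cfsg.Agent.Lib.FieldExtMax.UnBase

set_option autoImplicit false
set_option linter.unusedSectionVars false

namespace Cfsg.Agent.FieldExtMax

open Module
open Cfsg.Agent.Unitary

/-- `q ^ r + 1` exceeds `(q + 1) r`. -/
lemma small_lt {q r : ℕ} (hq : 2 ≤ q) (hr : 3 ≤ r) (h : 3 ≤ q ∨ 5 ≤ r) :
    (q + 1) * r < q ^ r + 1 := by
  by_cases hq3 : 3 ≤ q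
  · obtain ⟨k, rfl⟩ : ∃ k, r = k + 3 := ⟨r - 3, by omega⟩
    induction k with
    | zero =>
      have : 3 * 3 * q ≤ q * q * q := Nat.mul_le_mul_right _ (Nat.mul_le_mul hq3 hq3)
      simp only [zero_add, pow_succ, pow_zero, one_mul]
      omega
    | succ k ih =>
      have h1 := ih (by omega) (Or.inl hq3)
      have h3 : q ^ 2 ≤ q ^ (k + 3) := Nat.pow_le_pow_right (by omega) (by omega)
      have h5 : 3 * q ≤ q ^ 2 := by rw [sq]; exact Nat.mul_le_mul_right _ hq3
      have h4 : 2 * q ^ (k + 3) ≤ q ^ (k + 3) * q := by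
        rw [mul_comm _ q]; exact Nat.mul_le_mul_right _ hq
      rw [show k + 1 + 3 = k + 3 + 1 by ring, pow_succ, Nat.mul_succ]
      omega
  · obtain rfl : q = 2 := by omega
    obtain ⟨k, rfl⟩ : ∃ k, r = k + 5 := ⟨r - 5, by omega⟩
    have hk : k + 1 ≤ 2 ^ k := Nat.lt_two_pow_self
    rw [pow_add]
    omega

variable {F K V : Type*} [Field F] [Fintype F] [Field K] [Fintype K] [Algebra F K]
  [AddCommGroup V] [Module F V] [Module K V] [IsScalarTower F K V] [Finite V]

variable {q Q : ℕ} {H : V → V → K} {lam : Dual F K} {M : Subgroup (V ≃ₗ[F] V)}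

namespace UnOvergroup

variable (hM : UnOvergroup q Q H lam M)
include hM

/-- Some isotropic vector. -/
lemma exists_isotropic : ∃ a : V, a ≠ 0 ∧ H a a = 0 := by
  haveI : Module.Finite K V := Module.Finite.of_finite
  have hK := hM.cardK
  obtain ⟨c, hc⟩ := exists_orthonormalBasis hK hM.herm hM.nd
  have hdim := hM.dim
  set i : Fin (finrank K V) := ⟨0, by omega⟩
  set j : Fin (finrank K V) := ⟨1, by omega⟩
  have hij : i ≠ j := fun h => by simpa [i, j] using congrArg Fin.val h
  obtain ⟨s, hs⟩ := exists_norm_eq hK (c := (-1 : K)) (by rw [neg_pow_q hK, one_pow])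
  refine ⟨c i + s • c j, fun h => ?_, ?_⟩
  · have h1 := congrArg (fun y => H y (c i)) h
    simp only [hM.herm.add_left, hM.herm.smul_left, hc.1 i, hc.2 hij.symm, hM.herm.zero_left] at h1
    simp at h1
  · simp only [hM.herm.add_left, hM.herm.smul_left, hM.herm.add_right hK, hM.H_smul_right, hc.1,
      hc.2 hij, hc.2 hij.symm]
    linear_combination hs

/-- An anisotropic vector orthogonal to two orthogonal anisotropic ones. -/
lemma exists_aniso_perp (hdim : 3 ≤ finrank K V) {x y : V} (hx : H x x ≠ 0) (hy : H y y ≠ 0)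
    (hxy : H x y = 0) : ∃ z, H z x = 0 ∧ H z y = 0 ∧ H z z ≠ 0 := by
  classical
  haveI : Module.Finite K V := Module.Finite.of_finite
  have hK := hM.cardK
  have hyx : H y x = 0 := (hM.herm.eq_zero_symm hK).1 hxy
  by_contra hcon
  push Not at hcon
  let W : Submodule K V :=
    { carrier := {z | H z x = 0 ∧ H z y = 0}
      add_mem' := fun {u v} hu hv => ⟨by rw [hM.herm.add_left, hu.1, hv.1, add_zero],
        by rw [hM.herm.add_left, hu.2, hv.2, add_zero]⟩
      zero_mem' := ⟨hM.herm.zero_left _, hM.herm.zero_left _⟩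
      smul_mem' := fun c u hu => ⟨by rw [hM.herm.smul_left, hu.1, mul_zero],
        by rw [hM.herm.smul_left, hu.2, mul_zero]⟩ }
  have hiW : ∀ z : W, H (z : V) (z : V) = 0 := fun z => hcon z z.2.1 z.2.2
  have hsplit : ∀ u, u - (H u x / H x x) • x - (H u y / H y y) • y ∈ W := fun u => ⟨by
      rw [hM.herm.sub_left, hM.herm.sub_left, hM.herm.smul_left, hM.herm.smul_left, hyx,
        div_mul_cancel₀ _ hx]
      ring, by
      rw [hM.herm.sub_left, hM.herm.sub_left, hM.herm.smul_left, hM.herm.smul_left, hxy,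
        div_mul_cancel₀ _ hy]
      ring⟩
  have hW : ∀ z : W, (z : V) = 0 := fun z => hM.nd _ fun u => by
    have h1 := (hM.herm.comap W.subtype).eq_zero_of_isotropic hK hiW z ⟨_, hsplit u⟩
    simp only [Submodule.coe_subtype, hM.herm.sub_right hK, hM.H_smul_right, z.2.1, z.2.2,
      mul_zero, sub_zero] at h1
    exact h1
  have hspan : (⊤ : Submodule K V) ≤ Submodule.span K {x, y} := fun u _ => by
    have h1 := hW ⟨_, hsplit u⟩
    refine Submodule.mem_span_pair.2 ⟨H u x / H x x, H u y / H y y, ?_⟩
    change u - (H u x / H x x) • x - (H u y / H y y) • y = 0 at h1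
    rw [sub_sub, sub_eq_zero] at h1
    exact h1.symm
  have h1 := Submodule.finrank_mono hspan
  rw [finrank_top] at h1
  have h2 := finrank_span_finset_le_card (R := K) ({x, y} : Finset V)
  rw [Finset.coe_insert, Finset.coe_singleton] at h2
  have h3 : ({x, y} : Finset V).card ≤ 2 := Finset.card_le_two
  unfold Set.finrank at h2
  omega

/-- An anisotropic line is not totally singular for the form over `F`. -/
lemma line_not_iso {y : V} (hy : H y y ≠ 0) : ∃ k : K, lam (H (k • y) (k • y)) ≠ 0 := by
  by_contra h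
  push Not at h
  obtain ⟨d, hd0, hd⟩ := exists_skew hM.cardF
  obtain ⟨k₀, hk₀, hk₀l⟩ := hM.exists_skew_lam
  refine hk₀l ?_
  set σ := H y y with hσ
  -- a scalar multiple of `k₀` is fixed
  have hfix : (d • k₀ / σ) ^ Q = d • k₀ / σ := by
    rw [div_pow, hM.smul_pow_Q, hd, eq_neg_of_add_eq_zero_right hk₀, smul_neg, neg_smul, neg_neg,
      hσ, hM.herm.self_fixed]
  obtain ⟨k, hk⟩ := exists_norm_eq hM.cardK hfix
  have h1 := h k
  rw [hM.herm.smul_left, hM.H_smul_right, ← mul_assoc, ← pow_succ', hk, ← hσ, div_mul_cancel₀ _ hy,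
    map_smul, smul_eq_mul, mul_eq_zero] at h1
  exact h1.resolve_left hd0

/-- With disjoint images isotropic lines go to isotropic lines. -/
theorem isotropic_img
    (hgood : ∀ a : V, a ≠ 0 → H a a = 0 → ∀ g ∈ M, img K a g ≠ line F K a →
      img K a g ⊓ line F K a = ⊥)
    {a : V} (ha : a ≠ 0) (hs : H a a = 0) {g : V ≃ₗ[F] V} (hg : g ∈ M) :
    ∃ c, c ≠ 0 ∧ H c c = 0 ∧ img K a g = line F K c := by
  classical
  haveI : Module.Finite F V := Module.Finite.of_finite
  haveI : Module.Finite F K := Module.Finite.of_finite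
  haveI : Module.Finite K V := Module.Finite.of_finite
  have hK := hM.cardK
  have hsame : ∀ {g h : V ≃ₗ[F] V}, g ∈ M → h ∈ M → ∀ {x : V}, x ≠ 0 → x ∈ img K a g →
      x ∈ img K a h → img K a g = img K a h := by
    intro g h hg hh x hx0 hxg hxh
    by_contra hne
    have h1 : img K a (h⁻¹ * g) ≠ line F K a := fun he => hne (by
      have := congrArg (Submodule.map (h : V →ₗ[F] V)) he
      rw [← img_mul, mul_inv_cancel_left] at this
      exact this)
    have h2 := finrank_img_inf (F := F) (K := K) a g h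
    rw [hgood a ha hs _ (mul_mem (inv_mem hh) hg) h1, finrank_bot] at h2
    have h3 : x ∈ img K a g ⊓ img K a h := ⟨hxg, hxh⟩
    rw [Submodule.finrank_eq_zero.1 h2] at h3
    exact hx0 h3
  by_cases hsing : ∃ x ∈ img K a g, x ≠ 0 ∧ H x x = 0
  · obtain ⟨x, hx, hx0, hxs⟩ := hsing
    obtain ⟨h, hh, hhl, -, l, hl, hha⟩ := hM.exists_line_move ha hs hx0 hxs
    refine ⟨x, hx0, hxs, ?_⟩
    have hline : img K a h = line F K x := by
      ext y
      constructor
      · rintro ⟨z, hz, rfl⟩
        obtain ⟨k, rfl⟩ := mem_line.1 hz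
        exact mem_line.2 ⟨k * l, by show (k * l) • x = h (k • a); rw [hhl, hha, smul_smul]⟩
      · intro hy
        obtain ⟨k, rfl⟩ := mem_line.1 hy
        exact ⟨(k / l) • a, mem_line.2 ⟨_, rfl⟩, by
          show h ((k / l) • a) = k • x; rw [hhl, hha, smul_smul, div_mul_cancel₀ _ hl]⟩
    rw [← hline]
    exact hsame hg hh hx0 hx (by rw [hline]; exact mem_line.2 ⟨1, one_smul _ _⟩)
  exfalso
  push Not at hsing
  set L' := img K a g with hL'
  set x := g a with hxdef
  have hx : x ∈ L' := ⟨a, mem_line.2 ⟨1, one_smul _ _⟩, rfl⟩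
  have hx0 : x ≠ 0 := fun h => ha ((LinearEquiv.map_eq_zero_iff _).1 h)
  have hxx : H x x ≠ 0 := hsing x hx hx0
  have hfix : ∀ u ∈ M, u x = x → ∀ y ∈ L', u y ∈ L' := by
    intro u hu hux y hy
    have h1 : img K a (u * g) = L' := hsame (mul_mem hu hg) hg hx0
      (by rw [img_mul]; exact ⟨x, hx, hux⟩) hx
    rw [img_mul] at h1
    rw [← h1]
    exact ⟨y, hy, rfl⟩
  have hspan : ∀ z ∈ L', z ∈ line F K x := by
    intro z hz
    by_contra hzx
    set y := z - (H z x / H x x) • x with hy
    have hyx : H y x = 0 := by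
      rw [hy, hM.herm.sub_left, hM.herm.smul_left, div_mul_cancel₀ _ hxx, sub_self]
    have hxy : H x y = 0 := (hM.herm.eq_zero_symm hK).1 hyx
    have hy0 : y ≠ 0 := fun h => hzx (mem_line.2 ⟨_, (sub_eq_zero.1 h).symm⟩)
    -- it suffices to find an isotropic vector orthogonal to `x` but not to `y`
    have hcentre : ∀ a₀, H a₀ a₀ = 0 → H x a₀ = 0 → H y a₀ ≠ 0 → False := by
      intro a₀ hs₀ hxa hya
      obtain ⟨k, hk, hkl⟩ := hM.exists_skew_lam
      have hk0 : k ≠ 0 := fun h => hkl (by rw [h, map_zero])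
      obtain ⟨u, hu, hux⟩ := hM.ktrans_mem hk hs₀
      have h1 := L'.sub_mem (hfix u hu (by rw [hux, hxa, mul_zero, zero_smul, add_zero]) z hz) hz
      have hza : H z a₀ = H y a₀ := by
        rw [hy, hM.herm.sub_left, hM.herm.smul_left, hxa, mul_zero, sub_zero]
      rw [hux, add_sub_cancel_left, hza] at h1
      refine hsing _ h1 (smul_ne_zero (mul_ne_zero hk0 hya) fun h => hya (by
        rw [h, hM.herm.zero_right hK])) ?_
      rw [hM.herm.smul_left, hM.H_smul_right, hs₀, mul_zero, mul_zero]
    by_cases hyy : H y y = 0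
    · obtain ⟨w, hxw, hyw⟩ := hM.exists_perp (a := x) (x := y) fun h => by
        obtain ⟨l, hl⟩ := Submodule.mem_span_singleton.1 h
        rw [← hl, hM.herm.smul_left, mul_eq_zero] at hyx
        exact hy0 (by rw [← hl, hyx.resolve_right hxx, zero_smul])
      obtain ⟨t, ht⟩ := exists_trace_eq hK (hM.herm.self_fixed w)
      refine hcentre (w - t • y) ?_ ?_ ?_
      · rw [hM.herm.sub_left, hM.herm.sub_right hK, hM.herm.sub_right hK, hM.herm.smul_left,
          hM.herm.smul_left, hM.H_smul_right, hM.H_smul_right, hyy, hM.herm.conj_symm y w, hyw,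
          one_pow]
        linear_combination -ht
      · rw [hM.herm.sub_right hK, hM.H_smul_right, hxw, hxy, mul_zero, sub_zero]
      · rw [hM.herm.sub_right hK, hM.H_smul_right, hyw, hyy, mul_zero, sub_zero]
        exact one_ne_zero
    by_cases hdim : 3 ≤ finrank K V
    · obtain ⟨w, hwx, hwy, hww⟩ := hM.exists_aniso_perp hdim hxx hyy hxy
      have hyw : H y w = 0 := (hM.herm.eq_zero_symm hK).1 hwy
      have hxw : H x w = 0 := (hM.herm.eq_zero_symm hK).1 hwx
      obtain ⟨s, hs'⟩ := exists_norm_eq hK (c := -H y y / H w w) (by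
        rw [div_pow, neg_pow_q hK, hM.herm.self_fixed, hM.herm.self_fixed])
      refine hcentre (y + s • w) ?_ ?_ ?_
      · rw [hM.herm.add_left, hM.herm.add_right hK, hM.herm.add_right hK, hM.herm.smul_left,
          hM.herm.smul_left, hM.H_smul_right, hM.H_smul_right, hyw, hwy, mul_zero, mul_zero,
          add_zero, zero_add, ← mul_assoc, ← pow_succ', hs', div_mul_cancel₀ _ hww, add_neg_cancel]
      · rw [hM.herm.add_right hK, hM.H_smul_right, hxy, hxw, mul_zero, add_zero]
      · rw [hM.herm.add_right hK, hM.H_smul_right, hyw, mul_zero, add_zero]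
        exact hyy
    -- dimension two: a norm one scalar outside `F`
    have hq2 := two_le_q hM.cardF
    have hr3 : 3 ≤ finrank F K := by
      obtain ⟨m, hm⟩ := hM.odd
      have := hM.deg.two_le
      omega
    have hQ : (q + 1) * finrank F K < Q + 1 := by
      rw [hM.Qeq]
      refine small_lt hq2 hr3 ?_
      rcases hM.small with h | h | h
      · exact Or.inl h
      · exact absurd h hdim
      · right
        obtain ⟨m, hm⟩ := hM.odd
        omega
    have hQ2 : 2 ≤ Q := two_le_q hK
    obtain ⟨e, he1, heN, heF⟩ : ∃ e : K, e * e ^ Q = 1 ∧ Algebra.norm F e = 1 ∧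
        ∀ t : F, algebraMap F K t ≠ e := by
      obtain ⟨ζ, hζ⟩ := IsCyclic.exists_generator (α := Kˣ)
      set z : K := (ζ : K)
      have hz : z ≠ 0 := ζ.ne_zero
      set e := (z ^ (q + 1)) ^ (Q - 1) with he
      have hN : Algebra.norm F e = 1 := by
        have hfixed : ∀ k, (Algebra.norm F (z ^ (q + 1))) ^ q ^ k = Algebra.norm F (z ^ (q + 1)) :=
          fun k => by
            have ht : (Algebra.norm F (z ^ (q + 1))) ^ q = Algebra.norm F (z ^ (q + 1)) := by
              rw [map_pow, pow_q_succ_fixed hM.cardF]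
            generalize Algebra.norm F (z ^ (q + 1)) = t at ht ⊢
            induction k with
            | zero => simp
            | succ k ih => rw [pow_succ q k, pow_mul, ih, ht]
        have hN0 : Algebra.norm F (z ^ (q + 1)) ≠ 0 := by
          rw [Ne, Algebra.norm_eq_zero_iff]; exact pow_ne_zero _ hz
        rw [he, map_pow (Algebra.norm F)]
        refine mul_right_cancel₀ hN0 ?_
        rw [← pow_succ, one_mul, show Q - 1 + 1 = q ^ finrank F K by rw [← hM.Qeq]; omega]
        exact hfixed _
      refine ⟨e, ?_, hN, ?_⟩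
      · rw [← pow_succ', he, ← pow_mul, ← pow_mul]
        have hexp : (q + 1) * ((Q - 1) * (Q + 1)) = (Q ^ 2 - 1) * (q + 1) := by
          rw [show Q ^ 2 - 1 = (Q + 1) * (Q - 1) by simpa using Nat.sq_sub_sq Q 1]
          ring
        rw [hexp, pow_mul, ← hK, FiniteField.pow_card_sub_one_eq_one z hz, one_pow]
      · intro t ht
        rw [← ht, Algebra.norm_algebraMap] at hN
        have h1 : z ^ ((q + 1) * (Q - 1) * finrank F K) = 1 := by
          rw [pow_mul, pow_mul, ← he, ← ht, ← map_pow, hN, map_one]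
        have h2 : orderOf ζ ∣ (q + 1) * (Q - 1) * finrank F K :=
          orderOf_dvd_of_pow_eq_one (Units.ext (by simpa using h1))
        rw [orderOf_eq_card_of_forall_mem_zpowers hζ, Nat.card_eq_fintype_card, Fintype.card_units,
          hK, show Q ^ 2 - 1 = (Q + 1) * (Q - 1) by simpa using Nat.sq_sub_sq Q 1] at h2
        have h3 := Nat.le_of_dvd (Nat.mul_pos (Nat.mul_pos (by omega) (by omega)) (by omega)) h2
        rw [mul_right_comm (q + 1)] at h3
        have h4 := Nat.le_of_mul_le_mul_right h3 (by omega)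
        omega
    let φ : Dual K V :=
      { toFun := fun v => (e - 1) / H y y * H v y
        map_add' := fun u v => by rw [hM.herm.add_left, mul_add]
        map_smul' := fun c v => by
          rw [hM.herm.smul_left, RingHom.id_apply, smul_eq_mul, mul_left_comm] }
    let T := LinearMap.transvection φ y
    have hT : ∀ v, T v = v + ((e - 1) / H y y * H v y) • y := fun v =>
      LinearMap.transvection.apply φ y v
    obtain ⟨u, hu, hux⟩ := hM.klin T (fun v w => by
        simp only [hT, hM.herm.add_left, hM.herm.smul_left, hM.herm.add_right hK, hM.H_smul_right,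
          mul_pow, div_pow, sub_pow_q hK, one_pow, hM.herm.self_fixed, ← hM.herm.conj_symm]
        field_simp
        linear_combination (H v y * H y w) * he1)
      (by
        rw [LinearMap.transvection.det]
        show Algebra.norm F (1 + (e - 1) / H y y * H y y) = 1
        rw [div_mul_cancel₀ _ hyy, add_sub_cancel, heN])
    have hstab : ∀ v ∈ L', ((e - 1) / H y y * H v y) • y ∈ L' := fun v hv => by
      have h1 := L'.sub_mem (hfix u hu (by rw [hux, hT, hxy, mul_zero, zero_smul, add_zero]) v hv) hv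
      rwa [hux, hT, add_sub_cancel_left] at h1
    have hzy : H z y = H y y := by
      conv_rhs => enter [1]; rw [hy]
      rw [hM.herm.sub_left, hM.herm.smul_left, hxy, mul_zero, sub_zero]
    have hey : (e - 1) • y ∈ L' := by
      have := hstab z hz
      rwa [hzy, div_mul_cancel₀ _ hyy] at this
    have he0 : e - 1 ≠ 0 := fun h => heF 1 (by rw [map_one]; exact (sub_eq_zero.1 h).symm)
    have hinv : ∀ k : K, k • y ∈ L' → (e * k) • y ∈ L' := fun k hk => by
      have := L'.add_mem (hstab _ hk) hk
      rw [hM.herm.smul_left, ← add_smul] at this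
      convert this using 2
      field_simp
      ring
    let C : Subalgebra F K :=
      { carrier := {c | ∀ k : K, k • y ∈ L' → (c * k) • y ∈ L'}
        mul_mem' := fun {c d} hc hd k hk => by rw [mul_assoc]; exact hc _ (hd k hk)
        add_mem' := fun {c d} hc hd k hk => by
          rw [add_mul, add_smul]; exact L'.add_mem (hc k hk) (hd k hk)
        algebraMap_mem' := fun c k hk => by
          rw [← Algebra.smul_def, smul_assoc]; exact L'.smul_mem c hk }
    haveI := Subalgebra.isSimpleOrder_of_finrank_prime F K hM.deg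
    have hC : C = ⊤ := (eq_bot_or_eq_top C).resolve_left fun h => by
      have : e ∈ C := hinv
      rw [h, Algebra.mem_bot] at this
      obtain ⟨t, ht⟩ := this
      exact heF t ht
    obtain ⟨k, hk⟩ := hM.line_not_iso hyy
    refine hk ?_
    have h1 : (k / (e - 1)) ∈ C := by rw [hC]; trivial
    have h2 := h1 (e - 1) hey
    rw [div_mul_cancel₀ _ he0] at h2
    exact hM.lam_img hg hs h2 h2
  obtain ⟨k, hk⟩ := hM.line_not_iso hxx
  refine hk ?_
  have heq : L' = line F K x := Submodule.eq_of_le_of_finrank_eq hspan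
    (by rw [finrank_img ha, finrank_line hx0])
  have h1 : k • x ∈ L' := by rw [heq]; exact mem_line.2 ⟨k, rfl⟩
  exact hM.lam_img hg hs h1 h1

/-- With disjoint images the group normalises the field. -/
theorem norms_of_good
    (hgood : ∀ a : V, a ≠ 0 → H a a = 0 → ∀ g ∈ M, img K a g ≠ line F K a →
      img K a g ⊓ line F K a = ⊥)
    {g : V ≃ₗ[F] V} (hg : g ∈ M) : Norms K g := by
  classical
  have hK := hM.cardK
  obtain ⟨a, ha, hs⟩ := hM.exists_isotropic
  obtain ⟨a', haa', ha'a, hs'⟩ := hM.exists_partner ha hs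
  obtain ⟨k₀, hk₀, hk₀l⟩ := hM.exists_skew_lam
  have hk₀0 : k₀ ≠ 0 := fun h => hk₀l (by rw [h, map_zero])
  obtain ⟨om, hom⟩ : ∃ w : F, w ^ q ≠ w := by
    by_contra hc
    push Not at hc
    have h2 := card_fixed hM.cardF
    rw [Nat.card_congr (Equiv.subtypeUnivEquiv hc), Nat.card_eq_fintype_card, hM.cardF] at h2
    have := two_le_q hM.cardF
    nlinarith
  have key : ∀ k : K, ∃ c : K, ∀ x, g (c • x) = k • g x := by
    intro k
    let J : V →ₗ[F] V := ((g⁻¹ : V ≃ₗ[F] V) : V →ₗ[F] V) ∘ₗ
      ((k • LinearMap.id : V →ₗ[K] V).restrictScalars F) ∘ₗ (g : V →ₗ[F] V)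
    have hgJ : ∀ x, g (J x) = k • g x := fun x => g.apply_symm_apply _
    have heig : ∀ v, v ≠ 0 → H v v = 0 → ∃ c : K, J v = c • v := by
      intro v hv hvs
      obtain ⟨c, -, -, hc⟩ := hM.isotropic_img hgood hv hvs hg
      have h1 : g v ∈ img K v g := ⟨v, mem_line.2 ⟨1, one_smul _ _⟩, rfl⟩
      rw [hc] at h1
      obtain ⟨e, he⟩ := mem_line.1 h1
      have h2 : k • g v ∈ img K v g := by
        rw [hc, ← he, smul_smul]; exact mem_line.2 ⟨_, rfl⟩
      obtain ⟨y, hy, hyg⟩ := h2
      obtain ⟨d, rfl⟩ := mem_line.1 hy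
      refine ⟨d, g.injective ?_⟩
      rw [hgJ]
      exact hyg.symm
    choose! c hc using heig
    have hne : ∀ {v w : V}, H v w ≠ 0 → v ≠ 0 := fun {v w} h h0 =>
      h (by rw [h0, hM.herm.zero_left])
    -- a skew product links two eigenvalues
    have hedge : ∀ v w : V, H v v = 0 → H w w = 0 → H v w ≠ 0 → H v w + H w v = 0 →
        c v = c w := by
      intro v w hvs hws hvw hsum
      have hwv : H w v ≠ 0 := fun h => hvw ((hM.herm.eq_zero_symm hK).1 h)
      have hu : H (v + w) (v + w) = 0 := by
        rw [hM.herm.add_left, hM.herm.add_right hK, hM.herm.add_right hK, hvs, hws]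
        linear_combination hsum
      have hu0 : v + w ≠ 0 := hne (w := v) (by rw [hM.herm.add_left, hvs, zero_add]; exact hwv)
      have h1 : c (v + w) • (v + w) = c v • v + c w • w := by
        rw [← hc _ hu0 hu, map_add, hc v (hne hvw) hvs, hc w (hne hwv) hws]
      have e1 := congrArg (fun y => H y v) h1
      have e2 := congrArg (fun y => H y w) h1
      simp only [hM.herm.smul_left, hM.herm.add_left, hvs, hws, zero_add, add_zero, mul_zero]
        at e1 e2
      rw [← mul_right_cancel₀ hvw e2]
      exact mul_right_cancel₀ hwv e1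
    -- constant on each line
    have hlin : ∀ v, v ≠ 0 → H v v = 0 → ∀ l : K, J (l • v) = (c v * l) • v := by
      intro v hv hvs
      obtain ⟨w, hvw, -, hws⟩ := hM.exists_partner hv hvs
      obtain ⟨d, hd0, hd⟩ : ∃ d : K, d ≠ 0 ∧ d + d ^ Q = 0 := ⟨k₀, hk₀0, hk₀⟩
      have hreal : ∀ b : K, b ^ Q = b → J (b • v) = (c v * b) • v := by
        intro b hb
        by_cases hb0 : b = 0
        · simp [hb0]
        have hv' : H (b • v) (b • v) = 0 := by
          rw [hM.herm.smul_left, hM.H_smul_right, hvs, mul_zero, mul_zero]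
        have hw' : H (d • w) (d • w) = 0 := by
          rw [hM.herm.smul_left, hM.H_smul_right, hws, mul_zero, mul_zero]
        have hp : H v (d • w) = d ^ Q := by rw [hM.H_smul_right, hvw, mul_one]
        have hp' : H (d • w) v = d := by
          rw [hM.herm.conj_symm, hp, pow_q_pow_q hK]
        have h1 := hedge v (d • w) hvs hw' (by rw [hp]; exact pow_ne_zero _ hd0)
          (by rw [hp, hp', add_comm]; exact hd)
        have h2 := hedge (b • v) (d • w) hv' hw'
          (by rw [hM.herm.smul_left, hp]; exact mul_ne_zero hb0 (pow_ne_zero _ hd0))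
          (by rw [hM.herm.smul_left, hp, hM.H_smul_right, hp', hb]; linear_combination b * hd)
        rw [hc _ (smul_ne_zero hb0 hv) hv', h2, ← h1, smul_smul]
      intro l
      -- split along a scalar outside the fixed field
      set b₁ : K := (l - l ^ Q) / (algebraMap F K om - algebraMap F K om ^ Q) with hb₁
      have hne' : algebraMap F K om - algebraMap F K om ^ Q ≠ 0 := by
        rw [hM.map_pow_Q, ← map_sub, map_ne_zero]
        exact sub_ne_zero.2 (Ne.symm hom)
      have hb₁f : b₁ ^ Q = b₁ := by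
        rw [hb₁, div_pow, sub_pow_q hK, sub_pow_q hK, pow_q_pow_q hK, pow_q_pow_q hK,
          ← neg_sub l, ← neg_sub (algebraMap F K om), neg_div_neg_eq]
      set b₀ : K := l - algebraMap F K om * b₁ with hb₀
      have hb₀f : b₀ ^ Q = b₀ := by
        rw [hb₀, sub_pow_q hK, mul_pow, hb₁f]
        have : b₁ * (algebraMap F K om - algebraMap F K om ^ Q) = l - l ^ Q := div_mul_cancel₀ _ hne'
        linear_combination this
      have hl : l • v = b₀ • v + om • b₁ • v := by
        rw [hb₀, ← smul_assoc, Algebra.smul_def, ← add_smul, sub_add_cancel]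
      rw [hl, map_add, hreal b₀ hb₀f, map_smul, hreal b₁ hb₁f, ← smul_assoc, Algebra.smul_def,
        ← add_smul, hb₀]
      congr 1
      ring
    have hscal : ∀ v, v ≠ 0 → H v v = 0 → ∀ l : K, l ≠ 0 → c (l • v) = c v := by
      intro v hv hvs l hl
      have hv' : H (l • v) (l • v) = 0 := by
        rw [hM.herm.smul_left, hM.H_smul_right, hvs, mul_zero, mul_zero]
      have h1 := hlin v hv hvs l
      rw [hc _ (smul_ne_zero hl hv) hv', smul_smul] at h1
      exact mul_right_cancel₀ hl (smul_inj hv h1)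
    have hpair : ∀ v w : V, H v v = 0 → H w w = 0 → H v w ≠ 0 → c v = c w := by
      intro v w hvs hws hvw
      have hwv : H w v ≠ 0 := fun h => hvw ((hM.herm.eq_zero_symm hK).1 h)
      set l := k₀ / H w v with hl
      have hl0 : l ≠ 0 := div_ne_zero hk₀0 hwv
      have hlw : H (l • w) v = k₀ := by rw [hM.herm.smul_left, div_mul_cancel₀ _ hwv]
      have hvl : H v (l • w) = k₀ ^ Q := by rw [hM.herm.conj_symm, hlw]
      rw [← hscal w (hne hwv) hws l hl0]
      exact hedge v (l • w) hvs (by rw [hM.herm.smul_left, hM.H_smul_right, hws, mul_zero, mul_zero])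
        (by rw [hvl]; exact pow_ne_zero _ hk₀0) (by rw [hvl, hlw, add_comm]; exact hk₀)
    have hall : ∀ v, v ≠ 0 → H v v = 0 → c v = c a := by
      intro v hv hvs
      by_cases hva : H v a = 0
      · obtain ⟨w, hws, hvw, haw⟩ := hM.exists_common hv hvs ha hs hva
        rw [hpair v w hvs hws hvw, hpair a w hs hws haw]
      · exact hpair v a hvs hs hva
    have hsing : ∀ v, H v v = 0 → J v = c a • v := by
      intro v hvs
      by_cases hv : v = 0
      · simp [hv]
      rw [hc v hv hvs, hall v hv hvs]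
    refine ⟨c a, fun x => ?_⟩
    rw [← hgJ]
    congr 1
    set z := x - H x a' • a - H x a • a' with hz
    have hza : H z a = 0 := by
      rw [hz, hM.herm.sub_left, hM.herm.sub_left, hM.herm.smul_left, hM.herm.smul_left, hs, ha'a]
      ring
    have hza' : H z a' = 0 := by
      rw [hz, hM.herm.sub_left, hM.herm.sub_left, hM.herm.smul_left, hM.herm.smul_left, hs', haa']
      ring
    obtain ⟨t, ht⟩ := exists_trace_eq hK (hM.herm.self_fixed z)
    have hw : H (a + z - t • a') (a + z - t • a') = 0 := by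
      simp only [hM.herm.sub_left, hM.herm.add_left, hM.herm.smul_left, hM.herm.sub_right hK,
        hM.herm.add_right hK, hM.H_smul_right, hs, hs', haa', ha'a, hza, hza',
        (hM.herm.eq_zero_symm hK).1 hza, (hM.herm.eq_zero_symm hK).1 hza']
      linear_combination -ht
    have hm : ∀ (v : V) (l : K), H v v = 0 → H (l • v) (l • v) = 0 := fun v l h => by
      rw [hM.herm.smul_left, hM.H_smul_right, h, mul_zero, mul_zero]
    have hx : x = H x a' • a + H x a • a' + ((a + z - t • a') - a + t • a') := by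
      rw [hz]; abel
    rw [hx, map_add, map_add, map_add, map_sub, hsing _ (hm _ _ hs), hsing _ (hm _ _ hs'),
      hsing _ hw, hsing a hs, hsing _ (hm _ _ hs')]
    simp only [smul_add, smul_sub]
  choose f hf using key
  have hinj : Function.Injective f := fun k l hkl => by
    have h := (hf k a).symm.trans ((congrArg (fun e => g (e • a)) hkl).trans (hf l a))
    exact smul_inj (fun h0 => ha ((LinearEquiv.map_eq_zero_iff g).1 h0)) h
  intro k
  obtain ⟨j, rfl⟩ := Finite.surjective_of_injective hinj k
  exact ⟨j, fun x => hf j x⟩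

end UnOvergroup

end Cfsg.Agent.FieldExtMax
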