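/-
An overgroup of the normaliser of a field of odd prime degree in a special unitary group normalises
it or contains all transvections.

Main definitions: `UCentre`.
Main results: `UnOvergroup.norms_or_centres`, `UnOvergroup.exists_not_norms`.
-/
import Cfsg.Agent.Lib.FieldExtMax.UnLines
import Cfsg.Agent.Lib.FieldExtMax.UnPieces
import Cfsg.Agent.Lib.FieldExtMax.UnSemi

set_option autoImplicit false
set_option linter.unusedSectionVars false

namespace Cfsg.Agent.FieldExtMax

open Module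
open Cfsg.Agent.Unitary

variable {F K V : Type*} [Field F] [Fintype F] [Field K] [Fintype K] [Algebra F K]
  [AddCommGroup V] [Module F V] [Module K V] [IsScalarTower F K V] [Finite V]

/-- All transvections with centre `v` lie in `M`. -/
def UCentre (q : ℕ) (H : V → V → K) (lam : Dual F K) (M : Subgroup (V ≃ₗ[F] V)) (v : V) : Prop :=
  ∀ c : F, c + c ^ q = 0 → ∃ g ∈ M, ∀ x, g x = x + (c * lam (H x v)) • v

variable {q Q : ℕ} {H : V → V → K} {lam : Dual F K} {M : Subgroup (V ≃ₗ[F] V)}

namespace UnOvergroup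

variable (hM : UnOvergroup q Q H lam M)
include hM

lemma centre_map {g : V ≃ₗ[F] V} (hg : g ∈ M) {v : V} (hv : UCentre q H lam M v) :
    UCentre q H lam M (g v) := by
  intro c hc
  obtain ⟨u, hu, hux⟩ := hv c hc
  refine ⟨g * u * g⁻¹, mul_mem (mul_mem hg hu) (inv_mem hg), fun x => ?_⟩
  have hgi : g (g⁻¹ x) = x := g.apply_symm_apply x
  show g (u (g⁻¹ x)) = _
  rw [hux, map_add, map_smul, hgi, ← hM.pres g hg (g⁻¹ x), hgi]

/-- All rank one skew maps on one line give all transvections. -/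
lemma centres_all {a : V} (ha : a ≠ 0) (hs : H a a = 0)
    (h : ∀ l : K, UCentre q H lam M (l • a)) {v : V} (hv : lam (H v v) = 0) :
    UCentre q H lam M v := by
  have hK := hM.cardK
  -- isotropic vectors
  have hiso : ∀ w, H w w = 0 → UCentre q H lam M w := by
    intro w hw
    by_cases hw0 : w = 0
    · subst hw0; simpa using h 0
    obtain ⟨g, hg, hgl, -, l, hl, hga⟩ := hM.exists_line_move ha hs hw0 hw
    have h1 := hM.centre_map hg (h l⁻¹)
    rwa [hgl, hga, smul_smul, inv_mul_cancel₀ hl, one_smul] at h1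
  by_cases hvv : H v v = 0
  · exact hiso v hvv
  -- an isotropic vector not orthogonal to `v`
  obtain ⟨w, hws, hvw⟩ : ∃ w, H w w = 0 ∧ H v w ≠ 0 := by
    obtain ⟨a', haa', ha'a, hs'⟩ := hM.exists_partner ha hs
    by_contra hcon
    push Not at hcon
    have hva : H v a = 0 := hcon a hs
    have hva' : H v a' = 0 := hcon a' hs'
    have hav : H a v = 0 := (hM.herm.eq_zero_symm hK).1 hva
    have ha'v : H a' v = 0 := (hM.herm.eq_zero_symm hK).1 hva'
    obtain ⟨t, ht⟩ := exists_trace_eq hK (c := -H v v) (by rw [neg_pow_q hK, hM.herm.self_fixed])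
    refine hvv ?_
    have h1 := hcon (v + a + t • a') (by
      simp only [hM.herm.add_left, hM.herm.smul_left, hM.herm.add_right hK, hM.H_smul_right, hs,
        hs', haa', ha'a, hva, hva', hav, ha'v]
      linear_combination ht)
    simpa [hM.herm.add_right hK, hM.H_smul_right, hva, hva'] using h1
  -- a splitting of the value with non-zero trace
  obtain ⟨t, ht, htl⟩ : ∃ t : K, t + t ^ Q = H v v ∧ lam t ≠ 0 := by
    obtain ⟨t, ht⟩ := exists_trace_eq hK (hM.herm.self_fixed v)
    by_cases h0 : lam t = 0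
    · obtain ⟨k, hk, hkl⟩ := hM.exists_skew_lam
      refine ⟨t + k, ?_, by rw [map_add, h0, zero_add]; exact hkl⟩
      rw [add_pow_q hK]
      linear_combination ht + hk
    · exact ⟨t, ht, h0⟩
  set k := (t / H v w) ^ Q with hk
  set u := k • w with hu
  have huu : H u u = 0 := by
    rw [hu, hM.herm.smul_left, hM.H_smul_right, hws, mul_zero, mul_zero]
  have hvu : H v u = t := by
    rw [hu, hM.H_smul_right, hk, pow_q_pow_q hK, div_mul_cancel₀ _ hvw]
  have huv : H u v = t ^ Q := by rw [hM.herm.conj_symm, hvu]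
  set v₀ := v - u with hv₀
  have h₀ : H v₀ v₀ = 0 := by
    rw [hv₀, hM.herm.sub_left, hM.herm.sub_right hK, hM.herm.sub_right hK, hvu, huv, huu]
    linear_combination -ht
  have h₀u : H v₀ u = t := by rw [hv₀, hM.herm.sub_left, hvu, huu, sub_zero]
  have hsum : lam t + lam t ^ q = 0 := by rw [← hM.lam_pow, ← map_add, ht, hv]
  obtain ⟨g, hg, hgx⟩ := hiso u huu (lam t)⁻¹ (by
    rw [inv_pow, eq_neg_of_add_eq_zero_right hsum, inv_neg, add_neg_cancel])
  have h1 := hM.centre_map hg (hiso v₀ h₀)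
  rwa [hgx, h₀u, inv_mul_cancel₀ htl, one_smul, hv₀, sub_add_cancel] at h1

/-- The dichotomy. -/
theorem norms_or_centres :
    (∀ g ∈ M, Norms K g) ∨ ∀ v : V, lam (H v v) = 0 → UCentre q H lam M v := by
  by_cases hgood : ∀ a : V, a ≠ 0 → H a a = 0 → ∀ g ∈ M, img K a g ≠ line F K a →
      img K a g ⊓ line F K a = ⊥
  · exact Or.inl fun g hg => hM.norms_of_good hgood hg
  push Not at hgood
  obtain ⟨a, ha, hs, g, hg, hne, hbot⟩ := hgood
  obtain ⟨δ, v₁, v₂, hδ, hv₁, hv₂, hind, h₁, h₂, t₁, t₂⟩ :=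
    hM.pair_of_meet ha hs ⟨g, hg, hne, hbot⟩
  refine Or.inr fun v hv => hM.centres_all ha hs (fun l c hc => ?_) hv
  obtain ⟨u, hu, hux⟩ := hM.centres_of_pair ha hs hδ hv₁ hv₂ hind h₁ h₂ t₁ t₂ l hc
  exact ⟨u, hu, fun x => by rw [hux, hM.H_smul_right, mul_comm (H x a)]⟩

omit hM in
/-- A transvection with centre on a line does not normalise the field. -/
theorem exists_not_norms (hM : UnOvergroup q Q H lam M) :
    ∃ (a : V) (c : F), lam (H a a) = 0 ∧ c + c ^ q = 0 ∧
      ∀ g : V ≃ₗ[F] V, (∀ x, g x = x + (c * lam (H x a)) • a) → ¬ Norms K g := by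
  obtain ⟨a, ha, hs⟩ := hM.exists_isotropic
  obtain ⟨a', -, ha'a, -⟩ := hM.exists_partner ha hs
  obtain ⟨c, hc0, hc⟩ := exists_skew hM.cardF
  refine ⟨a, c, by rw [hs, map_zero], by rw [hc, add_neg_cancel], fun g hg hN => ?_⟩
  haveI : Module.Finite F K := Module.Finite.of_finite
  obtain ⟨z, hz, hz0⟩ : ∃ z ∈ LinearMap.ker lam, z ≠ 0 := by
    refine (Submodule.ne_bot_iff _).1 (LinearMap.ker_ne_bot_of_finrank_lt ?_)
    rw [Module.finrank_self]
    exact hM.deg.one_lt
  rw [LinearMap.mem_ker] at hz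
  obtain ⟨k, hk⟩ := lam_ne_zero hM.lam_ne hz0
  obtain ⟨k', hk'⟩ := hN k
  set x := z • a' with hx
  have hxa : H x a = z := by rw [hx, hM.herm.smul_left, ha'a, mul_one]
  have h1 := hk' x
  rw [hg, hg, hM.herm.smul_left, hxa, hz, mul_zero, zero_smul, add_zero] at h1
  have h2 := congrArg (fun y => H y a) h1
  simp only [hM.herm.add_left, hM.herm.smul_left, hxa] at h2
  have h3 : H ((c * lam (k * z)) • a) a = 0 := by
    rw [← one_smul K a, ← smul_assoc, hM.herm.smul_left, one_smul, hs, mul_zero]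
  rw [h3, add_zero] at h2
  rw [mul_right_cancel₀ hz0 h2] at h1
  have h4 : (c * lam (k' * z)) • a = 0 := add_left_cancel (h1.trans (add_zero _).symm)
  rw [smul_eq_zero] at h4
  rw [mul_right_cancel₀ hz0 h2] at hk
  exact mul_ne_zero hc0 hk (h4.resolve_right ha)

end UnOvergroup

end Cfsg.Agent.FieldExtMax
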