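/-
The normaliser of an adjoint closed field of odd prime degree is maximal in the special unitary group,
when the dimension over the field is at least two.

Main results: `isMaximalIn_unitary_extension_normalizer`.
-/
import Cfsg.Agent.Lib.FieldExtMax.UnMain
import Cfsg.Agent.Lib.FieldExtMax.Main
import Cfsg.Agent.Lib.Unitary.Maximal
import Mathlib.FieldTheory.Galois.Basic

set_option autoImplicit false
set_option linter.unusedSectionVars false

namespace Cfsg.Agent.FieldExtMax

open Module Matrix Transvect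
open Cfsg.Agent.Unitary

variable {F : Type*} [Field F] [Fintype F] {q n : ℕ}

attribute [-simp] app_apply

theorem isMaximalIn_extension_aux {L : Type*} [Field L] [Fintype L] [Algebra F L] {r : ℕ}
    (hr : r.Prime) (hro : Odd r) (hF : Fintype.card F = q ^ 2) (hn : 2 * r ≤ n)
    (hsmall : 3 ≤ q ∨ r ≠ 3 ∨ 2 * r < n) (j : L →ₐ[F] Matrix (Fin n) (Fin n) F)
    (hdeg : finrank F L = r) {K : Subalgebra F (Matrix (Fin n) (Fin n) F)}
    (hjK : ∀ x, x ∈ K ↔ ∃ l, j l = x)
    (hac : Cfsg.Geo.IsAdjointClosedFor (Cfsg.hermForm n F q) K) :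
    Cfsg.Geo.IsMaximalIn (suGL n F q) (Cfsg.Geo.subalgebraNormalizer K ⊓ suGL n F q) := by
  classical
  have hr2 := hr.two_le
  haveI : Nonempty (Fin n) := ⟨⟨0, by omega⟩⟩
  haveI : Module.Finite F L := Module.Finite.of_finite
  let ρ : L →+* ((Fin n → F) →ₗ[F] (Fin n → F)) :=
    (Matrix.toLinAlgEquiv' : Matrix (Fin n) (Fin n) F ≃ₐ[F] _).toAlgHom.toRingHom.comp j.toRingHom
  letI : Module L (Fin n → F) := Module.compHom _ ρ
  have hsmul : ∀ (k : L) (x : Fin n → F), k • x = j k *ᵥ x := fun k x => by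
    show ρ k x = _
    simp [ρ]
  haveI : IsScalarTower F L (Fin n → F) := ⟨fun c k x => by
    rw [hsmul, hsmul, map_smul, Matrix.smul_mulVec]⟩
  set Q := q ^ r with hQ
  have hL : Fintype.card L = Q ^ 2 := by
    rw [Module.card_eq_pow_finrank (K := F), hF, hdeg, hQ, ← pow_mul, ← pow_mul, mul_comm]
  have H := hermForm_isHerm hF n
  have hnd := hermForm_nondeg hF n
  obtain ⟨m, hm⟩ := hro
  have hcQ : ∀ c : F, c ^ Q = c ^ q := by
    intro c
    rw [hQ, hm]
    clear hm
    induction m with
    | zero => simp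
    | succ k ih =>
      rw [show 2 * (k + 1) + 1 = 2 * k + 1 + 1 + 1 by ring, pow_succ, pow_succ, pow_mul, pow_mul, ih,
        pow_q_pow_q hF]
  -- the adjoint is the power `Q`
  have hex : ∀ k : L, ∃ k' : L, ∀ u v : Fin n → F, Cfsg.hermForm n F q (k • u) v = Cfsg.hermForm n F q u (k' • v) := by
    intro k
    obtain ⟨x, hx, hxf⟩ := hac _ ((hjK _).2 ⟨k, rfl⟩)
    obtain ⟨k', rfl⟩ := (hjK _).1 hx
    exact ⟨k', fun u v => by rw [hsmul, hsmul]; exact hxf u v⟩
  choose ad had using hex
  obtain ⟨v₁, hv₁⟩ : ∃ v : Fin n → F, v ≠ 0 := exists_ne 0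
  have huniq : ∀ a b : L, (∀ u v, Cfsg.hermForm n F q u (a • v) = Cfsg.hermForm n F q u (b • v)) → a = b := fun a b h =>
    smul_inj hv₁ (sub_eq_zero.1 (hnd _ fun y => by
      rw [H.eq_zero_symm hF, H.sub_right hF, h, sub_self]))
  have had_add : ∀ a b, ad (a + b) = ad a + ad b := fun a b => huniq _ _ fun u v => by
    rw [← had, add_smul, H.add_left, had, had, add_smul, H.add_right hF]
  have had_mul : ∀ a b, ad (a * b) = ad a * ad b := fun a b => huniq _ _ fun u v => by
    rw [← had, mul_smul, had, had, ← mul_smul, mul_comm]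
  have had_F : ∀ c : F, ad (algebraMap F L c) = algebraMap F L (c ^ q) := fun c =>
    huniq _ _ fun u v => by
      rw [← had, algebraMap_smul, algebraMap_smul, H.smul_left, H.smul_right, pow_q_pow_q hF]
  have had_had : ∀ a, ad (ad a) = a := fun a => huniq _ _ fun u v => by
    rw [← had, H.conj_symm v, ← had, ← H.conj_symm]
  have had_one : ad 1 = 1 := by simpa using had_F 1
  have had_zero : ad 0 = 0 := by simpa [zero_pow_q hF] using had_F 0
  let adHom : L →+* L :=
    { toFun := ad, map_one' := had_one, map_mul' := had_mul, map_zero' := had_zero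
      map_add' := had_add }
  have hQhom : ∀ a, ad (a ^ Q) = ad a ^ Q := fun a => map_pow adHom a Q
  have hadQ : ∀ k, ad k = k ^ Q := by
    let φ : L →ₐ[F] L :=
      { adHom.comp (Cfsg.Agent.Unitary.conjHom hL) with
        commutes' := fun c => by
          show ad (algebraMap F L c ^ Q) = algebraMap F L c
          rw [← map_pow, had_F, hcQ, pow_q_pow_q hF] }
    have hφ : ∀ k, φ (φ k) = k := fun k => by
      show ad ((ad (k ^ Q)) ^ Q) = k
      rw [hQhom (ad (k ^ Q)), had_had, pow_q_pow_q hL]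
    let e : L ≃ₐ[F] L := AlgEquiv.ofBijective φ
      ⟨fun a b h => by rw [← hφ a, h, hφ], fun b => ⟨φ b, hφ b⟩⟩
    have he2 : e ^ 2 = 1 := AlgEquiv.ext fun k => by
      rw [pow_two]; exact hφ k
    have her : e ^ r = 1 := by
      rw [← hdeg, ← IsGalois.card_aut_eq_finrank F L]
      exact pow_card_eq_one'
    have he : e = 1 := by
      have h1 : orderOf e ∣ Nat.gcd 2 r :=
        Nat.dvd_gcd (orderOf_dvd_of_pow_eq_one he2) (orderOf_dvd_of_pow_eq_one her)
      rw [hm, show Nat.gcd 2 (2 * m + 1) = 1 by simp] at h1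
      exact orderOf_eq_one_iff.1 (Nat.dvd_one.1 h1)
    intro k
    have h1 : φ (k ^ Q) = k ^ Q := by
      show e (k ^ Q) = k ^ Q
      rw [he]; rfl
    change ad ((k ^ Q) ^ Q) = k ^ Q at h1
    rwa [pow_q_pow_q hL] at h1
  -- the form over the field
  set lam : Dual F L := Algebra.trace F L with hlam
  have hl : lam ≠ 0 := Algebra.trace_ne_zero F L
  have htr : ∀ x, algebraMap F L (lam x) = ∑ i ∈ Finset.range (finrank F L), x ^ ((q ^ 2) ^ i) :=
    fun x => by
      rw [hlam, FiniteField.algebraMap_trace_eq_sum_pow, Nat.card_eq_fintype_card (α := F), hF]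
  have hlamQ : ∀ x, lam (x ^ Q) = lam x ^ q := fun x => by
    apply (algebraMap F L).injective
    rw [← hcQ (lam x), map_pow (algebraMap F L), htr, htr, ← conjHom_apply hL (∑ i ∈ Finset.range _, _), map_sum]
    refine Finset.sum_congr rfl fun i _ => ?_
    simp only [conjHom_apply, ← pow_mul]
    ring_nf
  have hexb : ∀ x y : Fin n → F, ∃ b : L, ∀ k : L, Cfsg.hermForm n F q (k • x) y = lam (b * k) := fun x y =>
    lam_repr hl
      { toFun := fun k => Cfsg.hermForm n F q (k • x) y
        map_add' := fun k l => by rw [add_smul, H.add_left]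
        map_smul' := fun c k => by rw [smul_assoc, H.smul_left]; rfl }
  choose b hb using hexb
  have hb' : ∀ x y k, lam (k * b x y) = Cfsg.hermForm n F q (k • x) y := fun x y k => by rw [hb, mul_comm]
  have hlH : ∀ x y, lam (b x y) = Cfsg.hermForm n F q x y := fun x y => by simpa using hb' x y 1
  have hherm : IsHerm Q b :=
    { add_left := fun x y z => lam_ext hl fun k => by
        rw [mul_add, map_add, hb', hb', hb', smul_add, H.add_left]
      smul_left := fun c x z => lam_ext hl fun k => by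
        rw [← mul_assoc, hb', hb', smul_smul]
      conj_symm := fun x y => lam_ext hl fun k => by
        have h1 : Cfsg.hermForm n F q (k • y) x = Cfsg.hermForm n F q (k ^ Q • x) y ^ q := by
          rw [had (k ^ Q), hadQ, pow_q_pow_q hL, ← H.conj_symm]
        rw [hb', h1, ← hb', ← hlamQ, mul_pow, pow_q_pow_q hL] }
  have hbnd : Nondeg b := fun x hx => hnd x fun y => by rw [← hlH, hx, map_zero]
  have hdim : r * finrank L (Fin n → F) = n := by
    rw [← hdeg, Module.finrank_mul_finrank F L (Fin n → F), Module.finrank_fintype_fun_eq_card,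
      Fintype.card_fin]
  have hdim2 : 2 ≤ finrank L (Fin n → F) := by
    by_contra hc
    have : r * finrank L (Fin n → F) ≤ r * 1 := Nat.mul_le_mul_left r (by omega)
    omega
  have hnorm : ∀ g : GL (Fin n) F, g ∈ Cfsg.Geo.subalgebraNormalizer K ↔ Norms L (app g) :=
    fun g => mem_normalizer_iff j hjK hsmul g
  have hiso : ∀ g : GL (Fin n) F, g ∈ Cfsg.GU n F q ↔
      ∀ x y, lam (b (app g x) (app g y)) = lam (b x y) := fun g => by
    simp only [hlH, app_apply]; exact Iff.rfl
  have happ : ∀ e : (Fin n → F) ≃ₗ[F] (Fin n → F), ∃ g : GL (Fin n) F, app g = e ∧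
      (g : Matrix (Fin n) (Fin n) F).det = LinearMap.det (e : (Fin n → F) →ₗ[F] Fin n → F) :=
    fun e => by
    refine ⟨⟨LinearMap.toMatrix' (e : (Fin n → F) →ₗ[F] Fin n → F),
      LinearMap.toMatrix' (e.symm : (Fin n → F) →ₗ[F] Fin n → F), ?_, ?_⟩, ?_, ?_⟩
    · rw [← LinearMap.toMatrix'_comp]; simp
    · rw [← LinearMap.toMatrix'_comp]; simp
    · ext x : 1
      simp [app_apply, LinearMap.toMatrix'_mulVec]
    · exact LinearMap.det_toMatrix' _
  -- overgroups
  have hover : ∀ M : Subgroup (GL (Fin n) F),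
      Cfsg.Geo.subalgebraNormalizer K ⊓ suGL n F q ≤ M → M ≤ suGL n F q →
      UnOvergroup q Q b lam (M.map app) := fun M hM hMs =>
    { cardF := hF
      deg := by rw [hdeg]; exact hr
      odd := by rw [hdeg]; exact ⟨m, hm⟩
      Qeq := by rw [hdeg]
      herm := hherm
      nd := hbnd
      dim := hdim2
      small := by
        rcases hsmall with h | h | h
        · exact Or.inl h
        · exact Or.inr (Or.inr (by rw [hdeg]; exact h))
        · refine Or.inr (Or.inl ?_)
          by_contra hc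
          have : r * finrank L (Fin n → F) ≤ r * 2 := Nat.mul_le_mul_left r (by omega)
          omega
      tr := htr
      lam_ne := hl
      klin := fun φ hφ hdet => by
        have hinj : Function.Injective φ := by
          intro x y h
          refine sub_eq_zero.1 (hbnd _ fun z => ?_)
          rw [← hφ, map_sub, h, sub_self, hherm.zero_left]
        let e : (Fin n → F) ≃ₗ[F] (Fin n → F) := LinearEquiv.ofBijective (φ.restrictScalars F)
          ⟨hinj, Finite.surjective_of_injective hinj⟩
        obtain ⟨g, hge, hgd⟩ := happ e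
        refine ⟨e, ⟨g, hM ⟨(hnorm g).2 ?_, (hiso g).2 ?_, ?_⟩, hge⟩, fun x => rfl⟩
        · rw [hge]; exact fun k => ⟨k, fun x => φ.map_smul k x⟩
        · rw [hge]; exact fun x y => congrArg lam (hφ x y)
        · refine MonoidHom.mem_ker.2 (Units.ext ?_)
          show (g : Matrix (Fin n) (Fin n) F).det = 1
          rw [hgd, show ((e : (Fin n → F) →ₗ[F] Fin n → F)) = φ.restrictScalars F from rfl,
            LinearMap.det_restrictScalars, hdet]
      pres := by
        rintro _ ⟨g, hg, rfl⟩
        exact (hiso g).1 (hMs hg).1 }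
  refine Cfsg.Agent.Unitary.isMaximalIn_of_forall inf_le_right ?_ fun M hHM hMK g hgM hgH => ?_
  · obtain ⟨a, c, ha, hc, hnot⟩ :=
      (hover _ le_rfl inf_le_right).exists_not_norms
    rw [hlH] at ha
    refine ⟨glTransvection hF a ha c hc, suToGU_mem_suGL _, fun hN => hnot (app (glTransvection hF a ha c hc))
      (fun x => ?_) ((hnorm _).1 hN.1)⟩
    rw [app_apply, hlH]
    exact transvection_mulVec a x c
  · rcases (hover M hHM hMK).norms_or_centres with h | h
    · exact absurd ⟨(hnorm g).2 (h _ ⟨g, hgM, rfl⟩), hMK hgM⟩ hgH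
    · refine le_of_centres hF (Or.inl (by omega)) fun v hv => ⟨hv, fun g' c hc hg' => ?_⟩
      obtain ⟨_, ⟨u, huM, rfl⟩, hux⟩ := h v (by rw [hlH]; exact hv) c hc
      rwa [show g' = u from gl_ext fun x => by
        rw [hux, hlH, app_apply, hg', transvection_mulVec]]

/-- The normaliser of an adjoint closed field subalgebra of odd prime degree is maximal. -/
theorem isMaximalIn_unitary_extension_normalizer {r : ℕ} (hr : r.Prime) (hro : Odd r)
    (hF : Fintype.card F = q ^ 2) (hn : 2 * r ≤ n) (hsmall : 3 ≤ q ∨ r ≠ 3 ∨ 2 * r < n)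
    {K : Subalgebra F (Matrix (Fin n) (Fin n) F)} (hK : Cfsg.Geo.IsFieldSubalgebra r K)
    (hac : Cfsg.Geo.IsAdjointClosedFor (Cfsg.hermForm n F q) K) :
    Cfsg.Geo.IsMaximalIn (Cfsg.GU n F q ⊓ Cfsg.Geo.specialLinear (Fin n) F)
      (Cfsg.Geo.subalgebraNormalizer K ⊓ (Cfsg.GU n F q ⊓ Cfsg.Geo.specialLinear (Fin n) F)) := by
  haveI : Finite (Matrix (Fin n) (Fin n) F) := inferInstanceAs (Finite (Fin n → Fin n → F))
  haveI : Nontrivial (Matrix (Fin n) (Fin n) F) := by
    have := hr.two_le
    haveI : Nonempty (Fin n) := ⟨⟨0, by omega⟩⟩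
    infer_instance
  have hA : IsField K := ⟨exists_pair_ne _, fun x y => Subtype.ext (hK.comm _ x.2 _ y.2),
    fun {x} hx => by
      obtain ⟨y, hy, h⟩ := hK.inv _ x.2 (fun h => hx (Subtype.ext h))
      exact ⟨⟨y, hy⟩, Subtype.ext h⟩⟩
  letI : Field K := hA.toField
  letI : Fintype K := Fintype.ofFinite K
  exact isMaximalIn_extension_aux (L := K) hr hro hF hn hsmall K.val hK.finrank_eq
    (fun x => ⟨fun h => ⟨⟨x, h⟩, rfl⟩, fun ⟨l, hl⟩ => hl ▸ l.2⟩) hac

end Cfsg.Agent.FieldExtMax
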